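import Groth.Agent.Lib.InvExt.FiniteFibre
import Groth.Agent.Lib.QCoh.FT
import Groth.Agent.Lib.HomSh.Coherent
import Groth.Agent.Lib.QCoh.Abelian
import Groth.Prelude.Def_FlatMod2

/-!
# Locally free modules are coherent
-/

universe u

open CategoryTheory CategoryTheory.Limits AlgebraicGeometry TopologicalSpace

namespace GrothLib.Euler

variable {X : Scheme.{u}}

theorem isQuasicoherent_freeMod (Y : Scheme.{u}) (n : ℕ) : (FlatMod.freeMod Y n).IsQuasicoherent := by
  let F : Discrete (ULift.{u} (Fin n)) ⥤ Y.Modules := Discrete.functor fun _ => Coh.structureModule Y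
  haveI : (colimit F).IsQuasicoherent := QCoh.isQuasicoherent_colimit F fun _ => inferInstanceAs (Coh.structureModule Y).IsQuasicoherent
  exact QCoh.isQuasicoherent_of_iso (M := colimit F) (Sigma.reindex Equiv.ulift fun _ : Fin n => Coh.structureModule Y)

theorem isQuasicoherent_of_isFinLocFree {M : X.Modules} (hM : FlatMod.IsFinLocFree M) : M.IsQuasicoherent := by
  choose U n hU hφ using fun x => hM x
  refine QCoh.isQuasicoherent_of_restrict M (ι := X) U
    (eq_top_iff.mpr fun x _ => Opens.mem_iSup.mpr ⟨x, hU x⟩) fun x => ?_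
  exact (SheafOfModules.isQuasicoherent.{u} (U x : Scheme.{u}).ringCatSheaf).prop_of_iso (hφ x).some.symm (isQuasicoherent_freeMod _ _)

theorem isCoh_of_isFinLocFree {M : X.Modules} (hM : FlatMod.IsFinLocFree M) : Coh.IsCoh M := by
  have := isQuasicoherent_of_isFinLocFree hM
  refine ⟨this, ?_⟩
  choose U n e hxU he using fun x : X => FinCov.exists_frame_nhd hM x
  choose W hW hxW hWU using fun x : X => exists_isAffineOpen_mem_and_subset (x := x) (U := U x) (hxU x)
  exact QCoh.isFiniteType_of_moduleFinite M W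
    (eq_top_iff.mpr fun x _ => Opens.mem_iSup.mpr ⟨x, hxW x⟩) hW
    fun x => Module.Finite.of_basis ((he x).basis (W x) (hWU x))

theorem isFinLocFree_of_isInvertible {M : X.Modules} (hM : PicF.IsInvertible M) : FlatMod.IsFinLocFree M := by
  intro x
  obtain ⟨U, hx, ⟨φ⟩⟩ := hM x
  exact ⟨U, 1, hx, ⟨φ ≪≫ (coproductUniqueIso fun _ : Fin 1 => Coh.structureModule (↑U)).symm⟩⟩

theorem isCoh_of_isInvertible {M : X.Modules} (hM : PicF.IsInvertible M) : Coh.IsCoh M :=
  isCoh_of_isFinLocFree (isFinLocFree_of_isInvertible hM)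

theorem isInvertible_structure : PicF.IsInvertible (Coh.structureModule X) := fun _ =>
  ⟨⊤, trivial, ⟨Scheme.Modules.restrictUnitIso _⟩⟩

end GrothLib.Euler
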