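import Groth.Agent.Lib.WeakAss.Basic
import Groth.Agent.Lib.QCoh.FT
import Groth.Agent.Lib.FinCov.FrameFree
import Mathlib.AlgebraicGeometry.Noetherian

/-!
# Frames from bases of stalks
-/

universe u

open CategoryTheory CategoryTheory.Limits AlgebraicGeometry TopologicalSpace Opposite

namespace GrothLib.Euler

open GrothLib.FinCov (IsFrame)
open GrothLib.WeakAss (primeAt germ_smul notMem_primeAt_iff)

variable {X : Scheme.{u}} {F : X.Modules} {n : ℕ}

/-- The combination of stalk elements. -/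
theorem germ_sum_smul {W : X.Opens} {y : X} (hy : y ∈ W) (c : Fin n → Γ(X, W)) (e : Fin n → Γ(F, W)) :
    F.presheaf.germ W y hy (∑ i, c i • e i) =
      ∑ i, X.presheaf.germ W y hy (c i) • F.presheaf.germ W y hy (e i) := by
  rw [map_sum]
  exact Finset.sum_congr rfl fun i _ => germ_smul hy _ _

/-- Sections whose germs form bases of all stalks form a frame. -/
theorem isFrame_of_stalk_basis {V : X.Opens} {e : Fin n → Γ(F, V)}
    (h : ∀ (y : X) (hy : y ∈ V), Function.Bijective fun c : Fin n → X.presheaf.stalk y =>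
      ∑ i, c i • F.presheaf.germ V y hy (e i)) : IsFrame F V e := by
  intro W hW
  have hg : ∀ (T : X.Opens) (hT : T ≤ V) (y : X) (hy : y ∈ T) (c : Fin n → Γ(X, T)),
      F.presheaf.germ T y hy (∑ i, c i • F.presheaf.map (homOfLE hT).op (e i)) =
        ∑ i, X.presheaf.germ T y hy (c i) • F.presheaf.germ V y (hT hy) (e i) := by
    intro T hT y hy c
    rw [germ_sum_smul]
    exact Finset.sum_congr rfl fun i _ => by rw [TopCat.Presheaf.germ_res_apply]
  constructor
  · intro c d hcd
    funext i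
    refine TopCat.Presheaf.section_ext X.sheaf W _ _ fun y hy => ?_
    have := congrArg (F.presheaf.germ W y hy) hcd
    dsimp only at this
    rw [hg, hg] at this
    exact congrFun ((h y (hW hy)).1 this) i
  · intro m
    have hloc : ∀ y : W, ∃ (T : X.Opens) (j : T ⟶ W) (_ : y.1 ∈ T) (c : Fin n → Γ(X, T)),
        F.presheaf.map j.op m = ∑ i, c i • F.presheaf.map (homOfLE (j.le.trans hW)).op (e i) := by
      intro y
      obtain ⟨a, ha⟩ := (h y.1 (hW y.2)).2 (F.presheaf.germ W y.1 y.2 m)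
      choose U hU r hr using fun i => TopCat.Presheaf.exists_germ_eq X.presheaf (a i)
      let U₀ : X.Opens := ⟨⋂ i, (U i : Set X), isOpen_iInter_of_finite fun i => (U i).isOpen⟩
      have hyU : y.1 ∈ U₀ ⊓ W := ⟨Set.mem_iInter.2 hU, y.2⟩
      let i₁ : ∀ i, U₀ ⊓ W ⟶ U i := fun i => homOfLE (inf_le_left.trans fun z hz => Set.mem_iInter.1 hz i)
      let i₂ : U₀ ⊓ W ⟶ W := homOfLE inf_le_right
      have e1 : F.presheaf.germ (U₀ ⊓ W) y.1 hyU
          (∑ i, X.presheaf.map (i₁ i).op (r i) • F.presheaf.map (homOfLE (i₂.le.trans hW)).op (e i)) =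
          F.presheaf.germ (U₀ ⊓ W) y.1 hyU (F.presheaf.map i₂.op m) := by
        rw [hg, TopCat.Presheaf.germ_res_apply, ← ha]
        exact Finset.sum_congr rfl fun i _ => by rw [TopCat.Presheaf.germ_res_apply, hr]
      obtain ⟨T, hT, i, i', heq⟩ := TopCat.Presheaf.germ_eq F.presheaf y.1 hyU hyU _ _ e1
      obtain rfl : i = i' := Subsingleton.elim _ _
      refine ⟨T, i ≫ i₂, hT, fun k => X.presheaf.map i.op (X.presheaf.map (i₁ k).op (r k)), ?_⟩
      rw [op_comp, Functor.map_comp, ConcreteCategory.comp_apply, ← heq, map_sum]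
      refine Finset.sum_congr rfl fun k _ => ?_
      rw [Scheme.Modules.map_smul]
      congr 1
      rw [← ConcreteCategory.comp_apply, ← Functor.map_comp]
      rfl
    choose T j hyT c hc using hloc
    have hcov : W ≤ iSup T := fun y hy => Opens.mem_iSup.2 ⟨⟨y, hy⟩, hyT ⟨y, hy⟩⟩
    have hcompat : ∀ i : Fin n, TopCat.Presheaf.IsCompatible X.presheaf T fun a => c a i := by
      intro i a b
      refine TopCat.Presheaf.section_ext X.sheaf _ _ _ fun z hz => ?_
      change X.presheaf.germ _ z hz (X.presheaf.map _ (c a i)) = X.presheaf.germ _ z hz (X.presheaf.map _ (c b i))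
      rw [TopCat.Presheaf.germ_res_apply, TopCat.Presheaf.germ_res_apply]
      have ha := congrArg (F.presheaf.germ (T a) z hz.1) (hc a)
      have hb := congrArg (F.presheaf.germ (T b) z hz.2) (hc b)
      rw [TopCat.Presheaf.germ_res_apply, hg] at ha hb
      exact congrFun ((h z (hW ((j a).le hz.1))).1
        (a₁ := fun i => X.presheaf.germ (T a) z hz.1 (c a i))
        (a₂ := fun i => X.presheaf.germ (T b) z hz.2 (c b i)) (ha.symm.trans hb)) i
    choose g hgl hgu using fun i => X.sheaf.existsUnique_gluing' T W j hcov (fun a => c a i) (hcompat i)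
    let g' : Fin n → Γ(X, W) := g
    refine ⟨g', TopCat.Presheaf.section_ext (C := Ab.{u}) (X := X.carrier) ⟨F.presheaf, F.isSheaf⟩ W _ _
      fun y hy => ?_⟩
    change F.presheaf.germ W y hy (∑ i, g' i • F.presheaf.map (homOfLE hW).op (e i)) =
      F.presheaf.germ W y hy m
    have h2 := congrArg (F.presheaf.germ (T ⟨y, hy⟩) y (hyT ⟨y, hy⟩)) (hc ⟨y, hy⟩)
    rw [TopCat.Presheaf.germ_res_apply, hg] at h2
    rw [hg, h2]
    refine Finset.sum_congr rfl fun i _ => ?_
    have h1 := congrArg (X.presheaf.germ (T ⟨y, hy⟩) y (hyT ⟨y, hy⟩)) (hgl i ⟨y, hy⟩)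
    erw [TopCat.Presheaf.germ_res_apply] at h1
    exact congrArg (· • _) h1

/-- A coherent module with a basis of one stalk has a frame nearby. -/
theorem exists_frame_of_stalk_basis [IsLocallyNoetherian X] (hF : Coh.IsCoh F) {x : X}
    (b : Module.Basis (Fin n) (X.presheaf.stalk x) (F.presheaf.stalk x)) :
    ∃ (D : X.Opens) (e : Fin n → Γ(F, D)), x ∈ D ∧ IsFrame F D e := by
  classical
  haveI := hF.1
  obtain ⟨V, hV, hxV, -⟩ := exists_isAffineOpen_mem_and_subset (x := x) (U := ⊤) trivial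
  haveI : IsNoetherianRing Γ(X, V) := IsLocallyNoetherian.component_noetherian ⟨V, hV⟩
  haveI : Module.Finite Γ(X, V) Γ(F, V) := QCoh.moduleFinite_of_isFiniteType F hF.2 hV
  choose c z hc hz using fun i => WeakAss.exists_smul_eq_germ hV hxV (b i)
  have hcu : ∀ i, IsUnit (X.presheaf.germ V x hxV (c i)) := fun i =>
    (Scheme.mem_basicOpen _ (c i) x hxV).mp (notMem_primeAt_iff.mp (hc i))
  have hcomb : ∀ a : Fin n → X.presheaf.stalk x, ∑ i, a i • F.presheaf.germ V x hxV (z i) =
      ∑ i, (a i * X.presheaf.germ V x hxV (c i)) • b i := fun a =>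
    Finset.sum_congr rfl fun i _ => by rw [← hz i, smul_smul]
  let L : (Fin n → Γ(X, V)) →ₗ[Γ(X, V)] Γ(F, V) := Fintype.linearCombination Γ(X, V) z
  have hL : ∀ a, L a = ∑ i, a i • z i := fun a => Fintype.linearCombination_apply _ _ _
  -- spanning
  obtain ⟨S, hS⟩ := (‹Module.Finite Γ(X, V) Γ(F, V)›).fg_top
  have hspan : ∀ t : Γ(F, V), ∃ d : Γ(X, V), d ∉ primeAt x hxV ∧ d • t ∈ LinearMap.range L := by
    intro t
    obtain ⟨β, hβ⟩ := b.equivFun.symm.surjective (F.presheaf.germ V x hxV t)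
    rw [Module.Basis.equivFun_symm_apply] at hβ
    -- clear denominators
    have hden : ∀ i, ∃ (s : Γ(X, V)) (a : Γ(X, V)), s ∉ primeAt x hxV ∧
        X.presheaf.germ V x hxV s * β i = X.presheaf.germ V x hxV a * X.presheaf.germ V x hxV (c i) := by
      intro i
      letI : Algebra Γ(X, V) (X.presheaf.stalk x) :=
        TopCat.Presheaf.algebra_section_stalk X.presheaf (⟨x, hxV⟩ : V)
      have hloc : IsLocalization.AtPrime (X.presheaf.stalk x) (hV.primeIdealOf ⟨x, hxV⟩).asIdeal :=
        hV.isLocalization_stalk ⟨x, hxV⟩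
      obtain ⟨a, s, hw⟩ := IsLocalization.exists_mk'_eq (hV.primeIdealOf ⟨x, hxV⟩).asIdeal.primeCompl
        (β i * ↑(hcu i).unit⁻¹)
      refine ⟨(s : Γ(X, V)), a, ?_, ?_⟩
      · intro hm
        exact (IsLocalRing.mem_maximalIdeal _).1 hm (IsLocalization.map_units (X.presheaf.stalk x) s)
      · have h1 := IsLocalization.mk'_spec (X.presheaf.stalk x) a s
        rw [hw] at h1
        change β i * ↑(hcu i).unit⁻¹ * X.presheaf.germ V x hxV (s : Γ(X, V)) = X.presheaf.germ V x hxV a at h1
        rw [← h1, mul_assoc (β i), mul_comm (↑(hcu i).unit⁻¹ : X.presheaf.stalk x), ← mul_assoc, mul_assoc _ _ (X.presheaf.germ V x hxV (c i)),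
          IsUnit.val_inv_mul, mul_one, mul_comm]
    choose s a hs hsa using hden
    let S' := ∏ i, s i
    have hS' : S' ∉ primeAt x hxV := fun hm => by
      obtain ⟨i, -, hi⟩ := Ideal.IsPrime.prod_mem_iff.1 hm
      exact hs i hi
    let A : Fin n → Γ(X, V) := fun i => (∏ k ∈ Finset.univ.erase i, s k) * a i
    have h0 : F.presheaf.germ V x hxV (S' • t - L A) = 0 := by
      rw [map_sub, sub_eq_zero, germ_smul, hL, germ_sum_smul, hcomb, ← hβ, Finset.smul_sum]
      refine Finset.sum_congr rfl fun i _ => ?_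
      rw [smul_smul]
      congr 1
      simp only [A, S', map_mul]
      rw [mul_assoc, ← hsa i, ← mul_assoc, ← map_mul, Finset.prod_erase_mul _ _ (Finset.mem_univ i)]
    obtain ⟨d, hd, hd0⟩ := (WeakAss.germ_eq_zero_iff hV hxV _).1 h0
    refine ⟨d * S', fun hm => ((inferInstance : (primeAt x hxV).IsPrime).mem_or_mem hm).elim hd hS', d • A, ?_⟩
    rw [map_smul, mul_smul]
    rw [smul_sub, sub_eq_zero] at hd0
    exact hd0.symm
  choose d hd hdt using hspan
  -- independence
  obtain ⟨K, hK⟩ := IsNoetherian.noetherian (LinearMap.ker L)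
  have hker : ∀ a ∈ K, ∃ q : Γ(X, V), q ∉ primeAt x hxV ∧ q • a = 0 := by
    intro a ha
    have hLa : L a = 0 := by
      have : a ∈ LinearMap.ker L := hK ▸ Submodule.subset_span ha
      exact this
    have h0 := congrArg (F.presheaf.germ V x hxV) hLa
    rw [map_zero, hL, germ_sum_smul, hcomb] at h0
    have hz0 : ∀ i, X.presheaf.germ V x hxV (a i) = 0 := fun i => by
      have := Fintype.linearIndependent_iff.1 b.linearIndependent _ h0 i
      exact ((hcu i).mul_left_eq_zero).1 this
    have : ∀ i, ∃ q : Γ(X, V), q ∉ primeAt x hxV ∧ q * a i = 0 := fun i => by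
      letI : Algebra Γ(X, V) (X.presheaf.stalk x) :=
        TopCat.Presheaf.algebra_section_stalk X.presheaf (⟨x, hxV⟩ : V)
      have hloc : IsLocalization.AtPrime (X.presheaf.stalk x) (hV.primeIdealOf ⟨x, hxV⟩).asIdeal :=
        hV.isLocalization_stalk ⟨x, hxV⟩
      obtain ⟨q, hq⟩ := (IsLocalization.map_eq_zero_iff (hV.primeIdealOf ⟨x, hxV⟩).asIdeal.primeCompl
        (X.presheaf.stalk x) (a i)).1 (hz0 i)
      exact ⟨q, fun hm => (IsLocalRing.mem_maximalIdeal _).1 hm (IsLocalization.map_units (X.presheaf.stalk x) q), hq⟩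
    choose q hq hqa using this
    refine ⟨∏ i, q i, fun hm => ?_, funext fun i => ?_⟩
    · obtain ⟨i, -, hi⟩ := Ideal.IsPrime.prod_mem_iff.1 hm
      exact hq i hi
    · rw [Pi.smul_apply, smul_eq_mul, ← Finset.prod_erase_mul _ _ (Finset.mem_univ i), mul_assoc, hqa, mul_zero]
      rfl
  choose q hq hqa using hker
  let g : Γ(X, V) := (∏ t ∈ S, d t) * ∏ a ∈ K.attach, q a.1 a.2
  have hg : g ∉ primeAt x hxV := fun hm => by
    rcases (inferInstance : (primeAt x hxV).IsPrime).mem_or_mem hm with h | h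
    · obtain ⟨t, -, ht⟩ := Ideal.IsPrime.prod_mem_iff.1 h; exact hd t ht
    · obtain ⟨a, -, ha⟩ := Ideal.IsPrime.prod_mem_iff.1 h; exact hq a.1 a.2 ha
  have hgS : ∀ t ∈ S, g • t ∈ LinearMap.range L := fun t ht => by
    simp only [g]
    rw [← Finset.prod_erase_mul _ _ ht, mul_comm (∏ x ∈ S.erase t, d x), mul_assoc, mul_comm, mul_smul]
    exact Submodule.smul_mem _ _ (hdt t)
  have hgK : ∀ a : Fin n → Γ(X, V), L a = 0 → g • a = 0 := by
    intro a ha
    have ha' : a ∈ Submodule.span Γ(X, V) (K : Set (Fin n → Γ(X, V))) := hK.symm ▸ ha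
    induction ha' using Submodule.span_induction with
    | mem w hw =>
      simp only [g]
      rw [← Finset.prod_erase_mul _ _ (Finset.mem_attach K ⟨w, hw⟩), ← mul_assoc, mul_smul, hqa w hw, smul_zero]
    | zero => exact smul_zero _
    | add u v hu hv iu iv => rw [smul_add, iu, iv, add_zero] <;> first | exact (show u ∈ LinearMap.ker L from hK ▸ hu) | exact (show v ∈ LinearMap.ker L from hK ▸ hv)
    | smul r u hu iu => rw [smul_comm, iu, smul_zero]; exact (show u ∈ LinearMap.ker L from hK ▸ hu)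
  let D := X.basicOpen g
  refine ⟨D, fun i => F.presheaf.map (homOfLE (X.basicOpen_le g)).op (z i), notMem_primeAt_iff.mp hg,
    isFrame_of_stalk_basis fun y hy => ?_⟩
  have hyV : y ∈ V := X.basicOpen_le g hy
  have hgu : IsUnit (X.presheaf.germ V y hyV g) := (Scheme.mem_basicOpen _ g y hyV).mp hy
  simp only [TopCat.Presheaf.germ_res_apply]
  letI : Algebra Γ(X, V) (X.presheaf.stalk y) :=
    TopCat.Presheaf.algebra_section_stalk X.presheaf (⟨y, hyV⟩ : V)
  haveI hloc : IsLocalization.AtPrime (X.presheaf.stalk y) (hV.primeIdealOf ⟨y, hyV⟩).asIdeal :=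
    hV.isLocalization_stalk ⟨y, hyV⟩
  constructor
  · intro α β hαβ
    rw [← sub_eq_zero] at hαβ ⊢
    rw [← Finset.sum_sub_distrib] at hαβ
    simp only [← sub_smul] at hαβ
    funext i
    obtain ⟨s, hs⟩ := IsLocalization.exist_integer_multiples_of_finite
      (hV.primeIdealOf ⟨y, hyV⟩).asIdeal.primeCompl (α - β)
    choose a ha using hs
    have hsu : IsUnit (X.presheaf.germ V y hyV (s : Γ(X, V))) := IsLocalization.map_units (X.presheaf.stalk y) s
    have ha' : ∀ i, X.presheaf.germ V y hyV (a i) = X.presheaf.germ V y hyV (s : Γ(X, V)) * (α i - β i) := ha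
    have h0 : F.presheaf.germ V y hyV (L a) = 0 := by
      rw [hL, germ_sum_smul]
      simp only [ha', mul_smul]
      rw [← Finset.smul_sum, hαβ, smul_zero]
    obtain ⟨p, hp, hp0⟩ := (WeakAss.germ_eq_zero_iff hV hyV _).1 h0
    rw [← map_smul] at hp0
    have hz := congrFun (hgK _ hp0) i
    have hpu : IsUnit (X.presheaf.germ V y hyV p) := (Scheme.mem_basicOpen _ p y hyV).mp (notMem_primeAt_iff.mp hp)
    have := congrArg (X.presheaf.germ V y hyV) hz
    simp only [Pi.smul_apply, smul_eq_mul, map_mul, ha', Pi.zero_apply, map_zero] at this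
    exact hsu.mul_right_eq_zero.1 (hpu.mul_right_eq_zero.1 (hgu.mul_right_eq_zero.1 this))
  · intro m
    obtain ⟨p, t, hp, hpt⟩ := WeakAss.exists_smul_eq_germ hV hyV m
    have hpu : IsUnit (X.presheaf.germ V y hyV p) := (Scheme.mem_basicOpen _ p y hyV).mp (notMem_primeAt_iff.mp hp)
    have hgt' : ∀ t : Γ(F, V), g • t ∈ LinearMap.range L := fun t => by
      clear hpt
      have ht : t ∈ Submodule.span Γ(X, V) (S : Set Γ(F, V)) := hS.symm ▸ Submodule.mem_top
      induction ht using Submodule.span_induction with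
      | mem w hw => exact hgS w hw
      | zero => rw [smul_zero]; exact zero_mem _
      | add u v _ _ iu iv => rw [smul_add]; exact add_mem iu iv
      | smul r u _ iu => rw [smul_comm]; exact Submodule.smul_mem _ r iu
    obtain ⟨a, ha⟩ := hgt' t
    refine ⟨fun i => ↑(hgu.mul hpu).unit⁻¹ * X.presheaf.germ V y hyV (a i), ?_⟩
    have h1 := congrArg (F.presheaf.germ V y hyV) ha
    rw [hL, germ_sum_smul, germ_smul, ← hpt, smul_smul] at h1
    simp only [mul_smul]
    rw [← Finset.smul_sum, h1, ← mul_smul, IsUnit.val_inv_mul, one_smul]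

end GrothLib.Euler
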