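import Groth.Agent.Lib.Euler.Section
import Groth.Agent.Lib.Euler.LocFree
import Groth.Agent.Lib.GrpSchField.SmoothRegular
import Groth.Agent.Lib.RedSmooth.Basic
import Groth.Agent.Lib.CMFree.Regular
import Groth.Agent.Lib.LocNoeth.Scheme
import Groth.Agent.Lib.LocNoeth.Space
import Groth.Prelude.Def_TorSh

/-!
# Generic rank, and coherent modules on regular curves
-/

set_option linter.style.haveILetI false

universe u

open CategoryTheory CategoryTheory.Limits AlgebraicGeometry TopologicalSpace Opposite

namespace GrothLib.Euler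

open GrothLib.FinCov (IsFrame)
open GrothLib.QCoh (stalkLin)

variable {X : Scheme.{u}} {F : X.Modules} {n : ℕ}

/-- A frame induces bases of stalks. -/
theorem stalk_basis_of_frame {D : X.Opens} {e : Fin n → Γ(F, D)} (he : IsFrame F D e) {x : X} (hx : x ∈ D) :
    Nonempty (Module.Basis (Fin n) (X.presheaf.stalk x) (F.presheaf.stalk x)) := by
  let L := Fintype.linearCombination (X.presheaf.stalk x) fun i => F.presheaf.germ D x hx (e i)
  have key : ∀ (T : X.Opens) (hT : T ≤ D) (hxT : x ∈ T) (c : Fin n → Γ(X, T)),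
      L (fun i => X.presheaf.germ T x hxT (c i)) =
        F.presheaf.germ T x hxT (∑ i, c i • F.presheaf.map (homOfLE hT).op (e i)) := by
    intro T hT hxT c
    rw [germ_sum_smul, Fintype.linearCombination_apply]
    exact Finset.sum_congr rfl fun i _ => by rw [TopCat.Presheaf.germ_res_apply]
  have hrep : ∀ a : Fin n → X.presheaf.stalk x, ∃ (T : X.Opens) (_ : T ≤ D) (hxT : x ∈ T) (c : Fin n → Γ(X, T)),
      a = fun i => X.presheaf.germ T x hxT (c i) := by
    intro a
    choose U hU r hr using fun i => TopCat.Presheaf.exists_germ_eq X.presheaf (a i)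
    let U₀ : X.Opens := ⟨⋂ i, (U i : Set X), isOpen_iInter_of_finite fun i => (U i).isOpen⟩
    refine ⟨U₀ ⊓ D, inf_le_right, ⟨Set.mem_iInter.2 hU, hx⟩,
      fun i => X.presheaf.map (homOfLE (inf_le_left.trans fun z hz => Set.mem_iInter.1 hz i :
        U₀ ⊓ D ≤ U i)).op (r i), ?_⟩
    funext i
    rw [TopCat.Presheaf.germ_res_apply, hr]
  have hinj : Function.Injective L := (injective_iff_map_eq_zero L).2 fun a ha => by
    obtain ⟨T, hT, hxT, c, rfl⟩ := hrep a
    rw [key T hT hxT c] at ha
    obtain ⟨W, hxW, i, i', heq⟩ := TopCat.Presheaf.germ_eq F.presheaf x hxT hxT _ 0 (ha.trans (map_zero _).symm)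
    obtain rfl : i = i' := Subsingleton.elim _ _
    rw [map_zero, map_sum] at heq
    have hW : W ≤ D := i.le.trans hT
    have h0 : (fun k => X.presheaf.map i.op (c k)) = 0 := (he W hW).1 (by
      simp only [Pi.zero_apply, zero_smul, Finset.sum_const_zero]
      rw [← heq]
      refine Finset.sum_congr rfl fun k _ => ?_
      rw [Scheme.Modules.map_smul, Cohom.map_map_apply])
    funext k
    rw [Pi.zero_apply, ← TopCat.Presheaf.germ_res_apply X.presheaf i x hxW (c k), congrFun h0 k, Pi.zero_apply,
      map_zero]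
  have hsurj : Function.Surjective L := fun v => by
    obtain ⟨U, hU, m, rfl⟩ := TopCat.Presheaf.exists_germ_eq F.presheaf v
    obtain ⟨c, hc⟩ := (he (U ⊓ D) inf_le_right).2 (F.presheaf.map (homOfLE inf_le_left).op m)
    refine ⟨fun i => X.presheaf.germ (U ⊓ D) x ⟨hU, hx⟩ (c i), ?_⟩
    rw [key _ inf_le_right ⟨hU, hx⟩ c]
    dsimp only at hc
    rw [hc, TopCat.Presheaf.germ_res_apply]
  exact ⟨Module.Basis.ofEquivFun (LinearEquiv.ofBijective L ⟨hinj, hsurj⟩).symm⟩

theorem stalk_finite (hF : Coh.IsCoh F) (x : X) : Module.Finite (X.presheaf.stalk x) (F.presheaf.stalk x) := by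
  haveI := hF.1
  obtain ⟨V, hV, hxV, -⟩ := exists_isAffineOpen_mem_and_subset (x := x) (U := ⊤) trivial
  obtain ⟨S, hS⟩ := (QCoh.moduleFinite_of_isFiniteType F hF.2 hV).fg_top
  classical
  refine ⟨S.image (F.presheaf.germ V x hxV), eq_top_iff.2 fun v _ => ?_⟩
  obtain ⟨c, z, hc, hz⟩ := WeakAss.exists_smul_eq_germ hV hxV v
  have hu : IsUnit (X.presheaf.germ V x hxV c) :=
    (Scheme.mem_basicOpen _ c x hxV).mp (WeakAss.notMem_primeAt_iff.mp hc)
  rw [← one_smul (X.presheaf.stalk x) v, ← hu.val_inv_mul, mul_smul, hz]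
  refine Submodule.smul_mem _ _ ?_
  have hzS : z ∈ Submodule.span Γ(X, V) (S : Set Γ(F, V)) := hS.symm ▸ Submodule.mem_top
  clear hz
  induction hzS using Submodule.span_induction with
  | mem w hw => exact Submodule.subset_span (Finset.mem_coe.2 (Finset.mem_image_of_mem _ hw))
  | zero => rw [map_zero]; exact zero_mem _
  | add u w _ _ iu iw => rw [map_add]; exact add_mem iu iw
  | smul r u _ iu => rw [WeakAss.germ_smul]; exact Submodule.smul_mem _ _ iu

/-- A smooth connected scheme of finite type over a field is integral. -/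
theorem isIntegral_of_smooth_connected (k : Type u) [Field k] (p : X ⟶ Spec (CommRingCat.of k)) [Smooth p]
    [QuasiCompact p] [ConnectedSpace X] : IsIntegral X := by
  haveI : IsReduced X := RedSmooth.isReduced_of_smooth p
  haveI : IsLocallyNoetherian X := LocallyOfFiniteType.isLocallyNoetherian p
  haveI : CompactSpace X := QuasiCompact.compactSpace_of_compactSpace p
  have hdom : ∀ z : X, IsClosed ({z} : Set X) → IsDomain (X.presheaf.stalk z) := fun z hz => by
    haveI := GrpSchField.isRegularLocalRing_stalk_of_smooth p hz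
    exact CMFree.isDomain_of_isRegularLocalRing _
  have hdis : (irreducibleComponents (X : Type u)).PairwiseDisjoint id := by
    rw [LocNoeth.pairwiseDisjoint_iff_unique]
    intro x Z hZ W hW hxZ hxW
    obtain ⟨z, hz, hzc⟩ := IsClosed.exists_closed_singleton (S := closure ({x} : Set X)) isClosed_closure
      ⟨x, subset_closure rfl⟩
    haveI := hdom z hzc
    refine (LocNoeth.nilradical_isPrime_iff X z).1 ?_ Z hZ W hW
      (closure_minimal (Set.singleton_subset_iff.2 hxZ) (isClosed_of_mem_irreducibleComponents Z hZ) hz)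
      (closure_minimal (Set.singleton_subset_iff.2 hxW) (isClosed_of_mem_irreducibleComponents W hW) hz)
    rw [nilradical_eq_zero]
    exact Ideal.isPrime_bot
  have h := (((LocNoeth.isLocNoeth X).tfae).out 3 2).1 hdis
  obtain ⟨x⟩ := (inferInstance : Nonempty X)
  haveI : IrreducibleSpace X := by
    refine (irreducibleSpace_def _).2 ?_
    rw [Set.top_eq_univ, ← PreconnectedSpace.connectedComponent_eq_univ x]
    exact h x
  exact isIntegral_of_irreducibleSpace_of_isReduced X

/-- Generic rank. -/
noncomputable def grank [IrreducibleSpace X] (F : X.Modules) : ℕ :=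
  Module.finrank (X.presheaf.stalk (genericPoint X)) (F.presheaf.stalk (genericPoint X))

variable [IsIntegral X]

instance finiteStalkGeneric : IsNoetherianRing (X.presheaf.stalk (genericPoint X)) :=
  inferInstanceAs (IsNoetherianRing X.functionField)

theorem grank_eq_of_frame {D : X.Opens} {e : Fin n → Γ(F, D)} (he : IsFrame F D e) (hne : (D : Set X).Nonempty) :
    grank F = n := by
  obtain ⟨y, hy⟩ := hne
  obtain ⟨b⟩ := stalk_basis_of_frame he (((genericPoint_spec X).specializes trivial).mem_open D.2 hy)
  rw [grank, Module.finrank_eq_card_basis b, Fintype.card_fin]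

theorem grank_of_locFree (hF : FlatMod.IsFinLocFreeOfRank n F) : grank F = n := by
  obtain ⟨D, e, hx, he⟩ := FinCov.exists_frame_nhd_of_rank hF (genericPoint X)
  exact grank_eq_of_frame he ⟨_, hx⟩

theorem grank_of_iso {G : X.Modules} (e : F ≅ G) : grank F = grank G :=
  LinearEquiv.finrank_eq (((OX.stalk (genericPoint X)).mapIso e).toLinearEquiv)

theorem grank_additive {S : ShortComplex X.Modules} (hS : S.ShortExact) (h₂ : Coh.IsCoh S.X₂) :
    grank S.X₂ = grank S.X₁ + grank S.X₃ := by
  haveI := hS.mono_f
  haveI := hS.epi_g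
  letI : Field (X.presheaf.stalk (genericPoint X)) := CurvePoints.isField_stalk_genericPoint.toField
  haveI := stalk_finite h₂ (genericPoint X)
  have hex : Function.Exact (stalkLin S.f (genericPoint X)) (stalkLin S.g (genericPoint X)) :=
    (ShortComplex.ShortExact.moduleCat_exact_iff_function_exact _).1 ((OX.exact_iff S).1 hS.exact _)
  rw [grank, grank, grank, finrank_eq_add_of_exact hex,
    LinearMap.finrank_range_of_inj (QCoh.stalkLin_injective S.f _),
    LinearMap.range_eq_top.2 (QCoh.stalkLin_surjective S.g _), finrank_top]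

theorem grank_le_of_mono {G : X.Modules} (i : F ⟶ G) [Mono i] (hG : Coh.IsCoh G) : grank F ≤ grank G := by
  letI : Field (X.presheaf.stalk (genericPoint X)) := CurvePoints.isField_stalk_genericPoint.toField
  haveI := stalk_finite hG (genericPoint X)
  exact LinearMap.finrank_le_finrank_of_injective (QCoh.stalkLin_injective i _)

theorem surjective_generic_of_mono {G : X.Modules} (i : F ⟶ G) [Mono i] (hG : Coh.IsCoh G)
    (h : grank F = grank G) : Function.Surjective (stalkLin i (genericPoint X)) := by
  letI : Field (X.presheaf.stalk (genericPoint X)) := CurvePoints.isField_stalk_genericPoint.toField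
  haveI := stalk_finite hG (genericPoint X)
  haveI : Module.Finite (X.presheaf.stalk (genericPoint X)) (F.presheaf.stalk (genericPoint X)) :=
    Module.Finite.of_injective _ (QCoh.stalkLin_injective i _)
  exact (LinearMap.injective_iff_surjective_of_finrank_eq_finrank h).1 (QCoh.stalkLin_injective i _)

/-- Coherent torsion-free modules over principal stalks are locally free. -/
theorem isFinLocFreeOfRank_of_torsionFree [IsLocallyNoetherian X]
    (hpid : ∀ x : X, IsPrincipalIdealRing (X.presheaf.stalk x)) (hF : Coh.IsCoh F)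
    (htf : TorSh.IsTorsionFree F) : FlatMod.IsFinLocFreeOfRank (grank F) F := by
  intro x
  haveI := hpid x
  haveI := htf x
  haveI := stalk_finite hF x
  obtain ⟨m, ⟨b⟩⟩ := Module.basisOfFiniteTypeTorsionFree' (R := X.presheaf.stalk x) (M := F.presheaf.stalk x) |>
    fun p => (⟨p.1, ⟨p.2⟩⟩ : ∃ m, Nonempty (Module.Basis (Fin m) (X.presheaf.stalk x) (F.presheaf.stalk x)))
  obtain ⟨D, e, hxD, he⟩ := exists_frame_of_stalk_basis hF b
  obtain rfl := grank_eq_of_frame he ⟨x, hxD⟩
  exact ⟨D, hxD, FinCov.exists_iso_of_frame he⟩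

end GrothLib.Euler
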