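import Groth.Agent.Lib.Euler.Basic

/-!
# Zero-dimensional closed subsets
-/

universe u

open AlgebraicGeometry TopologicalSpace

namespace GrothLib.Euler

variable {X : Scheme.{u}}

theorem isClosed_singleton_of_dim_le_zero {Z : Set X} (hZ : IsClosed Z)
    (hd : topologicalKrullDim Z ≤ 0) {x : X} (hx : x ∈ Z) : IsClosed ({x} : Set X) := by
  refine isClosed_of_closure_subset fun z hz => ?_
  by_contra hne
  have hzZ : z ∈ Z := closure_minimal (Set.singleton_subset_iff.2 hx) hZ hz
  let a : Z := ⟨z, hzZ⟩
  let b : Z := ⟨x, hx⟩
  have hba : a ∈ closure ({b} : Set Z) := closure_subtype.2 (by simpa [b, a] using hz)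
  let A : IrreducibleCloseds Z := ⟨closure {a}, isIrreducible_singleton.closure, isClosed_closure⟩
  let B : IrreducibleCloseds Z := ⟨closure {b}, isIrreducible_singleton.closure, isClosed_closure⟩
  have hle : A ≤ B := closure_minimal (Set.singleton_subset_iff.2 hba) isClosed_closure
  have hlt : A < B := by
    refine lt_of_le_of_ne hle fun he => hne ?_
    have : b ∈ closure ({a} : Set Z) := by
      have : b ∈ (B : Set Z) := subset_closure rfl
      rw [← he] at this
      exact this
    have h2 : x ∈ closure ({z} : Set X) := by simpa [b, a] using closure_subtype.1 this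
    exact (Specializes.antisymm (specializes_iff_mem_closure.2 hz) (specializes_iff_mem_closure.2 h2)).eq.symm
  let c : LTSeries (IrreducibleCloseds Z) := (RelSeries.singleton _ A).snoc B hlt
  have h := (Order.LTSeries.length_le_krullDim c).trans hd
  simp [c] at h
  exact (not_le.2 zero_lt_one) h

theorem finite_of_dim_le_zero [NoetherianSpace X] {Z : Set X} (hZ : IsClosed Z)
    (hd : topologicalKrullDim Z ≤ 0) : Z.Finite :=
  finite_of_closed_points hZ fun _ hx => isClosed_singleton_of_dim_le_zero hZ hd hx

variable (k : Type u) [Field k] [X.Over (Spec (CommRingCat.of k))] [IsProper (X ↘ Spec (CommRingCat.of k))]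

include k in
/-- A coherent module with zero-dimensional support is acyclic. -/
theorem subsingleton_HH_of_support_dim_le_zero {F : X.Modules} (hF : Coh.IsCoh F)
    (hsupp : topologicalKrullDim (CohB1.support F) ≤ 0) (i : ℕ) (hi : 1 ≤ i) :
    Subsingleton (Coh.HH X F i) := by
  have := isNoetherian_of_proper (X := X) k
  have hZ := QCoh.isClosed_support_of_isCoh hF
  exact subsingleton_HH_of_finite_support F (finite_of_dim_le_zero hZ hsupp)
    (fun x hx => isClosed_singleton_of_dim_le_zero hZ hsupp hx) i hi

end GrothLib.Euler
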