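import Groth.Agent.Lib.Euler.Basic
import Groth.Agent.Lib.Euler.Coh
import Groth.Agent.Lib.Euler.Rank
import Groth.Agent.Lib.Euler.Support
import Groth.Agent.Lib.OX.LocFreeTensor
import Groth.Agent.Lib.Ref1.Tensor
import Groth.Agent.Lib.Cohom.RpushModules
import Groth.Agent.Lib.QCoh.DevissageSummands

/-!
# Tensor products with locally free modules: coherence, finite support
-/

set_option linter.style.haveILetI false

universe u

open CategoryTheory CategoryTheory.Limits AlgebraicGeometry TopologicalSpace Opposite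
open scoped TensorProduct

namespace GrothLib.Euler

variable {X : Scheme.{u}}

/-- Tensoring on the right by `E`, as a functor. -/
noncomputable abbrev tF (E : X.Modules) : X.Modules ⥤ X.Modules := (DCoh.tensorBi (X := X)).flip.obj E

theorem isZero_freeMod_zero (X : Scheme.{u}) : IsZero (FlatMod.freeMod X 0) := by
  rw [IsZero.iff_id_eq_zero]
  exact Sigma.hom_ext _ _ fun i => i.elim0

theorem isCoh_of_isZero {M : X.Modules} (h : IsZero M) : Coh.IsCoh M :=
  isCoh_of_isFinLocFree (DCoh.isFinLocFree_of_isZero h)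

/-- `M ⊗ O ≅ M`. -/
noncomputable def tFUnitIso (M : X.Modules) : (tF (Coh.structureModule X)).obj M ≅ M :=
  (((OX.tensorBraiding (X := X)).app M).app (Coh.structureModule X)).symm ≪≫ OX.tensorUnitLeftIso M

theorem isCoh_tensor_freeMod [IsLocallyNoetherian X] {M : X.Modules} (hM : Coh.IsCoh M) :
    ∀ n, Coh.IsCoh (((DCoh.tensorBi (X := X)).obj M).obj (FlatMod.freeMod X n)) := by
  intro n
  induction n with
  | zero => exact isCoh_of_isZero (((DCoh.tensorBi (X := X)).obj M).map_isZero (isZero_freeMod_zero X))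
  | succ n ih =>
    have h1 : Coh.IsCoh (((DCoh.tensorBi (X := X)).obj M).obj (FlatMod.freeMod X 1)) :=
      QCoh.isCoh_of_iso ((tFUnitIso M).symm ≪≫ ((DCoh.tensorBi (X := X)).obj M).mapIso
        (coproductUniqueIso (fun _ : Fin 1 => Coh.structureModule X)).symm) hM
    haveI : PreservesColimitsOfSize.{0, 0} ((DCoh.tensorBi (X := X)).obj M) := preservesColimitsOfSize_shrink.{0, u, 0, u} _
    haveI : PreservesBinaryBiproduct (FlatMod.freeMod X n) (FlatMod.freeMod X 1) ((DCoh.tensorBi (X := X)).obj M) :=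
      preservesBinaryBiproduct_of_preservesBinaryCoproduct _
    exact QCoh.isCoh_of_iso ((((DCoh.tensorBi (X := X)).obj M).mapBiprod _ _).symm ≪≫
      ((DCoh.tensorBi (X := X)).obj M).mapIso (DCoh.freeModBiprodIso X n 1)) (QCoh.isCoh_biprod' ih h1)

theorem isCoh_of_restrict {M : X.Modules} (h : ∀ x : X, ∃ U : X.Opens, x ∈ U ∧ Coh.IsCoh (M.restrict U.ι)) :
    Coh.IsCoh M := by
  choose U hxU hU using h
  have hq : M.IsQuasicoherent := QCoh.isQuasicoherent_of_restrict M U
    (eq_top_iff.mpr fun x _ => Opens.mem_iSup.mpr ⟨x, hxU x⟩) fun x => (hU x).1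
  choose W hW hxW hWU using fun x : X => exists_isAffineOpen_mem_and_subset (x := x) (U := U x) (hxU x)
  refine ⟨hq, QCoh.isFiniteType_of_moduleFinite M W (eq_top_iff.mpr fun x _ => Opens.mem_iSup.mpr ⟨x, hxW x⟩) hW
    fun x => ?_⟩
  have e : (U x).ι ''ᵁ ((U x).ι ⁻¹ᵁ W x) = W x := by
    rw [Scheme.Hom.image_preimage_eq_opensRange_inf, Scheme.Opens.opensRange_ι,
      inf_eq_right.2 (show W x ≤ U x from hWU x)]
  obtain ⟨S, hS⟩ := (QCoh.moduleFinite_of_isFiniteType _ (hU x).2
    ((hW x).preimage_of_isOpenImmersion (U x).ι (by rw [Scheme.Opens.opensRange_ι]; exact hWU x))).fg_top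
  classical
  refine ⟨⟨S.image fun t => M.presheaf.map (eqToHom e.symm).op t, top_le_iff.1 fun y _ => ?_⟩⟩
  have key : ∀ (V : X.Opens) (hV : V = W x) (t : Finset Γ(M, V)),
      Submodule.span Γ(X, V) (t : Set Γ(M, V)) = ⊤ → y ∈ Submodule.span Γ(X, W x)
        ((t.image fun s => M.presheaf.map (eqToHom hV.symm).op s : Finset _) : Set Γ(M, W x)) := by
    intro V hV t ht
    subst hV
    simp only [eqToHom_refl, op_id, CategoryTheory.Functor.map_id]
    simp [ht]
  refine key _ e S ?_
  refine top_le_iff.1 fun z _ => ?_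
  have hz : z ∈ Submodule.span Γ((U x).toScheme, (U x).ι ⁻¹ᵁ W x)
      (S : Set Γ(M.restrict (U x).ι, (U x).ι ⁻¹ᵁ W x)) := hS.symm ▸ trivial
  induction hz using Submodule.span_induction with
  | mem a ha => exact Submodule.subset_span ha
  | zero => exact Submodule.zero_mem _
  | add a b _ _ ha hb => exact Submodule.add_mem _ (ha trivial) (hb trivial)
  | smul r a _ ha => exact Submodule.smul_mem _ ((((U x).ι.appIso ((U x).ι ⁻¹ᵁ W x)).inv r) : Γ(X, _)) (ha trivial)

/-- The tensor product of a coherent module with a locally free one is coherent. -/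
theorem isCoh_tF [IsLocallyNoetherian X] {M E : X.Modules} (hM : Coh.IsCoh M) (hE : FlatMod.IsFinLocFree E) :
    Coh.IsCoh ((tF E).obj M) := by
  refine isCoh_of_restrict fun x => ?_
  obtain ⟨U, n, hxU, ⟨i⟩⟩ := hE x
  let P := Scheme.Modules.restrictFunctorIsoPullback U.ι
  refine ⟨U, hxU, QCoh.isCoh_of_iso ?_ (isCoh_tensor_freeMod (Cohom.isCoh_restrict M hM U.ι) n)⟩
  exact (P.app _ ≪≫ OX.pullTensorIso U.ι M E ≪≫
    ((DCoh.tensorBi (X := U.toScheme)).mapIso (P.app M).symm).app _ ≪≫
    ((DCoh.tensorBi (X := U.toScheme)).obj _).mapIso ((P.app E).symm ≪≫ i)).symm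

/-- Global sections of a module with finite closed support are the product of its stalks. -/
theorem bijective_germs (M : X.Modules) (hfin : (CohB1.support M).Finite)
    (hcl : ∀ x ∈ CohB1.support M, IsClosed ({x} : Set X)) :
    Function.Bijective fun (s : Γ(M, ⊤)) (x : CohB1.support M) =>
      (M.presheaf.germ ⊤ (x : X) trivial s : M.presheaf.stalk (x : X)) := by
  classical
  constructor
  · intro s t hst
    rw [← sub_eq_zero]
    refine QCoh.section_eq_zero_of_germ M _ fun x _ => ?_
    by_cases hx : x ∈ CohB1.support M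
    · rw [map_sub, sub_eq_zero]
      exact congrFun hst ⟨x, hx⟩
    · exact @Subsingleton.elim _ (QCoh.stalk_subsingleton_of_notMem hx) _ _
  · intro v
    have hloc : ∀ x : CohB1.support M, ∃ s : Γ(M, ⊤), M.presheaf.germ ⊤ (x : X) trivial s = v x ∧
        ∀ y : CohB1.support M, y ≠ x → M.presheaf.germ ⊤ (y : X) trivial s = 0 := by
      intro x
      obtain ⟨U, hxU, m, hm⟩ := TopCat.Presheaf.exists_germ_eq M.presheaf (v x)
      have hC : IsClosed (CohB1.support M \ {(x : X)}) := by
        rw [← Set.biUnion_of_singleton (CohB1.support M \ {(x : X)})]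
        exact (hfin.subset Set.diff_subset).isClosed_biUnion fun y hy => hcl y hy.1
      let V : X.Opens := U ⊓ ⟨(CohB1.support M \ {(x : X)})ᶜ, hC.isOpen_compl⟩
      let W : X.Opens := ⟨{(x : X)}ᶜ, (hcl _ x.2).isOpen_compl⟩
      have hxV : (x : X) ∈ V := ⟨hxU, fun h => h.2 rfl⟩
      let op' : ULift.{u} Bool → X.Opens := fun b => if b.down then V else W
      let sf : ∀ b : ULift.{u} Bool, Γ(M, op' b) := fun
        | ⟨true⟩ => M.presheaf.map (homOfLE (inf_le_left : V ≤ U)).op m
        | ⟨false⟩ => 0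
      have hzero : ∀ (T : X.Opens) (hT : T ≤ V), T ≤ W →
          M.presheaf.map (homOfLE hT).op (M.presheaf.map (homOfLE (inf_le_left : V ≤ U)).op m) = 0 := by
        intro T hT hTW
        refine QCoh.section_eq_zero_of_germ M _ fun y hy => ?_
        have : Subsingleton (M.presheaf.stalk y) :=
          QCoh.stalk_subsingleton_of_notMem fun h => (hT hy).2 ⟨h, hTW hy⟩
        exact Subsingleton.elim _ _
      have hcompat : TopCat.Presheaf.IsCompatible M.presheaf op' sf := by
        rintro ⟨_ | _⟩ ⟨_ | _⟩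
        · rfl
        · exact (map_zero _).trans (hzero _ inf_le_right inf_le_left).symm
        · exact (hzero _ inf_le_left inf_le_right).trans (map_zero _).symm
        · rfl
      obtain ⟨t₀, ht, -⟩ := TopCat.Sheaf.existsUnique_gluing' ⟨M.presheaf, M.isSheaf⟩ op' ⊤
        (fun b => homOfLE le_top)
        (fun y _ => Opens.mem_iSup.2 (by
          by_cases hy : y = x
          · exact ⟨⟨true⟩, hy ▸ hxV⟩
          · exact ⟨⟨false⟩, hy⟩)) sf hcompat
      let t : Γ(M, ⊤) := t₀
      refine ⟨t, ?_, fun y hy => ?_⟩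
      · have h1 := congrArg (M.presheaf.germ V (x : X) hxV) (ht ⟨true⟩)
        erw [TopCat.Presheaf.germ_res_apply] at h1
        refine h1.trans ?_
        erw [TopCat.Presheaf.germ_res_apply]
        exact hm
      · have h1 := congrArg (M.presheaf.germ W (y : X) (fun h => hy (Subtype.ext h))) (ht ⟨false⟩)
        erw [TopCat.Presheaf.germ_res_apply] at h1
        exact h1.trans (map_zero _)
    choose s hs hs0 using hloc
    haveI := hfin.fintype
    refine ⟨∑ x, s x, funext fun y => ?_⟩
    dsimp only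
    rw [map_sum, Finset.sum_eq_single y (fun z _ hz => hs0 z y hz.symm) (fun h => absurd (Finset.mem_univ _) h)]
    exact hs y

/-- The stalk of `M ⊗ E` is a power of the stalk of `M`. -/
theorem nonempty_stalk_equiv_pi {n : ℕ} {M E : X.Modules} (hE : FlatMod.IsFinLocFreeOfRank n E) (x : X) :
    Nonempty (((tF E).obj M).presheaf.stalk x ≃ₗ[X.presheaf.stalk x] (Fin n → M.presheaf.stalk x)) := by
  obtain ⟨D, e, hx, he⟩ := FinCov.exists_frame_nhd_of_rank hE x
  obtain ⟨b⟩ := stalk_basis_of_frame he hx
  exact ⟨(Ref1.tensorStalk M E x).trans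
    ((TensorProduct.congr (LinearEquiv.refl _ _) b.equivFun).trans
      (TensorProduct.piScalarRight _ _ _ (Fin n)))⟩

theorem support_tF_subset {n : ℕ} {M E : X.Modules} (hE : FlatMod.IsFinLocFreeOfRank n E) :
    CohB1.support ((tF E).obj M) ⊆ CohB1.support M := by
  intro x hx h
  obtain ⟨f⟩ := nonempty_stalk_equiv_pi (M := M) hE x
  exact hx f.toEquiv.subsingleton

variable (k : Type u) [Field k] [X.Over (Spec (CommRingCat.of k))]

theorem germ_H0top_smul (M : X.Modules) (a : k) (h : Coh.HH X M 0) (x : X) :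
    M.presheaf.germ ⊤ x trivial (ProjCoh.H0top M (a • h)) =
      X.presheaf.germ ⊤ x trivial (show Γ(X, ⊤) from Coh.toGlobal (X ↘ Spec (CommRingCat.of k)) a) •
        M.presheaf.germ ⊤ x trivial (ProjCoh.H0top M h) := by
  rw [ProjCoh.H0top_smul, WeakAss.germ_smul]

/-- Tensoring with a rank `n` bundle multiplies the Euler characteristic of a finitely supported module by `n`. -/
theorem euler_tF_of_finite_support [IsProper (X ↘ Spec (CommRingCat.of k))] {n : ℕ} {M E : X.Modules}
    (hE : FlatMod.IsFinLocFreeOfRank n E) (hM : Coh.IsCoh M) (hfin : (CohB1.support M).Finite)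
    (hcl : ∀ x ∈ CohB1.support M, IsClosed ({x} : Set X)) :
    Curv2.euler k X ((tF E).obj M) = n * Curv2.euler k X M := by
  classical
  set N := (tF E).obj M
  have hsub : CohB1.support N ⊆ CohB1.support M := support_tF_subset hE
  have hfin' := hfin.subset hsub
  rw [euler_eq_of_finite_support k N hfin' (fun x hx => hcl x (hsub hx)),
    euler_eq_of_finite_support k M hfin hcl]
  have ψ : ∀ x : X, N.presheaf.stalk x ≃ₗ[X.presheaf.stalk x] (Fin n → M.presheaf.stalk x) :=
    fun x => (nonempty_stalk_equiv_pi (M := M) hE x).some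
  let gM := AddEquiv.ofBijective
    (AddMonoidHom.mk' (fun (s : Γ(M, ⊤)) (x : CohB1.support M) =>
      (M.presheaf.germ ⊤ (x : X) trivial s : M.presheaf.stalk (x : X))) fun s t => funext fun x => map_add _ s t)
    (bijective_germs M hfin hcl)
  let φ : Coh.HH X N 0 → (Fin n → Coh.HH X M 0) := fun h i =>
    (ProjCoh.H0top M).symm (gM.symm fun x => ψ x (N.presheaf.germ ⊤ (x : X) trivial (ProjCoh.H0top N h)) i)
  have hφ : ∀ h i (x : CohB1.support M), M.presheaf.germ ⊤ (x : X) trivial (ProjCoh.H0top M (φ h i)) =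
      ψ x (N.presheaf.germ ⊤ (x : X) trivial (ProjCoh.H0top N h)) i := by
    intro h i x
    simp only [φ, AddEquiv.apply_symm_apply]
    exact congrFun (gM.apply_symm_apply _) x
  have hext : ∀ (u v : Coh.HH X M 0),
      (∀ x : CohB1.support M, M.presheaf.germ ⊤ (x : X) trivial (ProjCoh.H0top M u) =
        M.presheaf.germ ⊤ (x : X) trivial (ProjCoh.H0top M v)) → u = v :=
    fun u v h => (ProjCoh.H0top M).injective (gM.injective (funext h))
  let Φ : Coh.HH X N 0 →ₗ[k] (Fin n → Coh.HH X M 0) :=
    { toFun := φ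
      map_add' := fun a b => funext fun i => hext _ _ fun x => by
        simp only [hφ, map_add, Pi.add_apply]
      map_smul' := fun a b => funext fun i => hext _ _ fun x => by
        rw [hφ, germ_H0top_smul, map_smul, Pi.smul_apply]
        simp only [RingHom.id_apply, Pi.smul_apply]
        rw [germ_H0top_smul, hφ] }
  have hbij : Function.Bijective Φ := by
    refine ⟨(injective_iff_map_eq_zero Φ).2 fun h h0 => ?_, fun v => ?_⟩
    · apply (ProjCoh.H0top N).injective
      refine (QCoh.section_eq_zero_of_germ N _ fun x _ => ?_).trans (map_zero _).symm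
      by_cases hx : x ∈ CohB1.support N
      · refine (ψ x).injective ((funext fun i => ?_).trans (map_zero _).symm)
        have h2 := hφ h i ⟨x, hsub hx⟩
        rw [show φ h i = 0 from congrFun h0 i, map_zero, map_zero] at h2
        exact h2.symm
      · exact @Subsingleton.elim _ (QCoh.stalk_subsingleton_of_notMem hx) _ _
    · obtain ⟨s, hs⟩ := (bijective_germs N hfin' (fun x hx => hcl x (hsub hx))).2
        fun x => (ψ x).symm fun i => M.presheaf.germ ⊤ (x : X) trivial (ProjCoh.H0top M (v i))
      refine ⟨(ProjCoh.H0top N).symm s, funext fun i => hext _ _ fun x => ?_⟩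
      refine (hφ _ i x).trans ?_
      rw [AddEquiv.apply_symm_apply]
      by_cases hx : (x : X) ∈ CohB1.support N
      · rw [show N.presheaf.germ ⊤ (x : X) trivial s = _ from congrFun hs ⟨x, hx⟩, LinearEquiv.apply_symm_apply]
      · haveI : Subsingleton (N.presheaf.stalk (x : X)) := QCoh.stalk_subsingleton_of_notMem hx
        haveI : Subsingleton (Fin n → M.presheaf.stalk (x : X)) := (ψ x).symm.toEquiv.subsingleton
        exact congrFun (Subsingleton.elim _ (fun i => M.presheaf.germ ⊤ (x : X) trivial (ProjCoh.H0top M (v i)))) i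
  haveI := finiteDimensional_HH k hM 0
  rw [(LinearEquiv.ofBijective Φ hbij).finrank_eq, Module.finrank_pi_fintype]
  simp

end GrothLib.Euler
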