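import Groth.Agent.Lib.Euler.Section

/-!
# Nonzero maps of invertible modules on integral curves
-/

universe u

open CategoryTheory CategoryTheory.Limits AlgebraicGeometry TopologicalSpace Opposite

namespace GrothLib.Euler

open GrothLib.InvExt (IsGen mres fres)
open GrothLib.QCoh (stalkLin)

variable {X : Scheme.{u}} [IsIntegral X]

theorem genericPoint_mem_of_mem {V : X.Opens} {x : X} (hx : x ∈ V) : genericPoint X ∈ V :=
  ((genericPoint_spec X).specializes trivial).mem_open V.2 hx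

theorem app_mres {M N : X.Modules} (φ : M ⟶ N) {V W : X.Opens} (h : W ≤ V) (m : Γ(M, V)) :
    φ.app W (mres M h m) = mres N h (φ.app V m) :=
  PresheafOfModules.naturality_apply φ.val (homOfLE h).op m

/-- A nonzero map of invertible modules is nonzero on common generators. -/
theorem exists_gen_hom {N L : X.Modules} (hN : PicF.IsInvertible N) (hL : PicF.IsInvertible L)
    {φ : N ⟶ L} (hφ : φ ≠ 0) (x : X) :
    ∃ (V : X.Opens) (e : Γ(N, V)) (f : Γ(L, V)) (c : Γ(X, V)),
      x ∈ V ∧ IsGen N V e ∧ IsGen L V f ∧ c ≠ 0 ∧ φ.app V e = c • f := by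
  choose V₁ e₁ hxV₁ he₁ using fun y : X => InvExt.exists_gen_nhd hN y
  choose V₂ f₂ hxV₂ hf₂ using fun y : X => InvExt.exists_gen_nhd hL y
  let V : X → X.Opens := fun y => V₁ y ⊓ V₂ y
  let e : ∀ y, Γ(N, V y) := fun y => mres N inf_le_left (e₁ y)
  let f : ∀ y, Γ(L, V y) := fun y => mres L inf_le_right (f₂ y)
  have he : ∀ y, IsGen N (V y) (e y) := fun y => (he₁ y).restrict _
  have hf : ∀ y, IsGen L (V y) (f y) := fun y => (hf₂ y).restrict _
  have hxV : ∀ y, y ∈ V y := fun y => ⟨hxV₁ y, hxV₂ y⟩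
  choose c hc using fun y => (hf y).exists_smul_eq le_rfl (φ.app (V y) (e y))
  simp only [InvExt.mres_self] at hc
  refine ⟨V x, e x, f x, c x, hxV x, he x, hf x, fun h0 => hφ ?_, hc x⟩
  have hcy : ∀ y, c y = 0 := fun y => by
    haveI : Nonempty (V x ⊓ V y : X.Opens) :=
      ⟨⟨genericPoint X, genericPoint_mem_of_mem (hxV x), genericPoint_mem_of_mem (hxV y)⟩⟩
    obtain ⟨a, ha⟩ := (he x).exists_smul_eq (inf_le_left : V x ⊓ V y ≤ V x) (mres N inf_le_right (e y))
    have h1 : φ.app (V x ⊓ V y) (mres N inf_le_right (e y)) = 0 := by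
      rw [ha, Scheme.Modules.Hom.app_smul, app_mres, hc x, h0, zero_smul, InvExt.mres, map_zero, smul_zero]
    rw [app_mres, hc y, InvExt.mres_smul] at h1
    have h2 : fres X (inf_le_right : V x ⊓ V y ≤ V y) (c y) = 0 :=
      (hf y).smul_left_injective inf_le_right (h1.trans (zero_smul _ _).symm)
    exact fres_injective inf_le_right (h2.trans (map_zero _).symm)
  refine Scheme.Modules.hom_ext _ _ fun T => AddCommGrpCat.ext fun m => ?_
  show φ.app T m = 0
  refine QCoh.section_eq_zero_of_germ L _ fun y hy => ?_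
  obtain ⟨a, ha⟩ := (he y).exists_smul_eq (inf_le_right : T ⊓ V y ≤ V y) (mres N inf_le_left m)
  rw [← QCoh.germ_map L (homOfLE (inf_le_left : T ⊓ V y ≤ T)) (⟨hy, hxV y⟩ : y ∈ T ⊓ V y)]
  rw [show L.presheaf.map (homOfLE (inf_le_left : T ⊓ V y ≤ T)).op (φ.app T m) = φ.app _ (mres N inf_le_left m)
    from (app_mres φ inf_le_left m).symm, ha, Scheme.Modules.Hom.app_smul, app_mres, hc y, hcy y,
    zero_smul, InvExt.mres, map_zero, smul_zero, map_zero]

/-- A nonzero map of invertible modules on an integral scheme is injective on sections. -/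
theorem app_injective_of_ne_zero {N L : X.Modules} (hN : PicF.IsInvertible N) (hL : PicF.IsInvertible L)
    {φ : N ⟶ L} (hφ : φ ≠ 0) (T : X.Opens) : Function.Injective (φ.app T) := by
  refine (injective_iff_map_eq_zero _).2 fun m hm => ?_
  refine QCoh.section_eq_zero_of_germ N m fun x hx => ?_
  obtain ⟨V, e, f, c, hxV, he, hf, hc0, hc⟩ := exists_gen_hom hN hL hφ x
  obtain ⟨a, ha⟩ := he.exists_smul_eq (inf_le_right : T ⊓ V ≤ V) (mres N inf_le_left m)
  haveI : Nonempty (T ⊓ V : X.Opens) := ⟨⟨x, hx, hxV⟩⟩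
  have h1 := app_mres φ (inf_le_left : T ⊓ V ≤ T) m
  rw [hm, ha, Scheme.Modules.Hom.app_smul, app_mres, hc, InvExt.mres_smul, smul_smul] at h1
  have h2 : a * fres X inf_le_right c = 0 :=
    hf.smul_left_injective inf_le_right (h1.trans ((map_zero _).trans (zero_smul _ _).symm))
  have ha0 : a = 0 := (mul_eq_zero.1 h2).resolve_right fun h =>
    hc0 (fres_injective inf_le_right (h.trans (map_zero _).symm))
  rw [← QCoh.germ_map N (homOfLE (inf_le_left : T ⊓ V ≤ T)) (⟨hx, hxV⟩ : x ∈ T ⊓ V)]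
  rw [show N.presheaf.map (homOfLE (inf_le_left : T ⊓ V ≤ T)).op m = a • mres N inf_le_right e from ha,
    ha0, zero_smul, map_zero]

theorem mono_of_ne_zero {N L : X.Modules} (hN : PicF.IsInvertible N) (hL : PicF.IsInvertible L)
    {φ : N ⟶ L} (hφ : φ ≠ 0) : Mono φ :=
  QCoh.mono_of_app_injective _ (app_injective_of_ne_zero hN hL hφ)

theorem stalkLin_genericPoint_bijective {N L : X.Modules} (hN : PicF.IsInvertible N)
    (hL : PicF.IsInvertible L) {φ : N ⟶ L} (hφ : φ ≠ 0) :
    Function.Bijective (stalkLin φ (genericPoint X)) := by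
  obtain ⟨V, e, f, c, hxV, he, hf, hc0, hc⟩ := exists_gen_hom hN hL hφ (genericPoint X)
  have hη : genericPoint X ∈ X.basicOpen c := by
    have hne : X.basicOpen c ≠ ⊥ := fun hb => hc0 ((basicOpen_eq_bot_iff c).1 hb)
    obtain ⟨y, hy⟩ := (TopologicalSpace.Opens.ne_bot_iff_nonempty _).1 hne
    exact genericPoint_mem_of_mem hy
  refine stalkLin_bijective_of_app_bijective _ hη fun T hT =>
    ⟨app_injective_of_ne_zero hN hL hφ T, fun m => ?_⟩
  have hTV : T ≤ V := hT.trans (X.basicOpen_le c)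
  have hu : IsUnit (fres X hTV c) := InvExt.isUnit_res_of_le_basicOpen hTV c hT
  obtain ⟨b, hb⟩ := hf.exists_smul_eq hTV m
  obtain ⟨d, hd⟩ := hu.exists_right_inv
  refine ⟨(b * d) • mres N hTV e, ?_⟩
  rw [Scheme.Modules.Hom.app_smul, app_mres, hc, InvExt.mres_smul, smul_smul, hb, mul_assoc,
    mul_comm d, hd, mul_one]

variable (k : Type u) [Field k] [X.Over (Spec (CommRingCat.of k))] [IsProper (X ↘ Spec (CommRingCat.of k))]

/-- A nonzero map of invertible modules raises the degree, strictly unless it is an isomorphism. -/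
theorem deg_le_of_ne_zero (hd : topologicalKrullDim X ≤ 1) {N L : X.Modules} (hN : PicF.IsInvertible N)
    (hL : PicF.IsInvertible L) {φ : N ⟶ L} (hφ : φ ≠ 0) :
    ∃ q : ℕ, Curv2.deg k X L 1 = Curv2.deg k X N 1 + q ∧ (q = 0 → IsIso φ) := by
  haveI := mono_of_ne_zero hN hL hφ
  obtain ⟨q, hq, -, hiso⟩ := exists_cokernel_data k hd φ (isCoh_of_isInvertible hN)
    (isCoh_of_isInvertible hL) (stalkLin_genericPoint_bijective hN hL hφ).2
  exact ⟨q, by rw [Curv2.deg, Curv2.deg, hq]; ring, hiso⟩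

theorem deg_structure : Curv2.deg k X (Coh.structureModule X) 1 = 0 := by
  simp [Curv2.deg]

/-- A nonzero section of an invertible module. -/
theorem deg_of_section (hd : topologicalKrullDim X ≤ 1) {L : X.Modules} (hL : PicF.IsInvertible L)
    {s : Coh.structureModule X ⟶ L} (hs : s ≠ 0) :
    0 ≤ Curv2.deg k X L 1 ∧ (Curv2.deg k X L 1 ≤ 0 → IsIso s) := by
  obtain ⟨q, hq, hiso⟩ := deg_le_of_ne_zero k hd isInvertible_structure hL hs
  rw [deg_structure] at hq
  exact ⟨by omega, fun h => hiso (by omega)⟩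

end GrothLib.Euler
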