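import Groth.Agent.Lib.Euler.TensorSupport
import Groth.Agent.Lib.Euler.LocFree
import Groth.Agent.Lib.Euler.InvHom
import Groth.Agent.Lib.FinCov.FrameFree
import Groth.Agent.Lib.QCoh.Qcqs
import Mathlib.AlgebraicGeometry.Noetherian

/-!
# Comparing coherent modules on a curve that agree over a dense open
-/

set_option linter.style.haveILetI false

universe u

open CategoryTheory CategoryTheory.Limits AlgebraicGeometry TopologicalSpace Opposite

namespace GrothLib.Euler

open GrothLib.QCoh (stalkLin)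

variable {X : Scheme.{u}}

theorem stalkLin_neg {M N : X.Modules} (f : M ⟶ N) (x : X) (e : M.presheaf.stalk x) :
    stalkLin (-f) x e = - stalkLin f x e := by
  rw [eq_neg_iff_add_eq_zero, ← QCoh.stalkLin_add, neg_add_cancel]
  exact LinearMap.congr_fun (congrArg ModuleCat.Hom.hom ((OX.stalk x).map_zero M N)) e

theorem stalkLin_bijective_of_isIso {M N : X.Modules} (f : M ⟶ N) [IsIso f] (x : X) :
    Function.Bijective (stalkLin f x) :=
  ⟨QCoh.stalkLin_injective f x, QCoh.stalkLin_surjective f x⟩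

open GrothLib.FinCov (IsFrame) in
/-- Germs of a frame form a basis of each stalk. -/
theorem bijective_germ_comb {n : ℕ} {F : X.Modules} {D : X.Opens} {e : Fin n → Γ(F, D)}
    (he : IsFrame F D e) {x : X} (hx : x ∈ D) :
    Function.Bijective fun c : Fin n → X.presheaf.stalk x => ∑ i, c i • F.presheaf.germ D x hx (e i) := by
  let L := Fintype.linearCombination (X.presheaf.stalk x) fun i => F.presheaf.germ D x hx (e i)
  obtain ⟨b⟩ := stalk_basis_of_frame he hx
  have hsurj : Function.Surjective L := fun v => by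
    obtain ⟨U, hU, m, rfl⟩ := TopCat.Presheaf.exists_germ_eq F.presheaf v
    obtain ⟨c, hc⟩ := (he (U ⊓ D) inf_le_right).2 (F.presheaf.map (homOfLE inf_le_left).op m)
    refine ⟨fun i => X.presheaf.germ (U ⊓ D) x ⟨hU, hx⟩ (c i), ?_⟩
    dsimp only at hc
    rw [← TopCat.Presheaf.germ_res_apply F.presheaf (homOfLE (inf_le_left : U ⊓ D ≤ U)) x ⟨hU, hx⟩ m, ← hc,
      germ_sum_smul, Fintype.linearCombination_apply]
    exact Finset.sum_congr rfl fun i _ => by rw [TopCat.Presheaf.germ_res_apply]
  have h : Function.Bijective (b.equivFun.toLinearMap ∘ₗ L) :=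
    OrzechProperty.bijective_of_surjective_endomorphism _ (b.equivFun.surjective.comp hsurj)
  exact (Function.Bijective.of_comp_iff' b.equivFun.bijective L).1 h

/-- Two coherent modules isomorphic over an open subset receive maps from a third coherent module
which are bijective there. -/
theorem exists_comparison [IsLocallyNoetherian X] {A B : X.Modules} (hA : Coh.IsCoh A) (hB : Coh.IsCoh B)
    (U : X.Opens) (φ : A.restrict U.ι ≅ B.restrict U.ι) :
    ∃ (H : X.Modules) (p : H ⟶ A) (q : H ⟶ B), Coh.IsCoh H ∧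
      ∀ y ∈ U, Function.Bijective (stalkLin p y) ∧ Function.Bijective (stalkLin q y) := by
  let adj := Scheme.Modules.restrictAdjunction U.ι
  let j := Scheme.Modules.pushforward U.ι
  let a : A ⟶ j.obj (B.restrict U.ι) := adj.unit.app A ≫ j.map φ.hom
  let b : B ⟶ j.obj (B.restrict U.ι) := adj.unit.app B
  have hbU : ∀ y ∈ U, Function.Bijective (stalkLin b y) := fun y hy =>
    stalkLin_bijective_of_app_bijective _ hy fun T hT => unit_app_bijective B U hT
  have haU : ∀ y ∈ U, Function.Bijective (stalkLin a y) := fun y hy => by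
    have h1 : Function.Bijective (stalkLin (adj.unit.app A) y) :=
      stalkLin_bijective_of_app_bijective _ hy fun T hT => unit_app_bijective A U hT
    have h2 := (stalkLin_bijective_of_isIso (j.map φ.hom) y).comp h1
    have h3 : ⇑(stalkLin a y) = stalkLin (j.map φ.hom) y ∘ stalkLin (adj.unit.app A) y :=
      funext fun e => QCoh.stalkLin_comp (adj.unit.app A) (j.map φ.hom) y e
    rw [h3]
    exact h2
  haveI := hA.1
  haveI := hB.1
  haveI := (Cohom.isCoh_restrict B hB U.ι).1
  haveI : (j.obj (B.restrict U.ι)).IsQuasicoherent := QCoh.isQuasicoherent_pushforward U.ι (B.restrict U.ι)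
  let ψ : A ⊞ B ⟶ j.obj (B.restrict U.ι) := biprod.desc a (-b)
  have hAB := QCoh.isCoh_biprod' hA hB
  haveI := hAB.1
  haveI := QCoh.isQuasicoherent_kernel ψ
  have hψ : ∀ (y : X) (e : (A ⊞ B).presheaf.stalk y), stalkLin ψ y e =
      stalkLin a y (stalkLin (biprod.fst : A ⊞ B ⟶ A) y e) -
        stalkLin b y (stalkLin (biprod.snd : A ⊞ B ⟶ B) y e) := by
    intro y e
    conv_lhs => rw [← QCoh.biprod_stalk_total A B y e]
    rw [map_add, ← QCoh.stalkLin_comp (biprod.inl : A ⟶ A ⊞ B), ← QCoh.stalkLin_comp (biprod.inr : B ⟶ A ⊞ B),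
      biprod.inl_desc, biprod.inr_desc, stalkLin_neg, sub_eq_add_neg]
  have hex : ∀ (y : X) (e : (A ⊞ B).presheaf.stalk y), stalkLin ψ y e = 0 →
      ∃ h, stalkLin (kernel.ι ψ) y h = e := by
    intro y e he
    exact (ShortComplex.moduleCat_exact_iff _).1 ((OX.exact_iff (ShortComplex.mk _ _ (kernel.condition ψ))).1
      (ShortComplex.exact_of_f_is_kernel _ (kernelIsKernel ψ)) y) e he
  refine ⟨kernel ψ, kernel.ι ψ ≫ biprod.fst, kernel.ι ψ ≫ biprod.snd,
    ⟨inferInstance, QCoh.isFiniteType_of_mono (kernel.ι ψ) hAB.2⟩, fun y hy => ?_⟩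
  have hrel : ∀ h : (kernel ψ).presheaf.stalk y, stalkLin a y (stalkLin (biprod.fst : A ⊞ B ⟶ A) y
      (stalkLin (kernel.ι ψ) y h)) = stalkLin b y (stalkLin (biprod.snd : A ⊞ B ⟶ B) y (stalkLin (kernel.ι ψ) y h)) := by
    intro h
    rw [← sub_eq_zero, ← hψ, ← QCoh.stalkLin_comp, kernel.condition]
    exact LinearMap.congr_fun (congrArg ModuleCat.Hom.hom ((OX.stalk y).map_zero (kernel ψ) _)) h
  have hzero : ∀ h, stalkLin (biprod.fst : A ⊞ B ⟶ A) y (stalkLin (kernel.ι ψ) y h) = 0 →
      stalkLin (biprod.snd : A ⊞ B ⟶ B) y (stalkLin (kernel.ι ψ) y h) = 0 → h = 0 := by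
    intro h h1 h2
    apply QCoh.stalkLin_injective (kernel.ι ψ) y
    rw [map_zero, ← QCoh.biprod_stalk_total A B y (stalkLin (kernel.ι ψ) y h), h1, h2, map_zero, map_zero, add_zero]
  have hlift : ∀ (u : A.presheaf.stalk y) (v : B.presheaf.stalk y), stalkLin a y u = stalkLin b y v →
      ∃ h, stalkLin (kernel.ι ψ ≫ biprod.fst) y h = u ∧ stalkLin (kernel.ι ψ ≫ biprod.snd) y h = v := by
    intro u v huv
    let e := stalkLin (biprod.inl : A ⟶ A ⊞ B) y u + stalkLin (biprod.inr : B ⟶ A ⊞ B) y v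
    have e1 : stalkLin (biprod.fst : A ⊞ B ⟶ A) y e = u := by
      rw [map_add, ← QCoh.stalkLin_comp, ← QCoh.stalkLin_comp, biprod.inl_fst, biprod.inr_fst, QCoh.stalkLin_id]
      exact add_eq_left.2 (LinearMap.congr_fun (congrArg ModuleCat.Hom.hom ((OX.stalk y).map_zero B A)) v)
    have e2 : stalkLin (biprod.snd : A ⊞ B ⟶ B) y e = v := by
      rw [map_add, ← QCoh.stalkLin_comp, ← QCoh.stalkLin_comp, biprod.inl_snd, biprod.inr_snd, QCoh.stalkLin_id]
      exact add_eq_right.2 (LinearMap.congr_fun (congrArg ModuleCat.Hom.hom ((OX.stalk y).map_zero A B)) u)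
    obtain ⟨h, hh⟩ := hex y e (by rw [hψ, e1, e2, huv, sub_self])
    exact ⟨h, by rw [QCoh.stalkLin_comp, hh, e1], by rw [QCoh.stalkLin_comp, hh, e2]⟩
  refine ⟨⟨(injective_iff_map_eq_zero _).2 fun h hh => ?_, fun u => ?_⟩,
    ⟨(injective_iff_map_eq_zero _).2 fun h hh => ?_, fun v => ?_⟩⟩
  · rw [QCoh.stalkLin_comp] at hh
    exact hzero h hh ((hbU y hy).1 (by rw [← hrel, hh, map_zero, map_zero]))
  · obtain ⟨v, hv⟩ := (hbU y hy).2 (stalkLin a y u)
    obtain ⟨h, h1, -⟩ := hlift u v hv.symm
    exact ⟨h, h1⟩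
  · rw [QCoh.stalkLin_comp] at hh
    exact hzero h ((haU y hy).1 (by rw [hrel, hh, map_zero, map_zero])) hh
  · obtain ⟨u, hu⟩ := (haU y hy).2 (stalkLin b y v)
    obtain ⟨h, -, h2⟩ := hlift u v hu
    exact ⟨h, h2⟩

variable (k : Type u) [Field k] [X.Over (Spec (CommRingCat.of k))] [IsProper (X ↘ Spec (CommRingCat.of k))]

include k in
/-- A closed subset avoiding all generic points of a curve is a finite set of closed points. -/
theorem finite_closed_of_disjoint (hd : topologicalKrullDim X ≤ 1) {U : X.Opens}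
    (hU : genericPoints (X : Type u) ⊆ U) :
    ((U : Set X)ᶜ).Finite ∧ ∀ x ∈ (U : Set X)ᶜ, IsClosed ({x} : Set X) := by
  have := isNoetherian_of_proper (X := X) k
  have hcl : ∀ x ∈ (U : Set X)ᶜ, IsClosed ({x} : Set X) := fun x hx =>
    isClosed_singleton_of_notMem_genericPoints hd fun h => hx (hU h)
  exact ⟨finite_of_closed_points U.2.isClosed_compl hcl, hcl⟩

/-- The defect `χ(A ⊗ E) - n χ(A)` does not change along maps with finitely supported kernel and cokernel. -/
theorem euler_tF_sub_eq {n : ℕ} {E : X.Modules} (hE : FlatMod.IsFinLocFreeOfRank n E) {A B : X.Modules}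
    (hA : Coh.IsCoh A) (hB : Coh.IsCoh B) (φ : A ⟶ B) (S : Set X) (hS : S.Finite)
    (hcl : ∀ x ∈ S, IsClosed ({x} : Set X)) (hbij : ∀ x ∉ S, Function.Bijective (stalkLin φ x)) :
    Curv2.euler k X ((tF E).obj A) - n * Curv2.euler k X A =
      Curv2.euler k X ((tF E).obj B) - n * Curv2.euler k X B := by
  have := isNoetherian_of_proper (X := X) k
  have hflat := OX.flat_of_isFinLocFree (FinCov.isFinLocFree_of_rank hE)
  have hK : CohB1.support (kernel φ) ⊆ S := fun x hx => by_contra fun h =>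
    QCoh.notMem_support_kernel_of_injective φ (hbij x h).1 hx
  have hQ : CohB1.support (cokernel φ) ⊆ S := fun x hx => by_contra fun h =>
    QCoh.notMem_support_cokernel_of_surjective φ (hbij x h).2 hx
  let S₁ := ShortComplex.mk (kernel.ι φ) (cokernel.π (kernel.ι φ)) (cokernel.condition _)
  have hS₁ : S₁.ShortExact := { exact := ShortComplex.exact_of_g_is_cokernel _ (cokernelIsCokernel _) }
  let g : cokernel (kernel.ι φ) ⟶ B := cokernel.desc (kernel.ι φ) φ (kernel.condition φ)
  haveI : Mono g := inferInstanceAs (Mono (Abelian.factorThruCoimage φ))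
  have hπg : cokernel.π (kernel.ι φ) ≫ g = φ := cokernel.π_desc _ _ _
  let S₂ := ShortComplex.mk g (cokernel.π φ) (by
    rw [← cancel_epi (cokernel.π (kernel.ι φ)), ← Category.assoc, hπg, cokernel.condition, comp_zero])
  have hS₂ : S₂.ShortExact := by
    refine { exact := ShortComplex.exact_of_g_is_cokernel _ ?_ }
    refine CokernelCofork.IsColimit.ofπ _ _ (fun l hl => cokernel.desc φ l (by rw [← hπg, Category.assoc, hl, comp_zero]))
      (fun l hl => cokernel.π_desc _ _ _) (fun l hl m hm => ?_)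
    rw [← cancel_epi (cokernel.π φ), cokernel.π_desc]
    exact hm
  have hKc := QCoh.isCoh_kernel φ hA hB
  have hQc := QCoh.isCoh_cokernel φ hA hB
  have hIc := QCoh.isCoh_cokernel (kernel.ι φ) hKc hA
  have e1 := euler_additive k hS₁ hKc hA hIc
  have e2 := euler_additive k hS₂ hIc hB hQc
  have hlf := FinCov.isFinLocFree_of_rank hE
  have e3 := euler_additive k (OX.tensor_map_shortExact hflat hS₁) (isCoh_tF hKc hlf) (isCoh_tF hA hlf) (isCoh_tF hIc hlf)
  have e4 := euler_additive k (OX.tensor_map_shortExact hflat hS₂) (isCoh_tF hIc hlf) (isCoh_tF hB hlf) (isCoh_tF hQc hlf)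
  have e5 := euler_tF_of_finite_support k hE hKc (hS.subset hK) (fun x hx => hcl x (hK hx))
  have e6 := euler_tF_of_finite_support k hE hQc (hS.subset hQ) (fun x hx => hcl x (hQ hx))
  simp only [ShortComplex.map_X₁, ShortComplex.map_X₂, ShortComplex.map_X₃, S₁, S₂] at e1 e2 e3 e4
  linear_combination e3 + e5 - n * e1 - e4 + n * e2 - e6

omit [IsProper (X ↘ Spec (CommRingCat.of k))] in
theorem euler_freeMod [IsProper (X ↘ Spec (CommRingCat.of k))] {n : ℕ} {E : X.Modules}
    (hE : FlatMod.IsFinLocFreeOfRank n E) (m : ℕ) :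
    Curv2.euler k X ((tF E).obj (FlatMod.freeMod X m)) - n * Curv2.euler k X (FlatMod.freeMod X m) =
      m * Curv2.deg k X E n := by
  have := isNoetherian_of_proper (X := X) k
  have hflat := OX.flat_of_isFinLocFree (FinCov.isFinLocFree_of_rank hE)
  have hlf := FinCov.isFinLocFree_of_rank hE
  have hfree : ∀ r, Coh.IsCoh (FlatMod.freeMod X r) := fun r => isCoh_of_isFinLocFree fun x =>
    ⟨⊤, r, trivial, ⟨DCoh.restrictFreeModIso _ r⟩⟩
  induction m with
  | zero =>
    have hz : ∀ {M : X.Modules}, IsZero M → Curv2.euler k X M = 0 := fun {M} hM => by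
      have hs : CohB1.support M ⊆ ∅ := fun x hx =>
        hx (ModuleCat.isZero_iff_subsingleton.1 ((OX.stalk x).map_isZero hM))
      rw [euler_eq_of_finite_support k M (Set.finite_empty.subset hs) fun x hx => (hs hx).elim]
      have : Subsingleton Γ(M, ⊤) := subsingleton_of_forall_eq 0 fun s =>
        QCoh.section_eq_zero_of_germ M s fun x _ =>
          @Subsingleton.elim _ (QCoh.stalk_subsingleton_of_notMem fun h => hs h) _ _
      have : Subsingleton (Coh.HH X M 0) := (ProjCoh.H0top M).toEquiv.subsingleton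
      simp [Module.finrank_zero_of_subsingleton]
    rw [hz (isZero_freeMod_zero X), hz ((tF E).map_isZero (isZero_freeMod_zero X))]
    simp
  | succ m ih =>
    let S := ShortComplex.mk (biprod.inl : FlatMod.freeMod X m ⟶ FlatMod.freeMod X m ⊞ FlatMod.freeMod X 1)
      biprod.snd (by simp)
    have hS : S.ShortExact := (ShortComplex.Splitting.ofHasBinaryBiproduct _ _).shortExact
    have hmid : Coh.IsCoh (FlatMod.freeMod X m ⊞ FlatMod.freeMod X 1) := QCoh.isCoh_biprod' (hfree m) (hfree 1)
    have e1 := euler_additive k hS (hfree m) hmid (hfree 1)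
    have e2 := euler_additive k (OX.tensor_map_shortExact hflat hS) (isCoh_tF (hfree m) hlf) (isCoh_tF hmid hlf)
      (isCoh_tF (hfree 1) hlf)
    have i := DCoh.freeModBiprodIso X m 1
    rw [euler_of_iso k i.symm, euler_of_iso k ((tF E).mapIso i.symm)]
    have e3 : Curv2.euler k X (FlatMod.freeMod X 1) = Curv2.euler k X (Coh.structureModule X) :=
      euler_of_iso k (coproductUniqueIso (fun _ : Fin 1 => Coh.structureModule X))
    have e4 : Curv2.euler k X ((tF E).obj (FlatMod.freeMod X 1)) = Curv2.euler k X E :=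
      euler_of_iso k ((tF E).mapIso (coproductUniqueIso (fun _ : Fin 1 => Coh.structureModule X)) ≪≫
        OX.tensorUnitLeftIso E)
    simp only [ShortComplex.map_X₁, ShortComplex.map_X₂, ShortComplex.map_X₃, S] at e1 e2
    rw [Curv2.deg] at ih ⊢
    push_cast
    linear_combination e2 - n * e1 + ih + e4 - n * e3

/-- The Euler characteristic of a tensor product with a bundle, for a module generically free of rank `m`. -/
theorem euler_tF (hd : topologicalKrullDim X ≤ 1) {n : ℕ} {E : X.Modules}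
    (hE : FlatMod.IsFinLocFreeOfRank n E) {A : X.Modules} (hA : Coh.IsCoh A) {U : X.Opens}
    (hU : genericPoints (X : Type u) ⊆ U) {m : ℕ} (φ : A.restrict U.ι ≅ FlatMod.freeMod (↑U) m) :
    Curv2.euler k X ((tF E).obj A) = m * Curv2.deg k X E n + n * Curv2.euler k X A := by
  have := isNoetherian_of_proper (X := X) k
  have hfree : Coh.IsCoh (FlatMod.freeMod X m) := isCoh_of_isFinLocFree fun x =>
    ⟨⊤, m, trivial, ⟨DCoh.restrictFreeModIso _ m⟩⟩
  obtain ⟨H, p, q, hH, hpq⟩ := exists_comparison hA hfree U (φ ≪≫ (DCoh.restrictFreeModIso U.ι m).symm)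
  obtain ⟨hfin, hcl⟩ := finite_closed_of_disjoint k hd hU
  have e1 := euler_tF_sub_eq k hE hH hA p _ hfin hcl fun x hx => (hpq x (not_not.1 hx)).1
  have e2 := euler_tF_sub_eq k hE hH hfree q _ hfin hcl fun x hx => (hpq x (not_not.1 hx)).2
  have e3 := euler_freeMod k hE m
  linear_combination e3 + e2 - e1

include k in
/-- A bundle of constant rank is trivial on an open containing all generic points. -/
theorem exists_trivial_genericPoints {n : ℕ} {E : X.Modules} (hE : FlatMod.IsFinLocFreeOfRank n E) :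
    ∃ U : X.Opens, genericPoints (X : Type u) ⊆ U ∧ Nonempty (E.restrict U.ι ≅ FlatMod.freeMod (↑U) n) := by
  classical
  have := isNoetherian_of_proper (X := X) k
  have hfin : (genericPoints (X : Type u)).Finite :=
    genericPoints.finite NoetherianSpace.finite_irreducibleComponents
  haveI := hfin.to_subtype
  choose D e hxD he using fun η : genericPoints (X : Type u) => FinCov.exists_frame_nhd_of_rank hE η.1
  let C : genericPoints (X : Type u) → Set X := fun η =>
    ⋃ η' ∈ (genericPoints (X : Type u) \ {η.1}), closure ({η'} : Set X)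
  let W : genericPoints (X : Type u) → X.Opens := fun η =>
    D η ⊓ ⟨(C η)ᶜ, ((hfin.subset Set.diff_subset).isClosed_biUnion fun _ _ => isClosed_closure).isOpen_compl⟩
  have hηW : ∀ η, η.1 ∈ W η := fun η => ⟨hxD η, fun hmem => by
    obtain ⟨η', ⟨hη', hne⟩, h⟩ := Set.mem_iUnion₂.mp hmem
    have hle : closure ({η.1} : Set X) ≤ closure {η'} :=
      closure_minimal (Set.singleton_subset_iff.mpr h) isClosed_closure
    have : closure ({η.1} : Set X) = closure {η'} :=
      le_antisymm hle (η.2.2 isIrreducible_singleton.closure hle)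
    exact hne (Inseparable.eq ((inseparable_iff_closure_eq).mpr this)).symm⟩
  have hcover : ∀ y : X, ∃ ζ ∈ genericPoints (X : Type u), y ∈ closure ({ζ} : Set X) := by
    intro y
    have hy : y ∈ closure (genericPoints (X : Type u)) := by rw [genericPoints.closure]; trivial
    rw [← Set.biUnion_of_singleton (genericPoints (X : Type u)), hfin.closure_biUnion] at hy
    obtain ⟨ζ, hζ, hy⟩ := Set.mem_iUnion₂.mp hy
    exact ⟨ζ, hζ, hy⟩
  have hdisj : ∀ (η η' : genericPoints (X : Type u)) (y : X), y ∈ W η → y ∈ W η' → η = η' := by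
    intro η η' y hy hy'
    obtain ⟨ζ, hζ, hyζ⟩ := hcover y
    have h1 : ∀ θ, y ∈ W θ → ζ = θ.1 := fun θ hθ => by
      by_contra h
      exact hθ.2 (Set.mem_iUnion₂.mpr ⟨ζ, ⟨hζ, h⟩, hyζ⟩)
    exact Subtype.ext ((h1 η hy).symm.trans (h1 η' hy'))
  let U : X.Opens := ⨆ η, W η
  let sf : ∀ i : Fin n, ∀ η, Γ(E, W η) := fun i η => E.presheaf.map (homOfLE (inf_le_left : W η ≤ D η)).op (e η i)
  have hcompat : ∀ i, TopCat.Presheaf.IsCompatible E.presheaf W (sf i) := by
    intro i a b
    by_cases hab : a = b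
    · subst hab; rfl
    · refine TopCat.Presheaf.section_ext (C := Ab.{u}) (X := X.carrier) ⟨E.presheaf, E.isSheaf⟩ _ _ _ fun z hz => ?_
      exact absurd (hdisj a b z hz.1 hz.2) hab
  choose s hs hsu using fun i => TopCat.Sheaf.existsUnique_gluing' ⟨E.presheaf, E.isSheaf⟩ W U
    (fun η => homOfLE (le_iSup W η)) le_rfl (sf i) (hcompat i)
  let e' : Fin n → Γ(E, U) := s
  have hU : genericPoints (X : Type u) ⊆ U := fun η hη => Opens.mem_iSup.2 ⟨⟨η, hη⟩, hηW _⟩
  refine ⟨U, hU, FinCov.exists_iso_of_frame (e := e') (isFrame_of_stalk_basis fun y hy => ?_)⟩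
  obtain ⟨η, hy'⟩ := Opens.mem_iSup.1 hy
  have hgerm : ∀ i, E.presheaf.germ U y hy (e' i) = E.presheaf.germ (D η) y hy'.1 (e η i) := fun i => by
    have h1 := congrArg (E.presheaf.germ (W η) y hy') (hs i η)
    erw [TopCat.Presheaf.germ_res_apply] at h1
    refine h1.trans ?_
    exact TopCat.Presheaf.germ_res_apply _ _ _ _ _
  simp only [hgerm]
  exact bijective_germ_comb (he η) hy'.1

end GrothLib.Euler
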