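import Groth.Agent.Lib.Euler.Slope
import Mathlib.AlgebraicGeometry.AlgClosed.Basic
import Mathlib.LinearAlgebra.Matrix.Charpoly.Coeff
import Mathlib.LinearAlgebra.Determinant

/-!
# Scalar endomorphisms and eigenvalues at rational points
-/

set_option linter.style.haveILetI false

universe u

open CategoryTheory CategoryTheory.Limits AlgebraicGeometry TopologicalSpace Opposite

namespace GrothLib.Euler

open GrothLib.QCoh (stalkLin)

variable {X : Scheme.{u}}

/-- Multiplication by a global function as a module endomorphism. -/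
noncomputable def smulMod (E : X.Modules) (r : Coh.Γtop X) : E ⟶ E :=
  ⟨PresheafOfModules.homMk (Coh.smulAb E r).hom fun U (a : Γ(X, U.unop)) (m : Γ(E, U.unop)) => by
    show (show Γ(X, U.unop) from Coh.resTop X U r) • (a • m) = a • ((show Γ(X, U.unop) from Coh.resTop X U r) • m)
    exact smul_comm _ _ _⟩

theorem toSheaf_map_smulMod (E : X.Modules) (r : Coh.Γtop X) :
    (SheafOfModules.toSheaf X.ringCatSheaf).map (smulMod E r) = Coh.smulAb E r := rfl

theorem smulMod_app (E : X.Modules) (r : Coh.Γtop X) (U : X.Opens) (m : Γ(E, U)) :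
    (smulMod E r).app U m = (X.presheaf.map (homOfLE (le_top : U ≤ ⊤)).op r : Γ(X, U)) • m := rfl

theorem stalkLin_smulMod (E : X.Modules) (r : Coh.Γtop X) (x : X) (e : E.presheaf.stalk x) :
    stalkLin (smulMod E r) x e = X.presheaf.germ ⊤ x trivial r • e := by
  obtain ⟨U, hU, s, rfl⟩ := TopCat.Presheaf.exists_germ_eq E.presheaf e
  rw [QCoh.stalkLin_germ, smulMod_app, WeakAss.germ_smul, TopCat.Presheaf.germ_res_apply]

theorem stalkLin_sub_apply {A B : X.Modules} (f g : A ⟶ B) (x : X) (e : A.presheaf.stalk x) :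
    stalkLin (f - g) x e = stalkLin f x e - stalkLin g x e := by
  obtain ⟨U, hU, s, rfl⟩ := TopCat.Presheaf.exists_germ_eq A.presheaf e
  rw [QCoh.stalkLin_germ, QCoh.stalkLin_germ, QCoh.stalkLin_germ, ← map_sub]
  rfl

theorem stalkLin_bijective_of_isIso {A B : X.Modules} (f : A ⟶ B) [IsIso f] (x : X) :
    Function.Bijective (stalkLin f x) :=
  ⟨QCoh.stalkLin_injective f x, QCoh.stalkLin_surjective f x⟩

variable {k : Type u} [Field k] [IsAlgClosed k]

/-- At a closed point of a variety over an algebraically closed field every residue class is constant. -/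
theorem exists_const_residue (f : X ⟶ Spec (CommRingCat.of k)) [LocallyOfFiniteType f] {x : X}
    (hx : IsClosed ({x} : Set X)) : Function.Bijective fun c : k =>
      IsLocalRing.residue (X.presheaf.stalk x) (X.presheaf.germ ⊤ x trivial (Coh.toGlobal f c)) := by
  have h := congrArg Scheme.Hom.appTop (SpecMap_residueFieldIsoBase_inv f x hx)
  rw [Scheme.Hom.comp_appTop] at h
  have h2 : (residueFieldIsoBase f x hx).inv ≫ (Scheme.ΓSpecIso (X.residueField x)).inv =
      (Scheme.ΓSpecIso (CommRingCat.of k)).inv ≫ f.appTop ≫ (X.fromSpecResidueField x).appTop := by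
    rw [Scheme.ΓSpecIso_inv_naturality, h]
  have h3 : (residueFieldIsoBase f x hx).inv = (Scheme.ΓSpecIso (CommRingCat.of k)).inv ≫ f.appTop ≫
      X.presheaf.germ ⊤ x trivial ≫ X.residue x := by
    rw [← cancel_mono (Scheme.ΓSpecIso (X.residueField x)).inv, h2]
    simp [Scheme.fromSpecResidueField, Scheme.fromSpecStalk_appTop, Scheme.ΓSpecIso_inv_naturality]
  have hb : Function.Bijective (residueFieldIsoBase f x hx).inv.hom :=
    (residueFieldIsoBase f x hx).commRingCatIsoToRingEquiv.symm.bijective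
  rw [h3] at hb
  exact hb

/-- An endomorphism of a nonzero vector bundle minus a suitable scalar is not invertible. -/
theorem exists_not_isIso_smulMod_sub (f : X ⟶ Spec (CommRingCat.of k)) [LocallyOfFiniteType f]
    [CompactSpace X] [Nonempty X] {E : X.Modules} {r : ℕ} (hr : 0 < r)
    (hE : FlatMod.IsFinLocFreeOfRank r E) (φ : E ⟶ E) :
    ∃ c : k, ¬ IsIso (smulMod E (Coh.toGlobal f c) - φ) := by
  classical
  obtain ⟨x, -, hx⟩ := (isClosed_univ : IsClosed (Set.univ : Set X)).exists_closed_singleton Set.univ_nonempty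
  obtain ⟨D, e, hxD, he⟩ := FinCov.exists_frame_nhd_of_rank hE x
  obtain ⟨b⟩ := stalk_basis_of_frame he hxD
  let R := X.presheaf.stalk x
  let ρ : k ≃+* IsLocalRing.ResidueField R :=
    RingEquiv.ofBijective (((IsLocalRing.residue R).comp (X.presheaf.germ ⊤ x trivial).hom).comp (Coh.toGlobal f))
      (exists_const_residue f hx)
  let A : Matrix (Fin r) (Fin r) R := LinearMap.toMatrix b b (stalkLin φ x)
  let Ā : Matrix (Fin r) (Fin r) k := A.map (ρ.symm.toRingHom.comp (IsLocalRing.residue R))
  haveI : Nonempty (Fin r) := ⟨⟨0, hr⟩⟩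
  obtain ⟨c, hc⟩ := IsAlgClosed.exists_root Ā.charpoly (by
    rw [Matrix.charpoly_degree_eq_dim, Fintype.card_fin]; exact_mod_cast hr.ne')
  refine ⟨c, fun hiso => ?_⟩
  rw [Polynomial.IsRoot.def, Matrix.eval_charpoly] at hc
  let ψ := stalkLin (smulMod E (Coh.toGlobal f c) - φ) x
  have hψ : IsUnit (LinearMap.toMatrix b b ψ).det := by
    have h := (LinearEquiv.ofBijective ψ (stalkLin_bijective_of_isIso _ x)).isUnit_det b b
    exact h
  let g : R := X.presheaf.germ ⊤ x trivial (Coh.toGlobal f c)
  have hM : LinearMap.toMatrix b b ψ = Matrix.scalar (Fin r) g - A := by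
    have : ψ = g • (LinearMap.id : E.presheaf.stalk x →ₗ[R] E.presheaf.stalk x) - stalkLin φ x :=
      LinearMap.ext fun v => by
        rw [LinearMap.sub_apply, LinearMap.smul_apply, LinearMap.id_apply]
        exact (stalkLin_sub_apply _ _ _ _).trans (by rw [stalkLin_smulMod])
    rw [this, map_sub, map_smul, LinearMap.toMatrix_id, Matrix.scalar_apply, ← Matrix.smul_one_eq_diagonal]
  rw [hM] at hψ
  have h2 := hψ.map (ρ.symm.toRingHom.comp (IsLocalRing.residue R))
  rw [RingHom.map_det, map_sub] at h2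
  have h3 : (ρ.symm.toRingHom.comp (IsLocalRing.residue R)).mapMatrix (Matrix.scalar (Fin r) g) =
      Matrix.scalar (Fin r) c := by
    rw [RingHom.mapMatrix_apply, Matrix.scalar_apply, Matrix.scalar_apply, Matrix.diagonal_map (map_zero _)]
    congr 1
    funext i
    exact ρ.symm_apply_apply c
  rw [h3] at h2
  exact h2.ne_zero hc

variable [X.Over (Spec (CommRingCat.of k))] [IsProper (X ↘ Spec (CommRingCat.of k))] [IsIntegral X]

/-- Endomorphisms of a stable bundle are scalars. -/
theorem exists_eq_smulMod_of_subLt (hd : topologicalKrullDim X ≤ 1)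
    (hpid : ∀ x : X, IsPrincipalIdealRing (X.presheaf.stalk x)) {E : X.Modules} {r : ℕ} (hr : 0 < r)
    (hE : FlatMod.IsFinLocFreeOfRank r E) (hst : SubLt k E (Curv2.deg k X E r) r) (φ : E ⟶ E) :
    ∃ c : k, φ = smulMod E (Coh.toGlobal (X ↘ Spec (CommRingCat.of k)) c) := by
  haveI := isNoetherian_of_proper (X := X) k
  obtain ⟨c, hc⟩ := exists_not_isIso_smulMod_sub (X ↘ Spec (CommRingCat.of k)) hr hE φ
  refine ⟨c, (sub_eq_zero.1 (by_contra fun h => hc ?_)).symm⟩
  exact isIso_of_ne_zero_endo k hd hpid hr hE hst _ h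

end GrothLib.Euler
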