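import Groth.Agent.Lib.Euler.Basic
import Groth.Agent.Lib.Euler.Coh
import Groth.Agent.Lib.ProjCoh.Generic
import Groth.Agent.Lib.CurvePoints.Basic

/-!
# Nonzero sections of invertible modules on integral curves
-/

set_option linter.style.haveILetI false

universe u

open CategoryTheory CategoryTheory.Limits AlgebraicGeometry TopologicalSpace Opposite

namespace GrothLib.Euler

open GrothLib.InvExt (IsGen mres fres)
open GrothLib.QCoh (stalkLin)

variable {X : Scheme.{u}}

/-- A finitely supported module with no global cohomology in degree zero is zero. -/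
theorem isZero_of_subsingleton_H0 (M : X.Modules) (hfin : (CohB1.support M).Finite)
    (hcl : ∀ x ∈ CohB1.support M, IsClosed ({x} : Set X)) (h : Subsingleton (Coh.HH X M 0)) :
    IsZero M := by
  haveI := isFlasque_of_finite_support M hfin hcl
  have htop : Subsingleton Γ(M, ⊤) := (ProjCoh.H0top M).symm.toEquiv.subsingleton
  refine (IsZero.iff_id_eq_zero M).2 (Scheme.Modules.hom_ext _ _ fun V => AddCommGrpCat.ext fun t => ?_)
  obtain ⟨t', ht'⟩ := (AddCommGrpCat.epi_iff_surjective _).1
    (TopCat.Presheaf.IsFlasque.epi (X := X.carrier) (F := (Coh.toAb M).obj)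
      (homOfLE (le_top : V ≤ ⊤)).op) t
  rw [Subsingleton.elim (α := Γ(M, ⊤)) t' 0] at ht'
  show t = 0
  exact ht'.symm.trans (map_zero _)

theorem homOfSection_app {L : X.Modules} (s : Γ(L, ⊤)) (T : X.Opens) (a : Γ(Coh.structureModule X, T)) :
    (FinCov.homOfSection s).app T a = (show Γ(X, T) from a) • L.presheaf.map (homOfLE (le_top : T ≤ ⊤)).op s := by
  rw [← FinCov.homOfSection_one s T, ← Scheme.Modules.Hom.app_smul, FinCov.smul_one]

variable [IsIntegral X]

theorem fres_injective {V W : X.Opens} (h : W ≤ V) [Nonempty (W : Scheme.{u})] :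
    Function.Injective (fres X h) := map_injective_of_isIntegral X (homOfLE h)

theorem exists_gen_section {L : X.Modules} (hL : PicF.IsInvertible L) {s : Γ(L, ⊤)} (hs : s ≠ 0) (x : X) :
    ∃ (V : X.Opens) (e : Γ(L, V)) (c : Γ(X, V)), x ∈ V ∧ IsGen L V e ∧ c ≠ 0 ∧
      L.presheaf.map (homOfLE (le_top : V ≤ ⊤)).op s = c • e := by
  choose V e hxV he using fun y : X => InvExt.exists_gen_nhd hL y
  choose c hc using fun y => (he y).exists_smul_eq le_rfl (L.presheaf.map (homOfLE (le_top : V y ≤ ⊤)).op s)
  simp only [InvExt.mres_self] at hc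
  refine ⟨V x, e x, c x, hxV x, he x, fun h0 => hs ?_, hc x⟩
  refine QCoh.section_eq_zero_of_germ L s fun y hy => ?_
  haveI : Nonempty (V x ⊓ V y : X.Opens) :=
    ⟨⟨genericPoint X, ((genericPoint_spec X).specializes trivial).mem_open (V x).2 (hxV x),
      ((genericPoint_spec X).specializes trivial).mem_open (V y).2 (hxV y)⟩⟩
  have h2 : fres X (inf_le_right : V x ⊓ V y ≤ V y) (c y) = 0 := by
    refine (he y).smul_left_injective (W := V x ⊓ V y) inf_le_right ?_
    rw [zero_smul, ← InvExt.mres_smul, ← hc, InvExt.mres, Cohom.map_map_apply]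
    have := congrArg (L.presheaf.map (homOfLE (inf_le_left : V x ⊓ V y ≤ V x)).op) (hc x)
    rw [Cohom.map_map_apply, h0, zero_smul, map_zero] at this
    exact this
  have hcy : c y = 0 := fres_injective (inf_le_right : V x ⊓ V y ≤ V y) (h2.trans (map_zero _).symm)
  rw [← QCoh.germ_map L (homOfLE (le_top : V y ≤ ⊤)) (hxV y) s, hc y, hcy, zero_smul, map_zero]

/-- The map `O ⟶ L` of a nonzero section is injective. -/
theorem homOfSection_app_injective {L : X.Modules} (hL : PicF.IsInvertible L) {s : Γ(L, ⊤)} (hs : s ≠ 0)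
    (T : X.Opens) : Function.Injective ((FinCov.homOfSection s).app T) := by
  refine (injective_iff_map_eq_zero _).2 fun a ha => ?_
  rw [homOfSection_app] at ha
  refine QCoh.section_eq_zero_of_germ (Coh.structureModule X) a fun x hx => ?_
  obtain ⟨V, e, c, hxV, he, hc0, hc⟩ := exists_gen_section hL hs x
  haveI : Nonempty (T ⊓ V : X.Opens) := ⟨⟨x, hx, hxV⟩⟩
  have h1 := congrArg (L.presheaf.map (homOfLE (inf_le_left : T ⊓ V ≤ T)).op) ha
  rw [map_zero, Scheme.Modules.map_smul, Cohom.map_map_apply] at h1
  have h2 := congrArg (L.presheaf.map (homOfLE (inf_le_right : T ⊓ V ≤ V)).op) hc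
  rw [Cohom.map_map_apply, Scheme.Modules.map_smul] at h2
  have h3 : (fres X (inf_le_left : T ⊓ V ≤ T) a * fres X (inf_le_right : T ⊓ V ≤ V) c) = 0 := by
    refine he.smul_left_injective (W := T ⊓ V) inf_le_right ?_
    rw [zero_smul, mul_smul]
    rw [← h1]
    congr 1
    exact h2.symm
  have h4 : fres X (inf_le_left : T ⊓ V ≤ T) a = 0 := (mul_eq_zero.1 h3).resolve_right fun h =>
    hc0 (fres_injective (inf_le_right : T ⊓ V ≤ V) (h.trans (map_zero _).symm))
  haveI : Nonempty T := ⟨⟨x, hx⟩⟩
  have ha0 : (show Γ(X, T) from a) = 0 := fres_injective (inf_le_left : T ⊓ V ≤ T) (h4.trans (map_zero _).symm)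
  exact (congrArg _ ha0).trans (map_zero _)

theorem mono_homOfSection {L : X.Modules} (hL : PicF.IsInvertible L) {s : Γ(L, ⊤)} (hs : s ≠ 0) :
    Mono (FinCov.homOfSection s) :=
  QCoh.mono_of_app_injective _ (homOfSection_app_injective hL hs)

theorem stalkLin_homOfSection_genericPoint {L : X.Modules} (hL : PicF.IsInvertible L) {s : Γ(L, ⊤)} (hs : s ≠ 0) :
    Function.Bijective (stalkLin (FinCov.homOfSection s) (genericPoint X)) := by
  obtain ⟨V, e, c, hxV, he, hc0, hc⟩ := exists_gen_section hL hs (genericPoint X)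
  have hη : genericPoint X ∈ X.basicOpen c := by
    have hne : X.basicOpen c ≠ ⊥ := fun hb => hc0 ((basicOpen_eq_bot_iff c).1 hb)
    obtain ⟨y, hy⟩ := (TopologicalSpace.Opens.ne_bot_iff_nonempty _).1 hne
    exact ((genericPoint_spec X).specializes trivial).mem_open (X.basicOpen c).2 hy
  refine stalkLin_bijective_of_app_bijective _ hη fun T hT =>
    ⟨homOfSection_app_injective hL hs T, fun m => ?_⟩
  have hTV : T ≤ V := hT.trans (X.basicOpen_le c)
  have hu := InvExt.isUnit_res_of_le_basicOpen hTV c hT
  obtain ⟨b, hb⟩ := he.exists_smul_eq hTV m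
  obtain ⟨d, hd⟩ := hu.exists_right_inv
  refine ⟨(show Γ(Coh.structureModule X, T) from (b * d : Γ(X, T))), ?_⟩
  rw [homOfSection_app]
  have h2 := congrArg (L.presheaf.map (homOfLE hTV).op) hc
  rw [Cohom.map_map_apply, Scheme.Modules.map_smul] at h2
  rw [h2, smul_smul, hb]
  congr 1
  rw [mul_assoc, mul_comm d]
  exact (congrArg (b * ·) hd).trans (mul_one b)

variable (k : Type u) [Field k] [X.Over (Spec (CommRingCat.of k))] [IsProper (X ↘ Spec (CommRingCat.of k))]

include k in
theorem finite_support_of_notMem_genericPoint (hd : topologicalKrullDim X ≤ 1) {Q : X.Modules} (hQ : Coh.IsCoh Q)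
    (hη : genericPoint X ∉ CohB1.support Q) :
    (CohB1.support Q).Finite ∧ ∀ x ∈ CohB1.support Q, IsClosed ({x} : Set X) := by
  have := isNoetherian_of_proper (X := X) k
  exact ⟨CurvePoints.finite_of_isClosed hd (QCoh.isClosed_support_of_isCoh hQ) hη,
    fun x hx => CurvePoints.isClosed_singleton hd fun h => hη (h ▸ hx)⟩

/-- The basic inequalities for a generically bijective monomorphism of coherent modules on a curve. -/
theorem exists_cokernel_data (hd : topologicalKrullDim X ≤ 1) {M N : X.Modules} (φ : M ⟶ N) [Mono φ]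
    (hM : Coh.IsCoh M) (hN : Coh.IsCoh N) (hη : Function.Surjective (stalkLin φ (genericPoint X))) :
    ∃ q : ℕ, Curv2.euler k X N = Curv2.euler k X M + q ∧
      Module.finrank k (Coh.HH X N 0) ≤ Module.finrank k (Coh.HH X M 0) + q ∧
      (q = 0 → IsIso φ) := by
  have := isNoetherian_of_proper (X := X) k
  have hQ : Coh.IsCoh (cokernel φ) := QCoh.isCoh_cokernel φ hM hN
  obtain ⟨hfin, hcl⟩ := finite_support_of_notMem_genericPoint k hd hQ
    (QCoh.notMem_support_cokernel_of_surjective φ hη)
  let S := ShortComplex.mk φ (cokernel.π φ) (cokernel.condition φ)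
  have hS : S.ShortExact := { exact := ShortComplex.exact_of_g_is_cokernel _ (cokernelIsCokernel φ) }
  refine ⟨Module.finrank k (Coh.HH X (cokernel φ) 0), ?_, ?_, fun h => ?_⟩
  · rw [euler_additive k hS hM hN hQ, euler_eq_of_finite_support k _ hfin hcl]
  · haveI := finiteDimensional_HH k hN 0
    haveI := finiteDimensional_HH k hM 0
    haveI := finiteDimensional_HH k hQ 0
    have e := finrank_eq_add_of_exact (Cohom.exact₂ (A := k) hS 0)
    have h1 := LinearMap.finrank_range_le (Cohom.hhMap k S.f 0)
    have h2 := Submodule.finrank_le (LinearMap.range (Cohom.hhMap k S.g 0))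
    calc Module.finrank k (Coh.HH X N 0) = _ := e
      _ ≤ _ := Nat.add_le_add h1 h2
  · haveI := finiteDimensional_HH k hQ 0
    have hsub : Subsingleton (Coh.HH X (cokernel φ) 0) := Module.finrank_zero_iff.1 h
    haveI : Epi φ := Preadditive.epi_of_isZero_cokernel φ (isZero_of_subsingleton_H0 _ hfin hcl hsub)
    exact isIso_of_mono_of_epi φ

theorem euler_structure (hd : topologicalKrullDim X ≤ 1) :
    Curv2.euler k X (Coh.structureModule X) =
      (Module.finrank k (Coh.HH X (Coh.structureModule X) 0) : ℤ) - Curv2.genus k X := by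
  haveI : (Coh.structureModule X).IsQuasicoherent := (isCoh_of_isInvertible isInvertible_structure).1
  exact euler_eq_sub k hd _

theorem exists_ne_zero_section {L : X.Modules} (h : Nontrivial (Coh.HH X L 0)) : ∃ s : Γ(L, ⊤), s ≠ 0 := by
  obtain ⟨x, hx⟩ := exists_ne (0 : Coh.HH X L 0)
  exact ⟨ProjCoh.H0top L x, fun h => hx ((ProjCoh.H0top L).injective (h.trans (map_zero _).symm))⟩

/-- An invertible module with a nonzero section: degree, number of sections, triviality in degree zero. -/
theorem section_data (hd : topologicalKrullDim X ≤ 1) {L : X.Modules} (hL : PicF.IsInvertible L)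
    (hs : Nontrivial (Coh.HH X L 0)) :
    0 ≤ Curv2.deg k X L 1 ∧
      (Module.finrank k (Coh.HH X L 0) : ℤ) ≤
        Module.finrank k (Coh.HH X (Coh.structureModule X) 0) + Curv2.deg k X L 1 ∧
      (Curv2.deg k X L 1 = 0 → Nonempty (L ≅ Coh.structureModule X)) := by
  obtain ⟨s, hs⟩ := exists_ne_zero_section hs
  haveI := mono_homOfSection hL hs
  obtain ⟨q, hq, hle, hiso⟩ := exists_cokernel_data k hd (FinCov.homOfSection s)
    (isCoh_of_isInvertible isInvertible_structure) (isCoh_of_isInvertible hL)
    (stalkLin_homOfSection_genericPoint hL hs).2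
  have hdeg : Curv2.deg k X L 1 = q := by rw [Curv2.deg, hq]; push_cast; ring
  refine ⟨by omega, by omega, fun h0 => ?_⟩
  haveI := hiso (by omega)
  exact ⟨(asIso (FinCov.homOfSection s)).symm⟩

/-- An invertible module of degree above `g - 1` has a section. -/
theorem euler_le_finrank_H0 (hd : topologicalKrullDim X ≤ 1) (F : X.Modules) [F.IsQuasicoherent] :
    Curv2.euler k X F ≤ Module.finrank k (Coh.HH X F 0) := by
  rw [euler_eq_sub k hd F]; omega

end GrothLib.Euler

namespace GrothLib.Euler

variable {X : Scheme.{u}} (k : Type u) [Field k] [X.Over (Spec (CommRingCat.of k))]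
  [IsProper (X ↘ Spec (CommRingCat.of k))]

/-- Global sections of a coherent submodule are at most those of the module. -/
theorem finrank_H0_le_of_mono {M N : X.Modules} (i : M ⟶ N) [Mono i] (hN : Coh.IsCoh N) :
    Module.finrank k (Coh.HH X M 0) ≤ Module.finrank k (Coh.HH X N 0) := by
  haveI := finiteDimensional_HH k hN 0
  let S := ShortComplex.mk i (cokernel.π i) (cokernel.condition i)
  have hS : S.ShortExact := { exact := ShortComplex.exact_of_g_is_cokernel _ (cokernelIsCokernel i) }
  exact LinearMap.finrank_le_finrank_of_injective (hhMap_zero_injective (A := k) hS)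

theorem nontrivial_H0_of_euler_pos (hd : topologicalKrullDim X ≤ 1) {F : X.Modules} (hF : Coh.IsCoh F)
    (h : 0 < Curv2.euler k X F) : Nontrivial (Coh.HH X F 0) := by
  haveI := hF.1
  rw [euler_eq_sub k hd F] at h
  exact Module.nontrivial_of_finrank_pos (R := k) (by omega)

end GrothLib.Euler
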