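import Groth.Agent.Lib.Euler.Rank
import Mathlib.RingTheory.DiscreteValuationRing.TFAE

/-!
# Degrees of subsheaves of vector bundles on regular curves
-/

set_option linter.style.haveILetI false

universe u

open CategoryTheory CategoryTheory.Limits AlgebraicGeometry TopologicalSpace Opposite

namespace GrothLib.Euler

open GrothLib.QCoh (stalkLin)

variable {X : Scheme.{u}} [IsIntegral X]

/-- Stalks of a regular integral curve are principal. -/
theorem isPrincipalIdealRing_stalk [IsLocallyNoetherian X] (hd : topologicalKrullDim X ≤ 1)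
    (hreg : ∀ x : X, IsClosed ({x} : Set X) → IsRegularLocalRing (X.presheaf.stalk x)) (x : X) :
    IsPrincipalIdealRing (X.presheaf.stalk x) := by
  by_cases hx : x = genericPoint X
  · subst hx
    exact inferInstanceAs (IsPrincipalIdealRing X.functionField)
  · haveI := hreg x (CurvePoints.isClosed_singleton hd hx)
    have h1 := CurvePoints.ringKrullDim_stalk hd hx
    have hnf : ¬ IsField (X.presheaf.stalk x) := fun hF => by
      rw [ringKrullDim_eq_zero_of_isField hF] at h1
      exact zero_ne_one h1
    have h2 := (IsRegularLocalRing.iff_finrank_cotangentSpace (X.presheaf.stalk x)).1 inferInstance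
    rw [h1] at h2
    haveI hdvr : IsDiscreteValuationRing (X.presheaf.stalk x) :=
      ((IsDiscreteValuationRing.TFAE _ hnf).out 5 0).1 (by exact_mod_cast h2)
    exact inferInstance

theorem isPrincipalIdealRing_stalk_of_smooth {k : Type u} [Field k] (p : X ⟶ Spec (CommRingCat.of k))
    [Smooth p] (hd : topologicalKrullDim X ≤ 1) (x : X) : IsPrincipalIdealRing (X.presheaf.stalk x) := by
  haveI : IsLocallyNoetherian X := LocallyOfFiniteType.isLocallyNoetherian p
  exact isPrincipalIdealRing_stalk hd (fun _ hy => GrpSchField.isRegularLocalRing_stalk_of_smooth p hy) x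

theorem isTorsionFree_of_mono {F E : X.Modules} (i : F ⟶ E) [Mono i] (hE : FlatMod.IsFinLocFree E) :
    TorSh.IsTorsionFree F := fun x => by
  obtain ⟨U, m, e, hx, he⟩ := FinCov.exists_frame_nhd hE x
  obtain ⟨b⟩ := stalk_basis_of_frame he hx
  haveI : Module.Free (X.presheaf.stalk x) (E.presheaf.stalk x) := Module.Free.of_basis b
  exact Function.Injective.moduleIsTorsionFree (stalkLin i x) (QCoh.stalkLin_injective i x) (map_smul _)

theorem isFinLocFreeOfRank_of_mono [IsLocallyNoetherian X]
    (hpid : ∀ x : X, IsPrincipalIdealRing (X.presheaf.stalk x)) {F E : X.Modules} (i : F ⟶ E) [Mono i]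
    (hF : Coh.IsCoh F) (hE : FlatMod.IsFinLocFree E) : FlatMod.IsFinLocFreeOfRank (grank F) F :=
  isFinLocFreeOfRank_of_torsionFree hpid hF (isTorsionFree_of_mono i hE)

theorem stalk_subsingleton_of_rank_zero {F : X.Modules} (hF : FlatMod.IsFinLocFreeOfRank 0 F) (x : X) :
    Subsingleton (F.presheaf.stalk x) := by
  obtain ⟨D, e, hx, he⟩ := FinCov.exists_frame_nhd_of_rank hF x
  obtain ⟨b⟩ := stalk_basis_of_frame he hx
  exact b.repr.toEquiv.subsingleton

theorem isZero_of_rank_zero {F : X.Modules} (hF : FlatMod.IsFinLocFreeOfRank 0 F) : IsZero F := by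
  refine (IsZero.iff_id_eq_zero F).2 (Scheme.Modules.hom_ext _ _ fun V => AddCommGrpCat.ext fun t => ?_)
  show t = 0
  exact QCoh.section_eq_zero_of_germ F t fun x _ =>
    haveI := stalk_subsingleton_of_rank_zero hF x
    Subsingleton.elim _ _

variable (k : Type u) [Field k] [X.Over (Spec (CommRingCat.of k))]

/-- Degree with respect to the generic rank. -/
noncomputable def degree (F : X.Modules) : ℤ :=
  Curv2.euler k X F - grank F * Curv2.euler k X (Coh.structureModule X)

theorem deg_eq_degree {F : X.Modules} {n : ℕ} (hF : FlatMod.IsFinLocFreeOfRank n F) :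
    Curv2.deg k X F n = degree k F := by
  rw [degree, Curv2.deg, grank_of_locFree hF]

theorem degree_of_isZero {F : X.Modules} (hF : IsZero F) : degree k F = 0 := by
  have hg : grank F = 0 := by
    haveI := QCoh.stalk_subsingleton_of_notMem (M := F) (x := genericPoint X) fun h => h <| by
      refine subsingleton_of_forall_eq 0 fun e => ?_
      obtain ⟨U, hU, s, rfl⟩ := TopCat.Presheaf.exists_germ_eq F.presheaf e
      rw [show s = 0 from by
        have h2 : (𝟙 F : F ⟶ F) = 0 := hF.eq_of_src _ _
        have := congrArg (fun φ : F ⟶ F => φ.app U s) h2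
        exact this, map_zero]
    exact Module.finrank_zero_of_subsingleton
  have he : Curv2.euler k X F = 0 := by
    rw [euler_eq_sum k F (N := 0) fun n _ => Cohom.subsingleton_HH_of_isZero hF n, Finset.sum_range_zero]
  rw [degree, hg, he]
  simp

variable [IsProper (X ↘ Spec (CommRingCat.of k))]

theorem degree_additive {S : ShortComplex X.Modules} (hS : S.ShortExact)
    (h₁ : Coh.IsCoh S.X₁) (h₂ : Coh.IsCoh S.X₂) (h₃ : Coh.IsCoh S.X₃) :
    degree k S.X₂ = degree k S.X₁ + degree k S.X₃ := by
  rw [degree, degree, degree, euler_additive k hS h₁ h₂ h₃, grank_additive hS h₂]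
  push_cast
  ring

theorem degree_le_of_mono (hd : topologicalKrullDim X ≤ 1) {F G : X.Modules} (i : F ⟶ G) [Mono i]
    (hF : Coh.IsCoh F) (hG : Coh.IsCoh G) (h : grank F = grank G) :
    degree k F ≤ degree k G ∧ (degree k F = degree k G → IsIso i) := by
  obtain ⟨q, hq, -, hiso⟩ := exists_cokernel_data k hd i hF hG (surjective_generic_of_mono i hG h)
  have : degree k G = degree k F + q := by rw [degree, degree, hq, h]; ring
  exact ⟨by omega, fun e => hiso (by omega)⟩

/-- The kernel and image of a morphism of vector bundles on a regular curve. -/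
theorem exists_image_data (hpid : ∀ x : X, IsPrincipalIdealRing (X.presheaf.stalk x)) {E F : X.Modules}
    (hE : FlatMod.IsFinLocFree E) (hF : FlatMod.IsFinLocFree F) (f : E ⟶ F) :
    ∃ (K I : X.Modules) (a : K ⟶ E) (p : E ⟶ I) (j : I ⟶ F) (rK rI : ℕ), Mono a ∧ Epi p ∧ Mono j ∧
      p ≫ j = f ∧ a ≫ f = 0 ∧
      FlatMod.IsFinLocFreeOfRank rK K ∧ FlatMod.IsFinLocFreeOfRank rI I ∧
      grank E = rK + rI ∧ degree k E = degree k K + degree k I ∧
      (rI = 0 → f = 0) ∧ (rK = 0 → Mono f) := by
  haveI := isNoetherian_of_proper (X := X) k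
  have hEc := isCoh_of_isFinLocFree hE
  have hFc := isCoh_of_isFinLocFree hF
  have hKc := QCoh.isCoh_kernel f hEc hFc
  have hIc : Coh.IsCoh (Abelian.image f) := QCoh.isCoh_kernel _ hFc (QCoh.isCoh_cokernel f hEc hFc)
  have hK := isFinLocFreeOfRank_of_mono hpid (kernel.ι f) hKc hE
  have hI := isFinLocFreeOfRank_of_mono hpid (Abelian.image.ι f) hIc hF
  let T := ShortComplex.mk (kernel.ι f) (Abelian.factorThruImage f)
    (by rw [← cancel_mono (Abelian.image.ι f), Category.assoc, Abelian.image.fac, kernel.condition, zero_comp])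
  have hT : T.ShortExact :=
    { exact := ShortComplex.exact_of_f_is_kernel _ (KernelFork.IsLimit.ofι' _ _ fun g hg => ⟨kernel.lift f g
        (by rw [← Abelian.image.fac f, ← Category.assoc, hg, zero_comp]), kernel.lift_ι _ _ _⟩) }
  have hg : grank E = grank (kernel f) + grank (Abelian.image f) := grank_additive (S := T) hT hEc
  have hd : degree k E = degree k (kernel f) + degree k (Abelian.image f) :=
    degree_additive (S := T) k hT hKc hEc hIc
  have h1 : grank (Abelian.image f) = 0 → f = 0 := fun h => by
    rw [h] at hI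
    rw [← Abelian.image.fac f, (isZero_of_rank_zero hI).eq_of_tgt (Abelian.factorThruImage f) 0, zero_comp]
  have h2 : grank (kernel f) = 0 → Mono f := fun h => by
    rw [h] at hK
    exact Preadditive.mono_of_isZero_kernel f (isZero_of_rank_zero hK)
  exact ⟨kernel f, Abelian.image f, kernel.ι f, Abelian.factorThruImage f, Abelian.image.ι f,
    grank (kernel f), grank (Abelian.image f),
    inferInstance, inferInstance, inferInstance, Abelian.image.fac f, kernel.condition f, hK, hI, hg, hd, h1, h2⟩

end GrothLib.Euler
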