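import Groth.Agent.Lib.Euler.GenericCompare
import Groth.Agent.Lib.IdealModSec.Basic
import Groth.Agent.Lib.QCoh.Pieces
import Groth.Agent.Lib.QCoh.ClosedImmersion
import Groth.Prelude.Def_BlowUp2
import Groth.Prelude.Def_ClSub2
import Mathlib.AlgebraicGeometry.ZariskisMainTheorem
import Mathlib.AlgebraicGeometry.Morphisms.QuasiFinite

/-!
# Degrees and effective Cartier divisors on curves
-/

set_option linter.style.haveILetI false

universe u

open CategoryTheory CategoryTheory.Limits AlgebraicGeometry TopologicalSpace Opposite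

namespace GrothLib.Euler

open GrothLib.QCoh (stalkLin)

variable {X : Scheme.{u}}

theorem isFinLocFreeOfRank_one' {M : X.Modules} (hM : PicF.IsInvertible M) :
    FlatMod.IsFinLocFreeOfRank 1 M := fun y => by
  obtain ⟨U, hy, ⟨φ⟩⟩ := hM y
  exact ⟨U, hy, ⟨φ ≪≫ (coproductUniqueIso (fun _ : Fin 1 => Coh.structureModule U.toScheme)).symm⟩⟩

/-- `O_X ⟶ O_D` is surjective. -/
theorem epi_toSubscheme (D : X.IdealSheafData) : Epi (ClSub.toSubscheme D) := by
  refine (OX.epi_iff _).2 fun x => (ModuleCat.epi_iff_surjective _).2 ?_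
  intro e
  obtain ⟨U, hx, m, rfl⟩ := TopCat.Presheaf.exists_germ_eq
    (ClSub.quotMod D).presheaf (show (ClSub.quotMod D).presheaf.stalk x from e)
  obtain ⟨W, hW, hxW, hWU⟩ := exists_isAffineOpen_mem_and_subset (x := x) (U := U) hx
  obtain ⟨r, hr⟩ := D.subschemeι.app_surjective W hW
    ((ClSub.quotMod D).presheaf.map (homOfLE (show W ≤ U from hWU)).op m)
  refine ⟨(Coh.structureModule X).presheaf.germ W x hxW r, ?_⟩
  change stalkLin (ClSub.toSubscheme D) x ((Coh.structureModule X).presheaf.germ W x hxW r) = _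
  rw [QCoh.stalkLin_germ]
  have h1 : (ClSub.toSubscheme D).app W r = (ClSub.quotMod D).presheaf.map (homOfLE (show W ≤ U from hWU)).op m := hr
  rw [h1]
  exact TopCat.Presheaf.germ_res_apply _ _ _ _ _

/-- An effective Cartier divisor contains no generic point. -/
theorem disjoint_genericPoints_of_isEffCartier [NoetherianSpace X] {D : X.IdealSheafData}
    (hD : _root_.BlowUp.IsEffCartierIdeal D) {η : X} (hη : η ∈ genericPoints (X : Type u)) :
    η ∉ D.support := by
  intro hηD
  obtain ⟨U, hηU, f, hf, hU⟩ := hD η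
  have hfin : (genericPoints (X : Type u)).Finite :=
    genericPoints.finite NoetherianSpace.finite_irreducibleComponents
  let C : Set X := ⋃ η' ∈ (genericPoints (X : Type u) \ {η}), closure ({η'} : Set X)
  have hC : IsClosed C := (hfin.subset Set.diff_subset).isClosed_biUnion fun _ _ => isClosed_closure
  have hηC : η ∉ C := fun hmem => by
    obtain ⟨η', ⟨hη', hne⟩, h⟩ := Set.mem_iUnion₂.mp hmem
    have hle : closure ({η} : Set X) ≤ closure {η'} :=
      closure_minimal (Set.singleton_subset_iff.mpr h) isClosed_closure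
    have : closure ({η} : Set X) = closure {η'} :=
      le_antisymm hle (hη.2 isIrreducible_singleton.closure hle)
    exact hne (Inseparable.eq ((inseparable_iff_closure_eq).mpr this)).symm
  have hCη : ∀ y ∉ C, η ⤳ y := by
    intro y hy
    have h1 : y ∈ closure (genericPoints (X : Type u)) := by rw [genericPoints.closure]; trivial
    rw [← Set.biUnion_of_singleton (genericPoints (X : Type u)), hfin.closure_biUnion] at h1
    obtain ⟨ζ, hζ, hyζ⟩ := Set.mem_iUnion₂.mp h1
    by_cases h : ζ = η
    · exact specializes_iff_mem_closure.2 (h ▸ hyζ)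
    · exact absurd (Set.mem_iUnion₂.mpr ⟨ζ, ⟨hζ, h⟩, hyζ⟩) hy
  obtain ⟨g, hgC, hηg⟩ := U.2.exists_basicOpen_le (V := ⟨Cᶜ, hC.isOpen_compl⟩) ⟨η, hηC⟩ hηU
  have hηf : η ∉ X.basicOpen f := by
    intro h
    have h1 : η ∈ (D.support : Set X) ∩ U.1 := ⟨hηD, hηU⟩
    rw [D.coe_support_inter, hU] at h1
    exact (Scheme.mem_zeroLocus_iff X _ η).1 h1.1 f (Ideal.mem_span_singleton_self f) h
  have hbot : X.basicOpen (f * g) = ⊥ := by
    rw [eq_bot_iff, Scheme.basicOpen_mul]
    rintro y ⟨hyf, hyg⟩
    exact hηf ((hCη y (hgC hyg)).mem_open (X.basicOpen f).2 hyf)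
  obtain ⟨N, hN⟩ := (Scheme.isNilpotent_iff_basicOpen_eq_bot_of_isCompact U.2.isCompact (f * g)).2 hbot
  rw [mul_pow] at hN
  have hg0 : g ^ N = 0 := (mem_nonZeroDivisors_iff.1 (pow_mem hf N)).1 _ hN
  have h2 : X.basicOpen g = ⊥ :=
    (Scheme.isNilpotent_iff_basicOpen_eq_bot_of_isCompact U.2.isCompact g).1 ⟨N, hg0⟩
  rw [h2] at hηg
  exact hηg

variable (k : Type u) [Field k] [X.Over (Spec (CommRingCat.of k))] [IsProper (X ↘ Spec (CommRingCat.of k))]

include k in
theorem divisor_finite_closed (hd : topologicalKrullDim X ≤ 1) {D : X.IdealSheafData}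
    (hD : _root_.BlowUp.IsEffCartierIdeal D) :
    (D.support : Set X).Finite ∧ ∀ x ∈ (D.support : Set X), IsClosed ({x} : Set X) := by
  have := isNoetherian_of_proper (X := X) k
  obtain ⟨hfin, hcl⟩ := finite_closed_of_disjoint k hd (U := ⟨(D.support : Set X)ᶜ, D.support.isClosed.isOpen_compl⟩)
    fun η hη => disjoint_genericPoints_of_isEffCartier hD hη
  simp only [Opens.coe_mk, compl_compl] at hfin hcl
  exact ⟨hfin, hcl⟩

include k in
theorem isFinite_subschemeι_comp (hd : topologicalKrullDim X ≤ 1) {D : X.IdealSheafData}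
    (hD : _root_.BlowUp.IsEffCartierIdeal D) :
    IsFinite (D.subschemeι ≫ (X ↘ Spec (CommRingCat.of k))) := by
  have hfin := (divisor_finite_closed k hd hD).1
  have : Finite D.subscheme := by
    refine @Finite.of_injective _ (Set.range D.subschemeι) ?_ (Set.rangeFactorization D.subschemeι) ?_
    · rw [D.range_subschemeι]; exact hfin.to_subtype
    · exact Set.rangeFactorization_injective.2 D.subschemeι.isClosedEmbedding.injective
  have : LocallyQuasiFinite (D.subschemeι ≫ (X ↘ Spec (CommRingCat.of k))) :=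
    LocallyQuasiFinite.of_finite_preimage_singleton _ fun _ => Set.toFinite _
  exact IsFinite.of_isProper_of_locallyQuasiFinite _

/-- The degree of `E(D)`. -/
theorem deg_tensor_effCartier (hd : topologicalKrullDim X ≤ 1) {D : X.IdealSheafData}
    (hD : _root_.BlowUp.IsEffCartierIdeal D) {L : X.Modules} (hL : PicF.IsInvertible L)
    (hLD : ClSub.IsInverseOf L (ClSub.idealMod D)) {n : ℕ} {E : X.Modules}
    (hE : FlatMod.IsFinLocFreeOfRank n E) :
    Curv2.deg k X (CohB1.tensorMod E L) n =
      n * Module.finrank k (Coh.HH X (ClSub.quotMod D) 0) + Curv2.deg k X E n := by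
  have := isNoetherian_of_proper (X := X) k
  obtain ⟨hfin, hcl⟩ := divisor_finite_closed k hd hD
  have hL1 := isFinLocFreeOfRank_one' hL
  obtain ⟨U, hU, ⟨φ⟩⟩ := exists_trivial_genericPoints k hL1
  have h1 := euler_tF k hd hE (isCoh_of_isInvertible hL) hU φ
  haveI := epi_toSubscheme D
  let S := ShortComplex.mk (ClSub.idealModι D) (ClSub.toSubscheme D) (kernel.condition _)
  haveI : Mono S.f := inferInstanceAs (Mono (kernel.ι (ClSub.toSubscheme D)))
  haveI : Epi S.g := epi_toSubscheme D
  have hS : S.ShortExact := { exact := ShortComplex.exact_of_f_is_kernel _ (kernelIsKernel _) }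
  have hflat := OX.flat_of_isFinLocFree (FinCov.isFinLocFree_of_rank hL1)
  have hlf := FinCov.isFinLocFree_of_rank hL1
  have hO : Coh.IsCoh (Coh.structureModule X) := isCoh_of_isInvertible isInvertible_structure
  have hI : Coh.IsCoh (ClSub.idealMod D) :=
    isCoh_of_isInvertible (IdealModSec.isInvertible_of_isEffCartier hD)
  have hQ : Coh.IsCoh (ClSub.quotMod D) := QCoh.pushUnit_isCoh D.subschemeι
  have hsupp : CohB1.support (ClSub.quotMod D) ⊆ (D.support : Set X) := by
    rw [← D.range_subschemeι]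
    exact QCoh.support_pushforward_subset_range D.subschemeι _
  have h2 := euler_additive k (OX.tensor_map_shortExact hflat hS) (isCoh_tF hI hlf) (isCoh_tF hO hlf) (isCoh_tF hQ hlf)
  simp only [ShortComplex.map_X₁, ShortComplex.map_X₂, ShortComplex.map_X₃, S] at h2
  obtain ⟨eLD⟩ := hLD
  have e1 : Curv2.euler k X ((tF L).obj (ClSub.idealMod D)) = Curv2.euler k X (Coh.structureModule X) :=
    euler_of_iso k ((((OX.tensorBraiding (X := X)).app L).app (ClSub.idealMod D)) ≪≫ eLD)
  have e2 : Curv2.euler k X ((tF L).obj (Coh.structureModule X)) = Curv2.euler k X L :=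
    euler_of_iso k (OX.tensorUnitLeftIso L)
  have e3 := euler_tF_of_finite_support k hL1 hQ (hfin.subset hsupp) (fun x hx => hcl x (hsupp hx))
  have e4 := euler_eq_of_finite_support k (ClSub.quotMod D) (hfin.subset hsupp) (fun x hx => hcl x (hsupp hx))
  have e5 : Curv2.euler k X (CohB1.tensorMod E L) = Curv2.euler k X ((tF E).obj L) :=
    euler_of_iso k (show CohB1.tensorMod E L ≅ (tF E).obj L from (((OX.tensorBraiding (X := X)).app E).app L).symm)
  simp only [Curv2.deg] at h1 ⊢
  push_cast at *
  linear_combination e5 + h1 + n * (h2 + e1 - e2 + e3 + e4)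

end GrothLib.Euler
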