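import Groth.Agent.Lib.Euler.GenericCompare
import Groth.Agent.Lib.Euler.Divisor
import Groth.Agent.Lib.Ample.Criterion
import Groth.Agent.Lib.Ample.ProjSections
import Groth.Agent.Lib.Ample.Frame
import Mathlib.AlgebraicGeometry.ZariskisMainTheorem
import Mathlib.AlgebraicGeometry.ProjectiveSpectrum.Basic

/-!
# Ampleness on integral proper curves
-/

set_option linter.style.haveILetI false

universe u

open CategoryTheory CategoryTheory.Limits AlgebraicGeometry TopologicalSpace Opposite

namespace GrothLib.Euler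

open GrothLib.Ample (Cocycle res)
open GrothLib.QCoh (stalkLin)

variable {X : Scheme.{u}} (k : Type u) [Field k] [X.Over (Spec (CommRingCat.of k))]
  [IsIntegral X] [IsProper (X ↘ Spec (CommRingCat.of k))] (c : Cocycle X)

theorem deg_twist (hd : topologicalKrullDim X ≤ 1) :
    ∀ n : ℕ, Curv2.deg k X (c.twist n) 1 = n * Curv2.deg k X (c.twist 1) 1 := by
  intro n
  induction n with
  | zero =>
    obtain ⟨e⟩ := c.nonempty_twist_zero
    rw [deg_of_iso k e.symm, deg_structure k, Nat.cast_zero, zero_mul]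
  | succ n ih =>
    have hn := isFinLocFreeOfRank_one' (c.isInvertible_twist n)
    have h1 := isFinLocFreeOfRank_one' (c.isInvertible_twist 1)
    obtain ⟨U, hU, ⟨φ⟩⟩ := exists_trivial_genericPoints k hn
    have h := euler_tF k hd h1 (isCoh_of_isInvertible (c.isInvertible_twist n)) hU φ
    obtain ⟨e⟩ := c.nonempty_tensor_twist n 1
    have e' : Curv2.euler k X ((tF (c.twist 1)).obj (c.twist n)) = Curv2.euler k X (c.twist (n + 1)) :=
      euler_of_iso k e
    simp only [Curv2.deg] at h ih ⊢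
    push_cast at *
    linear_combination h - e' + ih

omit [IsProper (X ↘ Spec (CommRingCat.of k))] [X.Over (Spec (CommRingCat.of k))] in
theorem hom_ne_zero {n : ℕ} {a : c.sect n ⊤} (h : (c.locus a : Set X).Nonempty) : c.hom a ≠ 0 := by
  intro h0
  obtain ⟨x, hx⟩ := h
  haveI : Nonempty (c.locus a : X.Opens) := ⟨⟨x, hx⟩⟩
  have h1 := (c.bijective_hom_app a le_rfl).1
  rw [h0] at h1
  exact one_ne_zero (α := Γ(X, c.locus a)) (h1 (a₁ := (1 : Γ(X, c.locus a))) (a₂ := (0 : Γ(X, c.locus a))) rfl)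

/-- A section with nonempty locus other than everything forces positive degree. -/
theorem deg_pos_of_locus (hd : topologicalKrullDim X ≤ 1) {n : ℕ} {a : c.sect n ⊤}
    (h : (c.locus a : Set X).Nonempty) (hne : c.locus a ≠ ⊤) : 0 < Curv2.deg k X (c.twist n) 1 := by
  obtain ⟨-, hiso⟩ := deg_of_section k hd (c.isInvertible_twist n) (hom_ne_zero c h)
  by_contra h0
  have := hiso (not_lt.mp h0)
  refine hne ?_
  rw [← c.genLocus_hom a, eq_top_iff]
  exact le_sSup (show IsIso ((Scheme.Modules.restrictFunctor (⊤ : X.Opens).ι).map (c.hom a)) from inferInstance)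

omit [IsProper (X ↘ Spec (CommRingCat.of k))] [X.Over (Spec (CommRingCat.of k))] in
theorem locus_nonempty_of_ne_zero {n : ℕ} {a : c.sect n ⊤} (h : a ≠ 0) : (c.locus a : Set X).Nonempty := by
  by_contra he
  refine h (c.sect_ext fun i => ?_)
  have : X.basicOpen (a.1 i) = ⊥ := eq_bot_iff.mpr fun x hx =>
    he ⟨x, Opens.mem_iSup.mpr ⟨i, hx⟩⟩
  exact (basicOpen_eq_bot_iff _).1 this

/-- Positive degree gives a section of a power with nonempty proper locus. -/
theorem exists_section_of_deg_pos (hd : topologicalKrullDim X ≤ 1) (hpos : 0 < Curv2.deg k X (c.twist 1) 1) :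
    ∃ (N : ℕ) (a : c.sect N ⊤), 0 < N ∧ (c.locus a : Set X).Nonempty ∧ c.locus a ≠ ⊤ := by
  obtain ⟨N, hN0, hN⟩ : ∃ N : ℕ, 0 < N ∧ 0 < Curv2.euler k X (c.twist N) := by
    refine ⟨(Curv2.euler k X (Coh.structureModule X)).natAbs + 1, Nat.succ_pos _, ?_⟩
    have h := deg_twist k c hd ((Curv2.euler k X (Coh.structureModule X)).natAbs + 1)
    simp only [Curv2.deg] at h hpos
    push_cast at h hpos
    have h1 := neg_abs_le (Curv2.euler k X (Coh.structureModule X))
    nlinarith [abs_nonneg (Curv2.euler k X (Coh.structureModule X))]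
  obtain ⟨s, hs⟩ := exists_ne_zero_section
    (nontrivial_H0_of_euler_pos k hd (isCoh_of_isInvertible (c.isInvertible_twist N)) hN)
  let a : c.sect N ⊤ := s
  refine ⟨N, a, hN0, locus_nonempty_of_ne_zero c (show a ≠ 0 from hs), fun htop => ?_⟩
  haveI := c.isIso_hom_of_locus_eq_top a htop
  have h := deg_twist k c hd N
  rw [← deg_of_iso k (asIso (c.hom a)), deg_structure k] at h
  exact (mul_pos (Nat.cast_pos.mpr hN0) hpos).ne h

omit [IsProper (X ↘ Spec (CommRingCat.of k))] [X.Over (Spec (CommRingCat.of k))] [IsIntegral X] in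
theorem isFamily_mul {N : ℕ} (a : c.sect N ⊤) (n : ℕ) :
    c.IsFamily n fun i => (show Γ(c.twist (N + n), c.D i) from
      c.mul (c.sectRes le_top a) (c.base n i le_rfl)) := by
  intro i j W hi hj
  show c.sectRes hj (c.mul (c.sectRes le_top a) (c.base n j le_rfl)) =
    c.G i j hi hj ^ n • c.sectRes hi (c.mul (c.sectRes le_top a) (c.base n i le_rfl))
  refine c.sect_ext fun l => ?_
  simp only [Cocycle.sectRes_apply, Cocycle.mul_apply, Cocycle.smul_apply, Cocycle.base_apply, map_mul, map_pow,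
    GrothLib.Ample.res_res, Cocycle.res_G]
  rw [c.G_trans l i j inf_le_right (inf_le_left.trans hi) (inf_le_left.trans hj), mul_pow]
  ring

/-- Multiplication by a section. -/
noncomputable def mulSec {N : ℕ} (a : c.sect N ⊤) (n : ℕ) : c.twist n ⟶ c.twist (N + n) :=
  c.homOfFamily (isFamily_mul c a n)

omit [IsProper (X ↘ Spec (CommRingCat.of k))] [X.Over (Spec (CommRingCat.of k))] [IsIntegral X] in
theorem mulSec_base {N : ℕ} (a : c.sect N ⊤) (n : ℕ) (i : c.ι) :
    (mulSec c a n).app (c.D i) (c.base n i le_rfl) =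
      res (le_inf le_top le_rfl : c.D i ≤ ⊤ ⊓ c.D i) (a.1 i) •
        (show Γ(c.twist (N + n), c.D i) from c.base (N + n) i le_rfl) := by
  rw [mulSec, Cocycle.homOfFamily_base, InvExt.mres_self]
  show c.mul (c.sectRes le_top a) (c.base n i le_rfl) =
    res (le_inf le_top le_rfl : c.D i ≤ ⊤ ⊓ c.D i) (a.1 i) • c.base (N + n) i le_rfl
  refine c.sect_ext_of_le le_rfl ?_
  simp only [Cocycle.mul_apply, Cocycle.sectRes_apply, Cocycle.smul_apply, Cocycle.base_self, mul_one,
    GrothLib.Ample.res_res]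

include k in
/-- For a suitable power there is a section generating at all zeros of a given section. -/
theorem exists_complementary_section (hd : topologicalKrullDim X ≤ 1) {N : ℕ} (hN : 0 < N) {a : c.sect N ⊤}
    (ha : (c.locus a : Set X).Nonempty) :
    ∃ (m : ℕ) (s t : c.sect m ⊤), 0 < m ∧ c.locus s = c.locus a ∧ c.locus s ⊔ c.locus t = ⊤ := by
  classical
  have := isNoetherian_of_proper (X := X) k
  let M : ℕ → X.Modules := fun j => c.twist (N * j)
  have hM : ∀ n, Coh.IsCoh (c.twist n) := fun n => isCoh_of_isInvertible (c.isInvertible_twist n)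
  obtain ⟨j, hj⟩ : ∃ j, ∀ l, Module.finrank k (Coh.HH X (M j) 1) ≤ Module.finrank k (Coh.HH X (M l) 1) :=
    ⟨Function.argmin (fun j => Module.finrank k (Coh.HH X (M j) 1)),
      fun l => Function.argmin_le (fun j => Module.finrank k (Coh.HH X (M j) 1)) l⟩
  have hηa : genericPoint X ∈ c.locus a := ((genericPoint_spec X).specializes trivial).mem_open (c.locus a).2 ha.some_mem
  obtain ⟨hfin, hcl⟩ := finite_closed_of_disjoint k hd (U := c.locus a) (fun η hη => by
    have h1 : closure ({η} : Set X) = Set.univ :=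
      Set.eq_univ_of_univ_subset (hη.2 (IrreducibleSpace.isIrreducible_univ X) (Set.subset_univ _))
    obtain ⟨y, hy, hy'⟩ := mem_closure_iff.1 (h1 ▸ Set.mem_univ (genericPoint X) : genericPoint X ∈ closure ({η} : Set X))
      (c.locus a) (c.locus a).2 hηa
    exact (Set.mem_singleton_iff.1 hy') ▸ hy)
  let μ := mulSec c a (N * j)
  obtain ⟨i₀, hi₀⟩ := c.exists_mem (genericPoint X)
  have hμ : μ ≠ 0 := by
    intro h0
    have h1 := mulSec_base c a (N * j) i₀
    rw [show mulSec c a (N * j) = 0 from h0] at h1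
    haveI : Nonempty (c.D i₀) := ⟨⟨_, hi₀⟩⟩
    have hg := c.isGen_base (N + N * j) i₀ (le_refl (c.D i₀))
    have h2 : (0 : Γ(X, c.D i₀)) = res (le_inf le_top le_rfl : c.D i₀ ≤ ⊤ ⊓ c.D i₀) (a.1 i₀) := by
      refine hg.smul_left_injective le_rfl ?_
      rw [InvExt.mres_self, zero_smul]
      exact h1
    have h3 := (c.mem_locus_iff a hi₀).mp hηa
    have h4 : genericPoint X ∈ X.basicOpen (res (le_inf le_top le_rfl : c.D i₀ ≤ ⊤ ⊓ c.D i₀) (a.1 i₀)) := by
      rw [Scheme.basicOpen_res]; exact ⟨hi₀, h3⟩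
    rw [← h2, Scheme.basicOpen_zero] at h4
    exact h4
  haveI := mono_of_ne_zero (c.isInvertible_twist _) (c.isInvertible_twist _) hμ
  have hQ : Coh.IsCoh (cokernel μ) := QCoh.isCoh_cokernel μ (hM _) (hM _)
  have hsub : CohB1.support (cokernel μ) ⊆ (c.locus a : Set X)ᶜ := by
    intro x hx hxa
    refine QCoh.notMem_support_cokernel_of_surjective μ (fun e => ?_) hx
    obtain ⟨i, hi⟩ := c.exists_mem x
    obtain ⟨V, hxV, v, hv⟩ := TopCat.Presheaf.exists_germ_eq (c.twist (N + N * j)).presheaf e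
    let W : X.Opens := V ⊓ X.basicOpen (a.1 i)
    have hxW : x ∈ W := ⟨hxV, (c.mem_locus_iff a hi).mp hxa⟩
    have hWD : W ≤ c.D i := inf_le_right.trans ((c.basicOpen_le_D a i).trans inf_le_right)
    obtain ⟨r, hr⟩ := (c.isGen_base (N + N * j) i (le_refl (c.D i))).exists_smul_eq hWD
      (InvExt.mres (c.twist (N + N * j)) (inf_le_left : W ≤ V) v)
    have hu : IsUnit (res hWD (res (le_inf le_top le_rfl : c.D i ≤ ⊤ ⊓ c.D i) (a.1 i))) := by
      rw [GrothLib.Ample.res_res]
      exact InvExt.isUnit_res_of_le_basicOpen _ _ inf_le_right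
    obtain ⟨d, hd'⟩ := hu.exists_right_inv
    refine ⟨(c.twist (N * j)).presheaf.germ W x hxW
      ((r * d) • InvExt.mres (c.twist (N * j)) hWD (c.base (N * j) i le_rfl)), ?_⟩
    rw [QCoh.stalkLin_germ, Scheme.Modules.Hom.app_smul, app_mres, mulSec_base, InvExt.mres_smul, smul_smul,
      mul_assoc, mul_comm d, hd', mul_one, ← hr]
    exact (TopCat.Presheaf.germ_res_apply _ _ _ _ _).trans hv
  let S := ShortComplex.mk μ (cokernel.π μ) (cokernel.condition μ)
  have hS : S.ShortExact := { exact := ShortComplex.exact_of_g_is_cokernel _ (cokernelIsCokernel μ) }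
  have hfinQ := hfin.subset hsub
  have hclQ : ∀ x ∈ CohB1.support (cokernel μ), IsClosed ({x} : Set X) := fun x hx => hcl x (hsub hx)
  haveI : Subsingleton (Coh.HH X (cokernel μ) 1) := subsingleton_HH_of_finite_support _ hfinQ hclQ 1 le_rfl
  haveI := fun n => finiteDimensional_HH k (hM (N * j)) n
  haveI := fun n => finiteDimensional_HH k (hM (N + N * j)) n
  have hsurj1 : Function.Surjective (Cohom.hhMap k S.f 1) := fun y =>
    (Cohom.exact₂ (A := k) hS 1 y).1 (Subsingleton.elim (α := Coh.HH X (cokernel μ) 1) _ _)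
  have hle : Module.finrank k (Coh.HH X (c.twist (N * j)) 1) ≤ Module.finrank k (Coh.HH X (c.twist (N + N * j)) 1) := by
    have key : ∀ e, e = N * (j + 1) →
        Module.finrank k (Coh.HH X (c.twist (N * j)) 1) ≤ Module.finrank k (Coh.HH X (c.twist e) 1) := by
      rintro e rfl
      exact hj (j + 1)
    exact key _ (by ring)
  have hinj1 : Function.Injective (Cohom.hhMap k S.f 1) := by
    have h1 : Module.finrank k (Coh.HH X (c.twist (N + N * j)) 1) ≤ Module.finrank k (Coh.HH X (c.twist (N * j)) 1) :=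
      LinearMap.finrank_le_finrank_of_surjective (f := Cohom.hhMap k S.f 1) hsurj1
    exact (LinearMap.injective_iff_surjective_of_finrank_eq_finrank (le_antisymm hle h1)).2 hsurj1
  have hsurj0 : Function.Surjective (Cohom.hhMap k S.g 0) := fun y =>
    (Cohom.exact₃ (A := k) hS 0 y).1 (hinj1 (((Cohom.exact₁ (A := k) hS 0).apply_apply_eq_zero y).trans (map_zero _).symm))
  -- the germs of local generators
  choose i hi using fun x : X => c.exists_mem x
  obtain ⟨q, hq⟩ := (bijective_germs (cokernel μ) hfinQ hclQ).2 fun x =>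
    stalkLin (cokernel.π μ) (x : X)
      ((c.twist (N + N * j)).presheaf.germ (c.D (i x)) (x : X) (hi x) (c.base (N + N * j) (i x) le_rfl))
  obtain ⟨h, hh⟩ := hsurj0 ((ProjCoh.H0top (cokernel μ)).symm q)
  let t : c.sect (N + N * j) ⊤ := ProjCoh.H0top (c.twist (N + N * j)) h
  have ht : ∀ x : X, x ∈ CohB1.support (cokernel μ) → stalkLin (cokernel.π μ) x
      ((c.twist (N + N * j)).presheaf.germ ⊤ x trivial t) = stalkLin (cokernel.π μ) x
      ((c.twist (N + N * j)).presheaf.germ (c.D (i x)) x (hi x) (c.base (N + N * j) (i x) le_rfl)) := by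
    intro x hx
    rw [QCoh.stalkLin_germ]
    refine Eq.trans ?_ (congrFun hq ⟨x, hx⟩)
    refine congrArg _ ?_
    have h2 := ProjCoh.H0top_map ((SheafOfModules.toSheaf X.ringCatSheaf).map S.g) h
    have h3 : ProjCoh.H0top (cokernel μ) (Cohom.hhMap k S.g 0 h) = q := by rw [hh, AddEquiv.apply_symm_apply]
    exact h2.symm.trans h3
  refine ⟨N + N * j, c.sectCast (by rw [Nat.mul_succ, add_comm]) (c.sectPow a (j + 1)), t, by omega,
    by rw [c.locus_sectCast, c.locus_sectPow a (Nat.succ_pos j)], eq_top_iff.mpr fun x _ => ?_⟩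
  rw [c.locus_sectCast, c.locus_sectPow a (Nat.succ_pos j)]
  by_cases hxa : x ∈ c.locus a
  · exact Or.inl hxa
  right
  refine (c.mem_locus_iff t (hi x)).mpr ?_
  set D := c.D (i x) with hD
  set e₀ := (c.twist (N + N * j)).presheaf.germ D x (hi x) (c.base (N + N * j) (i x) le_rfl) with he₀
  have hdiff : ∃ u, stalkLin μ x u = (c.twist (N + N * j)).presheaf.germ ⊤ x trivial t - e₀ := by
    refine (ShortComplex.moduleCat_exact_iff _).1 ((OX.exact_iff S).1 hS.exact x) _ ?_
    change stalkLin (cokernel.π μ) x (_ - e₀) = 0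
    by_cases hx : x ∈ CohB1.support (cokernel μ)
    · rw [map_sub, ht x hx, sub_self]
    · exact @Subsingleton.elim _ (QCoh.stalk_subsingleton_of_notMem hx) _ _
  obtain ⟨u, hu⟩ := hdiff
  obtain ⟨U, hxU, v, rfl⟩ := TopCat.Presheaf.exists_germ_eq (c.twist (N * j)).presheaf u
  let W : X.Opens := U ⊓ D
  have hxW : x ∈ W := ⟨hxU, hi x⟩
  have hWD : W ≤ D := inf_le_right
  obtain ⟨r, hr⟩ := (c.isGen_base (N * j) (i x) (le_refl D)).exists_smul_eq hWD
    (InvExt.mres (c.twist (N * j)) (inf_le_left : W ≤ U) v)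
  let τ : Γ(X, W) := res (le_inf le_top hWD : W ≤ ⊤ ⊓ D) (t.1 (i x))
  have hτ : InvExt.mres (c.twist (N + N * j)) (le_top : W ≤ ⊤) (show Γ(c.twist (N + N * j), ⊤) from t) =
      τ • InvExt.mres (c.twist (N + N * j)) hWD (c.base (N + N * j) (i x) le_rfl) := by
    show c.sectRes (le_top : W ≤ ⊤) t = τ • c.sectRes hWD (c.base (N + N * j) (i x) le_rfl)
    rw [c.sectRes_base, c.eq_smul_base (i x) hWD (c.sectRes (le_top : W ≤ ⊤) t)]
    simp only [τ, Cocycle.sectRes_apply, GrothLib.Ample.res_res]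
  set α := res hWD (res (le_inf le_top le_rfl : D ≤ ⊤ ⊓ D) (a.1 (i x))) with hα
  -- at `x` the germ of `t` is `1 + r a` times the generator
  have key : X.presheaf.germ W x hxW (τ - r * α) • e₀ = e₀ := by
    have h1 : stalkLin μ x ((c.twist (N * j)).presheaf.germ U x hxU v) = X.presheaf.germ W x hxW (r * α) • e₀ := by
      rw [← TopCat.Presheaf.germ_res_apply (c.twist (N * j)).presheaf (homOfLE (inf_le_left : W ≤ U)) x hxW v]
      change stalkLin μ x ((c.twist (N * j)).presheaf.germ W x hxW (InvExt.mres (c.twist (N * j)) inf_le_left v)) = _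
      rw [hr, QCoh.stalkLin_germ, Scheme.Modules.Hom.app_smul, app_mres, mulSec_base, InvExt.mres_smul, smul_smul,
        WeakAss.germ_smul]
      refine congrArg (_ • ·) ?_
      exact TopCat.Presheaf.germ_res_apply _ _ _ _ _
    have h2 : (c.twist (N + N * j)).presheaf.germ ⊤ x trivial t = X.presheaf.germ W x hxW τ • e₀ := by
      rw [← TopCat.Presheaf.germ_res_apply (c.twist (N + N * j)).presheaf (homOfLE (le_top : W ≤ ⊤)) x hxW]
      change (c.twist (N + N * j)).presheaf.germ W x hxW
        (InvExt.mres (c.twist (N + N * j)) le_top (show Γ(c.twist (N + N * j), ⊤) from t)) = _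
      rw [hτ, WeakAss.germ_smul]
      exact congrArg (_ • ·) (TopCat.Presheaf.germ_res_apply _ _ _ _ _)
    rw [h1, h2] at hu
    rw [map_sub, sub_smul, hu]
    abel
  have hnu : ¬ IsUnit (X.presheaf.germ W x hxW α) := by
    intro hu'
    refine hxa ((c.mem_locus_iff a (hi x)).mpr ?_)
    rw [hα, GrothLib.Ample.res_res] at hu'
    have := (Scheme.mem_basicOpen _ _ x hxW).2 hu'
    rw [Scheme.basicOpen_res] at this
    exact this.2
  have hτu : IsUnit (X.presheaf.germ W x hxW τ) := by
    obtain ⟨b⟩ := stalk_basis_of_frame ((InvExt.isGen_iff_isFrame (M := c.twist (N + N * j))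
      (fun _ : Fin 1 => c.base (N + N * j) (i x) le_rfl)).2 (c.isGen_base (N + N * j) (i x) le_rfl)) (hi x)
    have hb := bijective_germ_comb ((InvExt.isGen_iff_isFrame (M := c.twist (N + N * j))
      (fun _ : Fin 1 => c.base (N + N * j) (i x) le_rfl)).2 (c.isGen_base (N + N * j) (i x) le_rfl)) (hi x)
    have h1 : X.presheaf.germ W x hxW (τ - r * α) = 1 := by
      have := hb.1 (a₁ := fun _ => X.presheaf.germ W x hxW (τ - r * α)) (a₂ := fun _ => 1) (by
        simp only [Fin.sum_univ_one, one_smul]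
        exact key)
      exact congrFun this 0
    rw [map_sub, map_mul, sub_eq_iff_eq_add] at h1
    rw [h1]
    have hm : X.presheaf.germ W x hxW r * X.presheaf.germ W x hxW α ∈ IsLocalRing.maximalIdeal _ :=
      Ideal.mul_mem_left _ _ ((IsLocalRing.mem_maximalIdeal _).2 hnu)
    by_contra hu'
    have h2 := Ideal.sub_mem (IsLocalRing.maximalIdeal (X.presheaf.stalk x)) ((IsLocalRing.mem_maximalIdeal _).2 hu') hm
    rw [add_sub_cancel_right] at h2
    exact (IsLocalRing.maximalIdeal.isMaximal _).ne_top ((Ideal.eq_top_iff_one _).2 h2)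
  have h5 : x ∈ X.basicOpen τ := (Scheme.mem_basicOpen _ _ x hxW).2 hτu
  simp only [τ, Scheme.basicOpen_res] at h5
  exact h5.2

end GrothLib.Euler
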