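import Groth.Agent.Lib.Euler.AmpleCurve
import Mathlib.AlgebraicGeometry.Morphisms.QuasiFinite
import Mathlib.AlgebraicGeometry.ProjectiveSpectrum.Proper

/-!
# An invertible module on an integral proper curve is ample iff its degree is positive
-/

set_option linter.style.haveILetI false

universe u

open CategoryTheory CategoryTheory.Limits AlgebraicGeometry TopologicalSpace Opposite

namespace GrothLib.Euler

open GrothLib.Ample (Cocycle res)

variable {X : Scheme.{u}} (k : Type u) [Field k] [X.Over (Spec (CommRingCat.of k))]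
  [IsIntegral X] [IsProper (X ↘ Spec (CommRingCat.of k))] (c : Cocycle X)

include k in
/-- Two sections without common zero, one of them with a zero, have affine loci. -/
theorem isAffineOpen_locus_of_two (hd : topologicalKrullDim X ≤ 1) {m : ℕ} (s t : c.sect m ⊤)
    (hs : (c.locus s : Set X).Nonempty) (hne : c.locus s ≠ ⊤) (hcov : c.locus s ⊔ c.locus t = ⊤) :
    IsAffineOpen (c.locus s) ∧ IsAffineOpen (c.locus t) := by
  have := isNoetherian_of_proper (X := X) k
  let c' := c.pow m
  let σ : Fin 2 → ProjUP.Γm (c'.twist 1) := fun i =>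
    c.toPow m (c.sectCast (mul_one m).symm (if i = 0 then s else t))
  have hloc : ∀ i, c'.locus (Ample.ProjMap.sec c' (Iso.refl _) σ i) = c.locus (if i = 0 then s else t) := by
    intro i
    show c'.locus (c.toPow m (c.sectCast (mul_one m).symm (if i = 0 then s else t))) = _
    rw [c.locus_toPow, c.locus_sectCast]
  have hσ : ⨆ i, c'.locus (Ample.ProjMap.sec c' (Iso.refl _) σ i) = ⊤ := by
    rw [eq_top_iff, ← hcov]
    refine sup_le ?_ ?_
    · exact le_iSup_of_le 0 (by rw [hloc]; simp)
    · exact le_iSup_of_le 1 (by rw [hloc]; simp)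
  let q := X ↘ Spec (CommRingCat.of k)
  let D := Ample.ProjMap.dataOfSections c' (Iso.refl _) σ hσ q
  let φ := D.map
  haveI : IsSeparated (CohB1.ProjSpace.toSpec 1 k) := by
    unfold CohB1.ProjSpace.toSpec
    exact MorphismProperty.comp_mem @IsSeparated _ _ (Proj.isSeparated _) inferInstance
  haveI : IsProper (φ ≫ CohB1.ProjSpace.toSpec 1 k) := by
    rw [show φ ≫ CohB1.ProjSpace.toSpec 1 k = q from D.map_toSpec]; infer_instance
  haveI : IsProper φ := IsProper.of_comp φ (CohB1.ProjSpace.toSpec 1 k)
  have hpre0 := D.map_preimage 0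
  have hU0 : D.U 0 = c.locus s := (hloc 0).trans (by simp)
  have hU1 : D.U 1 = c.locus t := (hloc 1).trans (by simp)
  have hη : genericPoint X ∈ c.locus s :=
    ((genericPoint_spec X).specializes trivial).mem_open (c.locus s).2 hs.some_mem
  obtain ⟨x, hx⟩ : ∃ x, x ∉ c.locus s := by
    by_contra h
    push Not at h
    exact hne (eq_top_iff.2 fun x _ => h x)
  have hne' : φ x ≠ φ (genericPoint X) := by
    intro he
    have h1 : genericPoint X ∈ φ ⁻¹ᵁ Proj.basicOpen (CohB1.polyGrading 1 k) (MvPolynomial.X 0) := by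
      rw [hpre0, hU0]; exact hη
    have h2 : x ∈ φ ⁻¹ᵁ Proj.basicOpen (CohB1.polyGrading 1 k) (MvPolynomial.X 0) := by
      show φ x ∈ Proj.basicOpen (CohB1.polyGrading 1 k) (MvPolynomial.X 0)
      rw [he]
      exact h1
    rw [hpre0, hU0] at h2
    exact hx h2
  have hgen : ¬ IsClosed ({φ (genericPoint X)} : Set _) := fun hc =>
    hne' (Set.mem_singleton_iff.1 ((((genericPoint_spec X).specializes (y := x) trivial).map φ.continuous).mem_closed hc rfl))
  have hclimg : ∀ y : X, y ≠ genericPoint X → IsClosed ({φ y} : Set _) := fun y hy => by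
    rw [← Set.image_singleton]
    exact φ.isClosedMap _ (CurvePoints.isClosed_singleton hd hy)
  have hfib : ∀ z, (φ ⁻¹' {z}).Finite := by
    intro z
    by_cases hz : IsClosed ({z} : Set _)
    · refine CurvePoints.finite_of_isClosed hd (hz.preimage φ.continuous) fun h => hgen ?_
      rw [show φ (genericPoint X) = z from h]
      exact hz
    · refine (Set.finite_singleton (genericPoint X)).subset fun y hy => ?_
      by_contra hy'
      exact hz ((show φ y = z from hy) ▸ hclimg y hy')
  haveI : LocallyQuasiFinite φ := LocallyQuasiFinite.of_finite_preimage_singleton _ hfib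
  haveI : IsFinite φ := IsFinite.of_isProper_of_locallyQuasiFinite φ
  haveI : @IsAffineHom X (Proj (CohB1.polyGrading 1 k)) φ := (inferInstance : IsFinite φ).toIsAffineHom
  have hbo : ∀ i : Fin 2, IsAffineOpen (D.U i) := fun i => by
    rw [← D.map_preimage i]
    exact (Proj.isAffineOpen_basicOpen (CohB1.polyGrading 1 k) _ (MvPolynomial.isHomogeneous_X k i)
      one_pos).preimage φ
  exact ⟨hU0 ▸ hbo 0, hU1 ▸ hbo 1⟩

include k in
theorem not_isAffineOpen_top (hdim : topologicalKrullDim X = 1) : ¬ IsAffineOpen (⊤ : X.Opens) := by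
  intro h
  haveI : IsAffine ((⊤ : X.Opens) : Scheme.{u}) := h
  haveI : IsAffine X := .of_isIso (Scheme.topIso X).inv
  let q := X ↘ Spec (CommRingCat.of k)
  haveI : IsAffineHom q := isAffineHom_of_isAffine q
  haveI : IsFinite q := IsFinite.iff_isProper_and_isAffineHom.2 ⟨inferInstance, inferInstance⟩
  have hd : _root_.IsDiscrete (q ⁻¹' {q (genericPoint X)}) := q.isDiscrete_preimage_singleton _
  have hall : q ⁻¹' {q (genericPoint X)} = Set.univ :=
    Set.eq_univ_of_forall fun y => Subsingleton.elim (α := PrimeSpectrum k) _ _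
  rw [hall, isDiscrete_univ_iff] at hd
  exact CurvePoints.genericPoint_not_isClosed hdim (isClosed_discrete _)

theorem isAmple_iff_deg_pos (hdim : topologicalKrullDim X = 1) {L : X.Modules} (hL : PicF.IsInvertible L) :
    CohB1.IsAmple L ↔ 0 < Curv2.deg k X L 1 := by
  have := isNoetherian_of_proper (X := X) k
  obtain ⟨c, ⟨e⟩⟩ := Ample.exists_cocycle hL
  rw [c.isAmple_iff e, deg_of_iso k e]
  constructor
  · rintro ⟨-, hA⟩
    obtain ⟨n, a, hηa, ha⟩ := hA (genericPoint X)
    have h := deg_pos_of_locus k c hdim.le ⟨_, hηa⟩ fun htop => not_isAffineOpen_top k hdim (htop ▸ ha)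
    rw [deg_twist k c hdim.le] at h
    exact pos_of_mul_pos_right h (Int.natCast_nonneg _)
  · intro hpos
    obtain ⟨N, a, hN, ha, hne⟩ := exists_section_of_deg_pos k c hdim.le hpos
    obtain ⟨m, s, t, hm, hs, hcov⟩ := exists_complementary_section k c hdim.le hN ha
    obtain ⟨h1, h2⟩ := isAffineOpen_locus_of_two k c hdim.le s t (by rw [hs]; exact ha) (by rw [hs]; exact hne) hcov
    refine ⟨inferInstance, fun p => ?_⟩
    obtain ⟨l, rfl⟩ : ∃ l, m = l + 1 := ⟨m - 1, by omega⟩
    rcases (hcov ▸ Opens.mem_top p : p ∈ c.locus s ⊔ c.locus t) with hp | hp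
    · exact ⟨l, s, hp, h1⟩
    · exact ⟨l, t, hp, h2⟩

end GrothLib.Euler
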