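import Groth.Agent.Lib.Euler.VB

/-!
# The torsion subsheaf of a coherent module on an integral curve
-/

set_option linter.style.haveILetI false

universe u

open CategoryTheory CategoryTheory.Limits AlgebraicGeometry TopologicalSpace Opposite

namespace GrothLib.Euler

open GrothLib.QCoh (stalkLin)
open GrothLib.FinCov (IsFrame)

variable {X : Scheme.{u}} [IsIntegral X]

/-- A section of a framed module with vanishing germ at the generic point vanishes. -/
theorem eq_zero_of_frame_of_germ_generic {F : X.Modules} {n : ℕ} {D : X.Opens} {e : Fin n → Γ(F, D)}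
    (he : IsFrame F D e) {W : X.Opens} (hW : W ≤ D) (hη : genericPoint X ∈ W) (s : Γ(F, W))
    (h0 : F.presheaf.germ W (genericPoint X) hη s = 0) : s = 0 := by
  obtain ⟨c, rfl⟩ := (he W hW).2 s
  obtain ⟨V, hηV, i, i', heq⟩ := TopCat.Presheaf.germ_eq F.presheaf (genericPoint X) hη hη _ 0
    (h0.trans (map_zero _).symm)
  obtain rfl : i = i' := Subsingleton.elim _ _
  rw [map_zero, map_sum] at heq
  have h2 : (fun j => X.presheaf.map i.op (c j)) = 0 := (he V (i.le.trans hW)).1 (by
    simp only [Pi.zero_apply, zero_smul, Finset.sum_const_zero]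
    rw [← heq]
    refine Finset.sum_congr rfl fun j _ => ?_
    rw [Scheme.Modules.map_smul, Cohom.map_map_apply])
  haveI : Nonempty V := ⟨⟨_, hηV⟩⟩
  have hc : c = 0 := funext fun j => map_injective_of_isIntegral X i
    ((congrFun h2 j).trans (map_zero _).symm)
  show ∑ j, c j • _ = 0
  simp [hc]

theorem stalkLin_zero_apply {A B : X.Modules} (x : X) (t : A.presheaf.stalk x) : stalkLin (0 : A ⟶ B) x t = 0 := by
  obtain ⟨U, hU, s, rfl⟩ := TopCat.Presheaf.exists_germ_eq A.presheaf t
  rw [QCoh.stalkLin_germ]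
  exact map_zero (B.presheaf.germ U x hU).hom

variable [IsLocallyNoetherian X]

/-- A coherent module is free near the generic point. -/
theorem exists_frame_generic {F : X.Modules} (hF : Coh.IsCoh F) :
    ∃ (n : ℕ) (D : X.Opens) (e : Fin n → Γ(F, D)), genericPoint X ∈ D ∧ IsFrame F D e := by
  letI : Field (X.presheaf.stalk (genericPoint X)) := CurvePoints.isField_stalk_genericPoint.toField
  haveI := stalk_finite hF (genericPoint X)
  obtain ⟨D, e, hD, he⟩ := exists_frame_of_stalk_basis hF
    (Module.finBasis (X.presheaf.stalk (genericPoint X)) (F.presheaf.stalk (genericPoint X)))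
  exact ⟨_, D, e, hD, he⟩

/-- Every coherent module is an extension of a torsion-free one by one vanishing at the generic point. -/
theorem exists_torsion_sequence {M : X.Modules} (hM : Coh.IsCoh M) :
    ∃ (T Q : X.Modules) (ι : T ⟶ M) (π : M ⟶ Q) (w : ι ≫ π = 0), (ShortComplex.mk ι π w).ShortExact ∧
      Coh.IsCoh T ∧ Coh.IsCoh Q ∧ genericPoint X ∉ CohB1.support T ∧ TorSh.IsTorsionFree Q := by
  obtain ⟨n, D, e, hηD, he⟩ := exists_frame_generic hM
  let P := QCoh.supported M ((D : Set X)ᶜ)
  have hTc : Coh.IsCoh P.obj := QCoh.supported_isCoh M hM D.2.isClosed_compl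
  haveI : Mono P.ι := QCoh.mono_of_app_injective _ P.ι_app_injective
  have hS : (ShortComplex.mk P.ι (cokernel.π P.ι) (cokernel.condition P.ι)).ShortExact :=
    { exact := ShortComplex.exact_of_g_is_cokernel _ (cokernelIsCokernel P.ι) }
  refine ⟨P.obj, cokernel P.ι, P.ι, cokernel.π P.ι, cokernel.condition P.ι, hS, hTc,
    QCoh.isCoh_cokernel P.ι hTc hM, ?_, fun x => ⟨fun r hr => ?_⟩⟩
  · intro hmem
    refine hmem (subsingleton_of_forall_eq 0 fun t => ?_)
    obtain ⟨U, hU, s, rfl⟩ := TopCat.Presheaf.exists_germ_eq P.obj.presheaf t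
    refine QCoh.stalkLin_injective P.ι _ ?_
    rw [map_zero, QCoh.stalkLin_germ]
    exact P.ι_app_mem s _ hU fun h => h hηD
  · refine (isSMulRegular_iff_right_eq_zero_of_smul ..).2 fun q hq => ?_
    obtain ⟨m, rfl⟩ := QCoh.stalkLin_surjective (cokernel.π P.ι) x q
    rw [← map_smul] at hq
    have hex : Function.Exact (stalkLin P.ι x) (stalkLin (cokernel.π P.ι) x) :=
      (ShortComplex.ShortExact.moduleCat_exact_iff_function_exact _).1
        ((OX.exact_iff (ShortComplex.mk P.ι (cokernel.π P.ι) (cokernel.condition P.ι))).1 hS.exact _)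
    obtain ⟨t, ht⟩ := (hex _).1 hq
    obtain ⟨U, hU, s, rfl⟩ := TopCat.Presheaf.exists_germ_eq M.presheaf m
    have hηU : genericPoint X ∈ U := ((genericPoint_spec X).specializes trivial).mem_open U.2 hU
    -- the germ of the section at the generic point is zero
    have h0 : M.presheaf.germ U (genericPoint X) hηU s = 0 := by
      obtain ⟨U', hU', a, rfl⟩ := TopCat.Presheaf.exists_germ_eq X.presheaf r
      obtain ⟨U'', hU'', t', rfl⟩ := TopCat.Presheaf.exists_germ_eq P.obj.presheaf t
      rw [QCoh.stalkLin_germ] at ht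
      let W := U ⊓ U' ⊓ U''
      have hxW : x ∈ W := ⟨⟨hU, hU'⟩, hU''⟩
      let i₁ : W ⟶ U := homOfLE (inf_le_left.trans inf_le_left)
      let i₂ : W ⟶ U' := homOfLE (inf_le_left.trans inf_le_right)
      let i₃ : W ⟶ U'' := homOfLE inf_le_right
      rw [← TopCat.Presheaf.germ_res_apply X.presheaf i₂ x hxW a,
        ← TopCat.Presheaf.germ_res_apply M.presheaf i₁ x hxW s, ← WeakAss.germ_smul,
        ← TopCat.Presheaf.germ_res_apply M.presheaf i₃ x hxW (P.ι.app U'' t')] at ht
      obtain ⟨V, hxV, j, j', heq⟩ := TopCat.Presheaf.germ_eq M.presheaf x hxW hxW _ _ ht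
      have hηV : genericPoint X ∈ V := ((genericPoint_spec X).specializes trivial).mem_open V.2 hxV
      have h3 := congrArg (M.presheaf.germ V _ hηV) heq
      rw [TopCat.Presheaf.germ_res_apply, TopCat.Presheaf.germ_res_apply, TopCat.Presheaf.germ_res_apply,
        WeakAss.germ_smul, TopCat.Presheaf.germ_res_apply, TopCat.Presheaf.germ_res_apply,
        P.ι_app_mem t' _ _ fun h => h hηD] at h3
      haveI : Nonempty U' := ⟨⟨x, hU'⟩⟩
      have ha : X.presheaf.germ U' (genericPoint X) (((genericPoint_spec X).specializes trivial).mem_open U'.2 hU') a ≠ 0 :=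
        fun hz => hr.ne_zero (by
          have : a = 0 := germ_injective_of_isIntegral X _ _ (hz.trans (map_zero _).symm)
          rw [this, map_zero])
      letI : Field (X.presheaf.stalk (genericPoint X)) := CurvePoints.isField_stalk_genericPoint.toField
      exact (smul_eq_zero.1 h3.symm).resolve_left ha
    have hs : s ∈ P.sec U := fun y hy hyD => by
      have hyD' : y ∈ D := not_not.1 hyD
      have h1 := eq_zero_of_frame_of_germ_generic he (inf_le_right : U ⊓ D ≤ D) ⟨hηU, hηD⟩
        (M.presheaf.map (homOfLE (inf_le_left : U ⊓ D ≤ U)).op s) (by rw [TopCat.Presheaf.germ_res_apply]; exact h0)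
      rw [← TopCat.Presheaf.germ_res_apply M.presheaf (homOfLE (inf_le_left : U ⊓ D ≤ U)) y ⟨hy, hyD'⟩ s, h1,
        map_zero]
    rw [← P.ι_app_lift s hs, ← QCoh.stalkLin_germ, ← QCoh.stalkLin_comp, cokernel.condition]
    exact stalkLin_zero_apply _ _

section

variable (k : Type u) [Field k] [X.Over (Spec (CommRingCat.of k))] [IsProper (X ↘ Spec (CommRingCat.of k))]

theorem grank_eq_zero_of_notMem {T : X.Modules} (h : genericPoint X ∉ CohB1.support T) : grank T = 0 := by
  haveI := QCoh.stalk_subsingleton_of_notMem h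
  exact Module.finrank_zero_of_subsingleton

/-- A coherent module vanishing at the generic point has nonnegative degree, zero only if it is zero. -/
theorem degree_nonneg_of_notMem (hd : topologicalKrullDim X ≤ 1) {T : X.Modules} (hT : Coh.IsCoh T)
    (h : genericPoint X ∉ CohB1.support T) : 0 ≤ degree k T ∧ (degree k T ≤ 0 → IsZero T) := by
  obtain ⟨hfin, hcl⟩ := finite_support_of_notMem_genericPoint k hd hT h
  have e : degree k T = Module.finrank k (Coh.HH X T 0) := by
    rw [degree, euler_eq_of_finite_support k T hfin hcl, grank_eq_zero_of_notMem h]; simp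
  refine ⟨by omega, fun h0 => ?_⟩
  haveI := finiteDimensional_HH k hT 0
  exact isZero_of_subsingleton_H0 T hfin hcl ((Module.finrank_zero_iff (R := k)).1 (by omega))

/-- A subsheaf whose degree is maximal among the subsheaves of the same rank is saturated. -/
theorem isTorsionFree_cokernel_of_max (hd : topologicalKrullDim X ≤ 1) {P E : X.Modules} (i : P ⟶ E) [Mono i]
    (hP : Coh.IsCoh P) (hE : Coh.IsCoh E)
    (hmax : ∀ (P' : X.Modules) (i' : P' ⟶ E), Mono i' → Coh.IsCoh P' → grank P' = grank P →
      degree k P' ≤ degree k P) : TorSh.IsTorsionFree (cokernel i) := by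
  haveI := isNoetherian_of_proper (X := X) k
  have hC : Coh.IsCoh (cokernel i) := QCoh.isCoh_cokernel i hP hE
  have hS : (ShortComplex.mk i (cokernel.π i) (cokernel.condition i)).ShortExact :=
    { exact := ShortComplex.exact_of_g_is_cokernel _ (cokernelIsCokernel i) }
  obtain ⟨T, Q, ι, π, w, hT, hTc, hQc, hη, htf⟩ := exists_torsion_sequence hC
  haveI := hT.epi_g
  haveI : Epi (cokernel.π i ≫ π) := inferInstance
  have hK : (ShortComplex.mk (kernel.ι (cokernel.π i ≫ π)) (cokernel.π i ≫ π) (kernel.condition _)).ShortExact :=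
    { exact := ShortComplex.exact_of_f_is_kernel _ (kernelIsKernel _) }
  have hKc := QCoh.isCoh_kernel (cokernel.π i ≫ π) hE hQc
  have d1 := degree_additive k hS hP hE hC
  have d2 := degree_additive k hT hTc hC hQc
  have d3 := degree_additive k hK hKc hE hQc
  have g1 := grank_additive hS hE
  have g2 := grank_additive hT hC
  have g3 := grank_additive hK hE
  dsimp only at d1 d2 d3 g1 g2 g3
  have gT := grank_eq_zero_of_notMem hη
  have := hmax _ (kernel.ι (cokernel.π i ≫ π)) inferInstance hKc (by omega)
  have hz := (degree_nonneg_of_notMem k hd hTc hη).2 (by omega)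
  haveI : Mono π := hT.exact.mono_g (hz.eq_of_src _ _)
  intro x
  haveI := htf x
  exact Function.Injective.moduleIsTorsionFree (stalkLin π x) (QCoh.stalkLin_injective π x) (map_smul _)

/-- Hence its quotient is locally free on a regular curve. -/
theorem isFinLocFreeOfRank_cokernel_of_max (hd : topologicalKrullDim X ≤ 1)
    (hpid : ∀ x : X, IsPrincipalIdealRing (X.presheaf.stalk x)) {P E : X.Modules} (i : P ⟶ E) [Mono i]
    (hP : Coh.IsCoh P) (hE : Coh.IsCoh E)
    (hmax : ∀ (P' : X.Modules) (i' : P' ⟶ E), Mono i' → Coh.IsCoh P' → grank P' = grank P →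
      degree k P' ≤ degree k P) : FlatMod.IsFinLocFreeOfRank (grank (cokernel i)) (cokernel i) :=
  isFinLocFreeOfRank_of_torsionFree hpid (QCoh.isCoh_cokernel i hP hE)
    (isTorsionFree_cokernel_of_max k hd i hP hE hmax)

end

end GrothLib.Euler
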