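import Groth.Agent.Lib.Euler.Slope

/-!
# Extensions and maximal slopes
-/

set_option linter.style.haveILetI false

universe u

open CategoryTheory CategoryTheory.Limits AlgebraicGeometry TopologicalSpace

namespace GrothLib.Euler

variable (k : Type u) [Field k] {X : Scheme.{u}} [X.Over (Spec (CommRingCat.of k))]
  [IsProper (X ↘ Spec (CommRingCat.of k))] [IsIntegral X]

include k in
theorem isLocallyNoetherian_of_proper : IsLocallyNoetherian X :=
  LocallyOfFiniteType.isLocallyNoetherian (X ↘ Spec (CommRingCat.of k))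

theorem isFinLocFreeOfRank_one_of_invertible {M : X.Modules} (hM : PicF.IsInvertible M) :
    FlatMod.IsFinLocFreeOfRank 1 M := fun y => by
  obtain ⟨U, hy, ⟨φ⟩⟩ := hM y
  exact ⟨U, hy, ⟨φ ≪≫ (coproductUniqueIso fun _ : Fin 1 => Coh.structureModule (↑U)).symm⟩⟩

theorem degree_quotient {A B Q : X.Modules} (f : A ⟶ B) (g : B ⟶ Q) (w : f ≫ g = 0)
    (hS : (ShortComplex.mk f g w).ShortExact) (hA : Coh.IsCoh A) (hB : Coh.IsCoh B) (hQ : Coh.IsCoh Q) :
    degree k B = degree k A + degree k Q ∧ grank B = grank A + grank Q :=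
  ⟨degree_additive k (S := ShortComplex.mk f g w) hS hA hB hQ, grank_additive (S := ShortComplex.mk f g w) hS hB⟩

theorem kernel_shortExact {B Q : X.Modules} (g : B ⟶ Q) [Epi g] :
    (ShortComplex.mk (kernel.ι g) g (kernel.condition g)).ShortExact :=
  { exact := ShortComplex.exact_of_f_is_kernel _ (kernelIsKernel g) }

theorem cokernel_shortExact {A B : X.Modules} (f : A ⟶ B) [Mono f] :
    (ShortComplex.mk f (cokernel.π f) (cokernel.condition f)).ShortExact :=
  { exact := ShortComplex.exact_of_g_is_cokernel _ (cokernelIsCokernel f) }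

/-- Semistability of extensions of equal slopes. -/
theorem subLe_extension_iff (hpid : ∀ x : X, IsPrincipalIdealRing (X.presheaf.stalk x))
    (T : ShortComplex X.Modules) (hT : T.ShortExact) {r₁ r r₂ : ℕ} (hr₁ : 0 < r₁) (hr : 0 < r) (hr₂ : 0 < r₂)
    (hE₁ : FlatMod.IsFinLocFreeOfRank r₁ T.X₁) (hE : FlatMod.IsFinLocFreeOfRank r T.X₂)
    (hE₂ : FlatMod.IsFinLocFreeOfRank r₂ T.X₃)
    (hμ₁ : Curv2.deg k X T.X₁ r₁ * (r : ℤ) = Curv2.deg k X T.X₂ r * (r₁ : ℤ))
    (hμ₂ : Curv2.deg k X T.X₃ r₂ * (r : ℤ) = Curv2.deg k X T.X₂ r * (r₂ : ℤ)) :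
    SubLe k T.X₂ (Curv2.deg k X T.X₂ r) r ↔
      SubLe k T.X₁ (Curv2.deg k X T.X₁ r₁) r₁ ∧ SubLe k T.X₃ (Curv2.deg k X T.X₃ r₂) r₂ := by
  haveI := isNoetherian_of_proper (X := X) k
  haveI := hT.mono_f
  haveI := hT.epi_g
  have hZ : (0 : ℤ) < r := by exact_mod_cast hr
  have hZ₁ : (0 : ℤ) < r₁ := by exact_mod_cast hr₁
  have hZ₂ : (0 : ℤ) < r₂ := by exact_mod_cast hr₂
  have hEc := isCoh_of_isFinLocFree (FinCov.isFinLocFree_of_rank hE)
  have hE₂c := isCoh_of_isFinLocFree (FinCov.isFinLocFree_of_rank hE₂)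
  constructor
  · intro h
    constructor
    · intro G r' i hi hr' hG
      have := h G r' (i ≫ T.f) inferInstance hr' hG
      have e1 := mul_le_mul_of_nonneg_left this hZ₁.le
      refine le_of_mul_le_mul_right ?_ hZ
      calc Curv2.deg k X G r' * r₁ * r = r₁ * (Curv2.deg k X G r' * r) := by ring
        _ ≤ r₁ * (Curv2.deg k X T.X₂ r * r') := e1
        _ = Curv2.deg k X T.X₁ r₁ * r' * r := by rw [mul_right_comm (Curv2.deg k X T.X₁ r₁), hμ₁]; ring
    · intro G r' j hj hr' hG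
      have hGc := isCoh_of_isFinLocFree (FinCov.isFinLocFree_of_rank hG)
      have hQc := QCoh.isCoh_cokernel j hGc hE₂c
      haveI := hj
      let q := T.g ≫ cokernel.π j
      have hPc := QCoh.isCoh_kernel q hEc hQc
      obtain ⟨d1, g1⟩ := degree_quotient k _ _ _ (kernel_shortExact q) hPc hEc hQc
      obtain ⟨d2, g2⟩ := degree_quotient k _ _ _ (cokernel_shortExact j) hGc hE₂c hQc
      have hP := h.degree (kernel.ι q) inferInstance
        (isFinLocFreeOfRank_of_mono hpid (kernel.ι q) hPc (FinCov.isFinLocFree_of_rank hE))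
      rw [← deg_eq_degree k hE] at d1
      rw [← deg_eq_degree k hE₂, ← deg_eq_degree k hG] at d2
      rw [grank_of_locFree hE] at g1
      rw [grank_of_locFree hE₂, grank_of_locFree hG] at g2
      have g1' : (r : ℤ) = grank (kernel q) + grank (cokernel j) := by exact_mod_cast g1
      have g2' : (r₂ : ℤ) = r' + grank (cokernel j) := by exact_mod_cast g2
      refine le_of_mul_le_mul_right ?_ hZ
      have e1 : degree k (kernel q) * r = Curv2.deg k X T.X₂ r * r - degree k (cokernel j) * r := by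
        rw [d1]; ring
      have e2 : Curv2.deg k X T.X₂ r * r = Curv2.deg k X T.X₂ r * grank (kernel q) +
          Curv2.deg k X T.X₂ r * grank (cokernel j) := by rw [g1']; ring
      have e3 : Curv2.deg k X G r' * r = Curv2.deg k X T.X₂ r * r' +
          (Curv2.deg k X T.X₂ r * grank (cokernel j) - degree k (cokernel j) * r) := by
        have : Curv2.deg k X T.X₃ r₂ * r = Curv2.deg k X G r' * r + degree k (cokernel j) * r := by
          rw [d2]; ring
        rw [hμ₂, g2'] at this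
        linarith
      have e4 : Curv2.deg k X G r' * r ≤ Curv2.deg k X T.X₂ r * r' := by linarith
      calc Curv2.deg k X G r' * r₂ * r = r₂ * (Curv2.deg k X G r' * r) := by ring
        _ ≤ r₂ * (Curv2.deg k X T.X₂ r * r') := mul_le_mul_of_nonneg_left e4 hZ₂.le
        _ = Curv2.deg k X T.X₃ r₂ * r' * r := by rw [mul_right_comm (Curv2.deg k X T.X₃ r₂), hμ₂]; ring
  · rintro ⟨h1, h3⟩ G r' i hi hr' hG
    obtain ⟨K, I, a, p, j, rK, rI, ha, hp, hj, -, hak, hK, hI, hrk, hdeg, -, -⟩ :=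
      exists_image_data k hpid (FinCov.isFinLocFree_of_rank hG) (FinCov.isFinLocFree_of_rank hE₂) (i ≫ T.g)
    haveI := ha
    haveI := hi
    have hak' : (a ≫ i) ≫ T.g = 0 := by simpa using hak
    have hl : hT.exact.lift (a ≫ i) hak' ≫ T.f = a ≫ i := hT.exact.lift_f _ _
    haveI : Mono (hT.exact.lift (a ≫ i) hak' ≫ T.f) := by rw [hl]; infer_instance
    haveI := mono_of_mono (hT.exact.lift (a ≫ i) hak') T.f
    have e1 := h1.degree (hT.exact.lift (a ≫ i) hak') inferInstance hK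
    have e3 := h3.degree j hj hI
    rw [grank_of_locFree hG] at hrk
    rw [← deg_eq_degree k hG] at hdeg
    subst hrk
    have f1 : degree k K * r ≤ Curv2.deg k X T.X₂ r * rK := by
      refine le_of_mul_le_mul_right ?_ hZ₁
      calc degree k K * r * r₁ = r * (degree k K * r₁) := by ring
        _ ≤ r * (Curv2.deg k X T.X₁ r₁ * rK) := mul_le_mul_of_nonneg_left e1 hZ.le
        _ = Curv2.deg k X T.X₂ r * rK * r₁ := by rw [mul_right_comm (Curv2.deg k X T.X₂ r), ← hμ₁]; ring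
    have f3 : degree k I * r ≤ Curv2.deg k X T.X₂ r * rI := by
      refine le_of_mul_le_mul_right ?_ hZ₂
      calc degree k I * r * r₂ = r * (degree k I * r₂) := by ring
        _ ≤ r * (Curv2.deg k X T.X₃ r₂ * rI) := mul_le_mul_of_nonneg_left e3 hZ.le
        _ = Curv2.deg k X T.X₂ r * rI * r₂ := by rw [mul_right_comm (Curv2.deg k X T.X₂ r), ← hμ₂]; ring
    rw [hdeg]
    push_cast
    linarith

/-- A nonzero map of invertible modules does not lower the degree. -/
theorem deg_le_of_ne_zero_pid (hd : topologicalKrullDim X ≤ 1)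
    (hpid : ∀ x : X, IsPrincipalIdealRing (X.presheaf.stalk x)) {N M : X.Modules}
    (hN : PicF.IsInvertible N) (hM : PicF.IsInvertible M) (c : N ⟶ M) (hc : c ≠ 0) :
    Curv2.deg k X N 1 ≤ Curv2.deg k X M 1 := by
  obtain ⟨K, I, a, p, j, rK, rI, -, -, -, -, -, -, -, hrk, -, h0, hmono⟩ :=
    exists_image_data k hpid (isFinLocFree_of_isInvertible hN) (isFinLocFree_of_isInvertible hM) c
  have h1 := isFinLocFreeOfRank_one_of_invertible hN
  have h2 := isFinLocFreeOfRank_one_of_invertible hM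
  rw [grank_of_locFree h1] at hrk
  have : 0 < rI := Nat.pos_of_ne_zero fun h => hc (h0 h)
  haveI := hmono (by omega)
  rw [deg_eq_degree k h1, deg_eq_degree k h2]
  exact (degree_le_of_mono k hd c (isCoh_of_isInvertible hN) (isCoh_of_isInvertible hM)
    (by rw [grank_of_locFree h1, grank_of_locFree h2])).1

include k in
/-- An invertible submodule contains any invertible submodule in whose sense it is saturated. -/
theorem exists_factor_of_comp_eq_zero (hpid : ∀ x : X, IsPrincipalIdealRing (X.presheaf.stalk x))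
    {L N E : X.Modules} (hL : PicF.IsInvertible L) (hN : PicF.IsInvertible N) (i : L ⟶ E) (j : N ⟶ E)
    [Mono i] [Mono j] (hq : PicF.IsInvertible (cokernel j)) (h : j ≫ cokernel.π i = 0) :
    ∃ φ : N ≅ L, φ.hom ≫ i = j := by
  obtain ⟨φ, hφ⟩ : ∃ φ : N ⟶ L, φ ≫ i = j :=
    ⟨(cokernel_shortExact i).exact.lift j h, (cokernel_shortExact i).exact.lift_f j h⟩
  haveI : Mono (φ ≫ i) := by rw [hφ]; infer_instance
  haveI := mono_of_mono φ i
  have hψ : i ≫ cokernel.π j = 0 := by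
    obtain ⟨K, I, a, p, j', rK, rI, ha, hp, hj', hfac, -, hK, hI, hrk, -, h0, -⟩ :=
      exists_image_data k hpid (isFinLocFree_of_isInvertible hL) (isFinLocFree_of_isInvertible hq)
        (i ≫ cokernel.π j)
    refine h0 (by_contra fun hne => ?_)
    rw [grank_of_locFree (isFinLocFreeOfRank_one_of_invertible hL)] at hrk
    haveI := hp
    haveI := hj'
    have hz : φ ≫ p = 0 := by
      rw [← cancel_mono j', zero_comp, Category.assoc, hfac, ← Category.assoc, hφ, cokernel.condition]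
    have hpI : Coh.IsCoh I := isCoh_of_isFinLocFree (FinCov.isFinLocFree_of_rank hI)
    obtain ⟨-, g⟩ := degree_quotient k _ _ _ (kernel_shortExact p)
      (haveI := isNoetherian_of_proper (X := X) k; QCoh.isCoh_kernel p (isCoh_of_isInvertible hL) hpI)
      (isCoh_of_isInvertible hL) hpI
    haveI : Mono (kernel.lift p φ hz ≫ kernel.ι p) := by rw [kernel.lift_ι]; infer_instance
    haveI := mono_of_mono (kernel.lift p φ hz) (kernel.ι p)
    have := grank_le_of_mono (kernel.lift p φ hz)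
      (haveI := isNoetherian_of_proper (X := X) k; QCoh.isCoh_kernel p (isCoh_of_isInvertible hL) hpI)
    rw [grank_of_locFree (isFinLocFreeOfRank_one_of_invertible hN)] at this
    rw [grank_of_locFree (isFinLocFreeOfRank_one_of_invertible hL), grank_of_locFree hI] at g
    omega
  obtain ⟨χ, hχ⟩ : ∃ χ : L ⟶ N, χ ≫ j = i :=
    ⟨(cokernel_shortExact j).exact.lift i hψ, (cokernel_shortExact j).exact.lift_f i hψ⟩
  exact ⟨⟨φ, χ, by rw [← cancel_mono j, Category.assoc, hχ, hφ, Category.id_comp],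
    by rw [← cancel_mono i, Category.assoc, hφ, hχ, Category.id_comp]⟩, hφ⟩

/-- A subbundle of maximal slope, of maximal rank among those. -/
theorem exists_max_slope (hd : topologicalKrullDim X ≤ 1) {E : X.Modules} {r : ℕ} (hr : 0 < r)
    (hE : FlatMod.IsFinLocFreeOfRank r E) :
    ∃ (E₁ : X.Modules) (r₁ : ℕ) (i₁ : E₁ ⟶ E), Mono i₁ ∧ 0 < r₁ ∧ FlatMod.IsFinLocFreeOfRank r₁ E₁ ∧
      ∀ (G : X.Modules) (r' : ℕ) (j : G ⟶ E), Mono j → 0 < r' → FlatMod.IsFinLocFreeOfRank r' G →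
        Curv2.deg k X G r' * (r₁ : ℤ) ≤ Curv2.deg k X E₁ r₁ * (r' : ℤ) ∧
        (Curv2.deg k X G r' * (r₁ : ℤ) = Curv2.deg k X E₁ r₁ * (r' : ℤ) → r' ≤ r₁) := by
  classical
  have hEc := isCoh_of_isFinLocFree (FinCov.isFinLocFree_of_rank hE)
  let P : ℕ → ℤ → Prop := fun r' d => ∃ (G : X.Modules) (j : G ⟶ E), Mono j ∧
    FlatMod.IsFinLocFreeOfRank r' G ∧ Curv2.deg k X G r' = d
  have hmax : ∀ r', (∃ d, P r' d) → ∃ d, P r' d ∧ ∀ d', P r' d' → d' ≤ d := fun r' h =>
    Int.exists_greatest_of_bdd ⟨(Module.finrank k (Coh.HH X E 0) : ℤ) + r' * ((Curv2.genus k X : ℤ) - 1),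
      fun d ⟨G, j, hj, hG, e⟩ => e ▸ (haveI := hj; deg_le_of_sub k hd j hG hEc)⟩ h
  choose! D hD hD' using hmax
  let S := (Finset.Icc 1 r).filter fun r' => ∃ d, P r' d
  have hS : S.Nonempty := ⟨r, Finset.mem_filter.2 ⟨Finset.mem_Icc.2 ⟨hr, le_rfl⟩,
    _, E, 𝟙 E, inferInstance, hE, rfl⟩⟩
  obtain ⟨r₁, hr₁S, hr₁⟩ := S.exists_max_image (fun r' => toLex ((D r' : ℚ) / r', r')) hS
  obtain ⟨hr₁I, hP⟩ := Finset.mem_filter.1 hr₁S
  obtain ⟨E₁, i₁, hi₁, hE₁, hd₁⟩ := hD r₁ hP
  have hr₁pos : 0 < r₁ := (Finset.mem_Icc.1 hr₁I).1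
  refine ⟨E₁, r₁, i₁, hi₁, hr₁pos, hE₁, fun G r' j hj hr' hG => ?_⟩
  have hle : r' ≤ r := by
    haveI := hj
    have := grank_le_of_mono j hEc
    rwa [grank_of_locFree hG, grank_of_locFree hE] at this
  have hex : ∃ d, P r' d := ⟨_, G, j, hj, hG, rfl⟩
  have h := hr₁ r' (Finset.mem_filter.2 ⟨Finset.mem_Icc.2 ⟨hr', hle⟩, hex⟩)
  have hdG : Curv2.deg k X G r' ≤ D r' := hD' r' hex _ ⟨G, j, hj, hG, rfl⟩
  rw [Prod.Lex.toLex_le_toLex] at h
  have hq1 : (0 : ℚ) < r₁ := by exact_mod_cast hr₁pos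
  have hq' : (0 : ℚ) < r' := by exact_mod_cast hr'
  have hdG' : Curv2.deg k X G r' * (r₁ : ℤ) ≤ D r' * r₁ := mul_le_mul_of_nonneg_right hdG (by positivity)
  rcases h with h | ⟨h, h'⟩
  · rw [div_lt_div_iff₀ hq' hq1] at h
    have h2 : D r' * (r₁ : ℤ) < D r₁ * r' := by exact_mod_cast h
    rw [hd₁]
    exact ⟨by linarith, fun e => by linarith⟩
  · rw [div_eq_div_iff hq'.ne' hq1.ne'] at h
    have h2 : D r' * (r₁ : ℤ) = D r₁ * r' := by exact_mod_cast h
    rw [hd₁]
    exact ⟨by linarith, fun _ => h'⟩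

end GrothLib.Euler
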