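import Groth.Agent.Lib.Euler.Vanish
import Groth.Agent.Lib.ProjCoh.Finite
import Groth.Prelude.Def_CurvBase
import Mathlib.LinearAlgebra.FiniteDimensional.Basic

/-!
# The Euler characteristic: additivity and basic formulas
-/

set_option linter.style.haveILetI false

universe u

open CategoryTheory CategoryTheory.Limits AlgebraicGeometry TopologicalSpace

namespace GrothLib.Euler

theorem finrank_eq_add_of_exact {k : Type*} [DivisionRing k] {A B C : Type*} [AddCommGroup A] [Module k A]
    [AddCommGroup B] [Module k B] [AddCommGroup C] [Module k C] [FiniteDimensional k B]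
    {f : A →ₗ[k] B} {g : B →ₗ[k] C} (h : Function.Exact f g) :
    Module.finrank k B = Module.finrank k (LinearMap.range f) + Module.finrank k (LinearMap.range g) := by
  rw [← h.linearMap_ker_eq, add_comm]
  exact (LinearMap.finrank_range_add_finrank_ker g).symm

variable {X : Scheme.{u}}

section

variable {A : Type u} [CommRing A] [X.Over (Spec (CommRingCat.of A))]

theorem hhMap_comp {M N P : X.Modules} (f : M ⟶ N) (g : N ⟶ P) (n : ℕ) (x : Coh.HH X M n) :
    Cohom.hhMap A (f ≫ g) n x = Cohom.hhMap A g n (Cohom.hhMap A f n x) := by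
  rw [Cohom.hhMap_apply, Cohom.hhMap_apply, Cohom.hhMap_apply, ← Sheaf.H.map_comp_apply, Functor.map_comp]

theorem hhMap_id (M : X.Modules) (n : ℕ) (x : Coh.HH X M n) : Cohom.hhMap A (𝟙 M) n x = x := by
  rw [Cohom.hhMap_apply, CategoryTheory.Functor.map_id, Sheaf.H.map_id_apply]

/-- Isomorphic modules have linearly equivalent cohomology. -/
noncomputable def hhEquiv {M N : X.Modules} (e : M ≅ N) (n : ℕ) : Coh.HH X M n ≃ₗ[A] Coh.HH X N n :=
  { Cohom.hhMap A e.hom n with
    invFun := Cohom.hhMap A e.inv n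
    left_inv := fun x => by
      show Cohom.hhMap A e.inv n (Cohom.hhMap A e.hom n x) = x
      rw [← hhMap_comp, e.hom_inv_id, hhMap_id]
    right_inv := fun x => by
      show Cohom.hhMap A e.hom n (Cohom.hhMap A e.inv n x) = x
      rw [← hhMap_comp, e.inv_hom_id, hhMap_id] }

theorem hhMap_zero_injective {S : ShortComplex X.Modules} (hS : S.ShortExact) :
    Function.Injective (Cohom.hhMap A S.f 0) := by
  refine (injective_iff_map_eq_zero _).2 fun x hx ↦ ?_
  have := (QCoh.toAbFun_map_shortExact S hS).mono_f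
  obtain ⟨ψ, hψ⟩ := (Abelian.Ext.mk₀_bijective _ _).surjective
    (show Abelian.Ext.{u} _ (S.map (QCoh.toAbFun X)).X₁ 0 from x)
  have h0 : Abelian.Ext.mk₀ (ψ ≫ (S.map (QCoh.toAbFun X)).f) = 0 := by
    rw [← Abelian.Ext.mk₀_comp_mk₀, hψ]; exact hx
  rw [Abelian.Ext.mk₀_eq_zero_iff] at h0
  exact hψ.symm.trans ((congrArg Abelian.Ext.mk₀ ((cancel_mono (S.map (QCoh.toAbFun X)).f).1
    (h0.trans zero_comp.symm))).trans (Abelian.Ext.mk₀_zero _ _))

end

variable (k : Type u) [Field k] [X.Over (Spec (CommRingCat.of k))]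

theorem euler_eq_sum (F : X.Modules) {N : ℕ} (h : ∀ n, N ≤ n → Subsingleton (Coh.HH X F n)) :
    Curv2.euler k X F = ∑ i ∈ Finset.range N, (-1 : ℤ) ^ i * (Module.finrank k (Coh.HH X F i) : ℤ) := by
  refine finsum_eq_sum_of_support_subset _ fun i hi => ?_
  rw [Finset.coe_range, Set.mem_Iio]
  by_contra hle
  have := h i (not_lt.1 hle)
  exact hi (by simp [Module.finrank_zero_of_subsingleton])

theorem euler_of_iso {F G : X.Modules} (e : F ≅ G) : Curv2.euler k X F = Curv2.euler k X G :=
  finsum_congr fun i => by rw [(hhEquiv (A := k) e i).finrank_eq]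

theorem deg_of_iso {F G : X.Modules} (e : F ≅ G) (n : ℕ) : Curv2.deg k X F n = Curv2.deg k X G n := by
  rw [Curv2.deg, Curv2.deg, euler_of_iso k e]

theorem genus_def : Curv2.genus k X = Module.finrank k (Coh.HH X (Coh.structureModule X) 1) := rfl

variable [IsProper (X ↘ Spec (CommRingCat.of k))]

include k in
theorem isNoetherian_of_proper : IsNoetherian X := by
  have : IsLocallyNoetherian X := LocallyOfFiniteType.isLocallyNoetherian (X ↘ Spec (CommRingCat.of k))
  have : CompactSpace X := QuasiCompact.compactSpace_of_compactSpace (X ↘ Spec (CommRingCat.of k))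
  exact {}

include k in
/-- A uniform degree above which cohomology of quasi-coherent modules vanishes. -/
theorem exists_bound : ∃ N, ∀ (F : X.Modules) [F.IsQuasicoherent], ∀ n, N ≤ n → Subsingleton (Coh.HH X F n) := by
  have := isNoetherian_of_proper (X := X) k
  obtain ⟨N, hN⟩ := Cohom.exists_vanishFrom_of_isCompact (X := X) (V := ⊤) isCompact_univ
  exact ⟨N, fun F _ n hn => (hN F).subsingleton_HH hn⟩

theorem finiteDimensional_HH {F : X.Modules} (hF : Coh.IsCoh F) (n : ℕ) : FiniteDimensional k (Coh.HH X F n) :=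
  ProjCoh.moduleFinite_HH k F hF n

/-- Additivity of the Euler characteristic. -/
theorem euler_additive {S : ShortComplex X.Modules} (hS : S.ShortExact)
    (h₁ : Coh.IsCoh S.X₁) (h₂ : Coh.IsCoh S.X₂) (h₃ : Coh.IsCoh S.X₃) :
    Curv2.euler k X S.X₂ = Curv2.euler k X S.X₁ + Curv2.euler k X S.X₃ := by
  obtain ⟨N, hN⟩ := exists_bound (X := X) k
  haveI := h₁.1
  haveI := h₂.1
  haveI := h₃.1
  haveI := fun n => finiteDimensional_HH k h₁ n
  haveI := fun n => finiteDimensional_HH k h₂ n
  haveI := fun n => finiteDimensional_HH k h₃ n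
  rw [euler_eq_sum k S.X₁ (hN S.X₁), euler_eq_sum k S.X₂ (hN S.X₂), euler_eq_sum k S.X₃ (hN S.X₃)]
  let a := fun n => (Module.finrank k (LinearMap.range (Cohom.hhMap k S.f n)) : ℤ)
  let b := fun n => (Module.finrank k (LinearMap.range (Cohom.hhMap k S.g n)) : ℤ)
  let c := fun n => (Module.finrank k (LinearMap.range (Cohom.hhDelta k hS n)) : ℤ)
  have e₂ : ∀ n, (Module.finrank k (Coh.HH X S.X₂ n) : ℤ) = a n + b n := fun n => by
    simp only [a, b]; exact_mod_cast finrank_eq_add_of_exact (Cohom.exact₂ hS n)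
  have e₃ : ∀ n, (Module.finrank k (Coh.HH X S.X₃ n) : ℤ) = b n + c n := fun n => by
    simp only [b, c]; exact_mod_cast finrank_eq_add_of_exact (Cohom.exact₃ hS n)
  have e₁ : ∀ n, (Module.finrank k (Coh.HH X S.X₁ (n + 1)) : ℤ) = c n + a (n + 1) := fun n => by
    simp only [c, a]; exact_mod_cast finrank_eq_add_of_exact (Cohom.exact₁ hS n)
  have e₀ : (Module.finrank k (Coh.HH X S.X₁ 0) : ℤ) = a 0 := by
    simp only [a]; exact_mod_cast (LinearMap.finrank_range_of_inj (hhMap_zero_injective (A := k) hS)).symm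
  have key : ∀ M : ℕ, (∑ i ∈ Finset.range (M + 1), (-1 : ℤ) ^ i * Module.finrank k (Coh.HH X S.X₁ i)) +
      (∑ i ∈ Finset.range (M + 1), (-1 : ℤ) ^ i * Module.finrank k (Coh.HH X S.X₃ i)) =
      (∑ i ∈ Finset.range (M + 1), (-1 : ℤ) ^ i * Module.finrank k (Coh.HH X S.X₂ i)) + (-1) ^ M * c M := by
    intro M
    induction M with
    | zero => simp [e₀, e₂, e₃]; ring
    | succ M ih =>
      rw [Finset.sum_range_succ _ (M + 1), Finset.sum_range_succ _ (M + 1), Finset.sum_range_succ _ (M + 1),
        e₁, e₂, e₃, pow_succ]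
      linear_combination ih
  rcases Nat.eq_zero_or_pos N with rfl | hpos
  · simp
  obtain ⟨M, rfl⟩ := Nat.exists_eq_succ_of_ne_zero hpos.ne'
  have hc : c M = 0 := by
    have := hN S.X₁ (M + 1) le_rfl
    simp only [c, Nat.cast_eq_zero]
    exact Module.finrank_zero_of_subsingleton
  have := key M
  rw [hc, mul_zero, add_zero] at this
  exact this.symm

/-- The Euler characteristic of a module supported on finitely many closed points. -/
theorem euler_eq_of_finite_support (F : X.Modules) (hfin : (CohB1.support F).Finite)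
    (hcl : ∀ x ∈ CohB1.support F, IsClosed ({x} : Set X)) :
    Curv2.euler k X F = Module.finrank k (Coh.HH X F 0) := by
  rw [euler_eq_sum k F (N := 1) fun n hn => subsingleton_HH_of_finite_support F hfin hcl n hn]
  simp

include k in
theorem subsingleton_HH_of_two_le (hd : topologicalKrullDim X ≤ 1) (F : X.Modules) [F.IsQuasicoherent]
    (n : ℕ) (hn : 2 ≤ n) : Subsingleton (Coh.HH X F n) :=
  have := isNoetherian_of_proper (X := X) k
  subsingleton_HH_of_dim_le_one (A := k) hd F n hn

/-- On a curve the Euler characteristic is `h⁰ - h¹`. -/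
theorem euler_eq_sub (hd : topologicalKrullDim X ≤ 1) (F : X.Modules) [F.IsQuasicoherent] :
    Curv2.euler k X F = (Module.finrank k (Coh.HH X F 0) : ℤ) - Module.finrank k (Coh.HH X F 1) := by
  rw [euler_eq_sum k F (N := 2) fun n hn => subsingleton_HH_of_two_le k hd F n hn]
  simp [Finset.sum_range_succ]
  ring

end GrothLib.Euler
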