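import Groth.Agent.Lib.Euler.CurveVanish
import Groth.Agent.Lib.Ample.VanishCriterion
import Groth.Agent.Lib.Ample.RelAmple
import Groth.Agent.Lib.QCoh.Pieces
import Mathlib.AlgebraicGeometry.IdealSheaf.IrreducibleComponent

/-!
# Ampleness in dimension at most one is detected by degrees on components
-/

set_option linter.style.haveILetI false
set_option backward.isDefEq.respectTransparency false

universe u

open CategoryTheory CategoryTheory.Limits AlgebraicGeometry TopologicalSpace Opposite
open GrothLib.Ample (Cocycle vMod)

noncomputable section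

namespace GrothLib.Euler

variable {X : Scheme.{u}}

theorem isCoh_vMod [IsLocallyNoetherian X] (T : Closeds X) : Coh.IsCoh (vMod T) :=
  QCoh.isCoh_kernel _ (isCoh_of_isInvertible isInvertible_structure)
    (QCoh.pushUnit_isCoh (Scheme.IdealSheafData.vanishingIdeal T).subschemeι)

theorem homeomorph_range_dim {Z : Scheme.{u}} (i : Z ⟶ X) [IsClosedImmersion i] {C : Set X}
    (h : Set.range i = C) : topologicalKrullDim Z = topologicalKrullDim C :=
  IsHomeomorph.topologicalKrullDim_eq _
    (i.isClosedEmbedding.isEmbedding.toHomeomorph.trans (Homeomorph.setCongr h)).isHomeomorph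

/-- An irreducible closed subset with its reduced structure is integral. -/
theorem isIntegral_vanishingIdeal (T : Closeds X) (hT : IsIrreducible (T : Set X)) :
    IsIntegral (Scheme.IdealSheafData.vanishingIdeal T).subscheme := by
  let j := (Scheme.IdealSheafData.vanishingIdeal T).subschemeι
  have hrange : Set.range j = (T : Set X) := by
    rw [Scheme.IdealSheafData.range_subschemeι, Scheme.IdealSheafData.coe_support_vanishingIdeal]
  haveI : IrreducibleSpace (Set.range j) := Subtype.irreducibleSpace (hrange ▸ hT)
  let e := j.isClosedEmbedding.isEmbedding.toHomeomorph.symm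
  haveI : IrreducibleSpace (Scheme.IdealSheafData.vanishingIdeal T).subscheme := by
    rw [irreducibleSpace_def, Set.top_eq_univ, ← e.surjective.range_eq, ← Set.image_univ]
    exact (IrreducibleSpace.isIrreducible_univ _).image e e.continuous.continuousOn
  haveI := RedSub.isReduced_subscheme_vanishingIdeal T
  exact isIntegral_of_irreducibleSpace_of_isReduced _

variable (k : Type u) [Field k] [X.Over (Spec (CommRingCat.of k))]
  [IsProper (X ↘ Spec (CommRingCat.of k))]

/-- Positivity of the degree on an integral curve inside `X` is ampleness of the pullback. -/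
theorem deg_pos_iff_isAmple_pullback {Z : Scheme.{u}} (i : Z ⟶ X) [IsClosedImmersion i] [IsIntegral Z]
    (hdim : topologicalKrullDim Z = 1) {L : X.Modules} (hL : PicF.IsInvertible L) :
    (0 < @Curv2.deg k _ Z ⟨i ≫ X ↘ Spec (CommRingCat.of k)⟩ ((Scheme.Modules.pullback i).obj L) 1) ↔
      CohB1.IsAmple ((Scheme.Modules.pullback i).obj L) := by
  letI : Z.Over (Spec (CommRingCat.of k)) := ⟨i ≫ X ↘ Spec (CommRingCat.of k)⟩
  haveI : IsProper (Z ↘ Spec (CommRingCat.of k)) :=
    inferInstanceAs (IsProper (i ≫ X ↘ Spec (CommRingCat.of k)))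
  obtain ⟨c, ⟨e⟩⟩ := Ample.exists_cocycle hL
  obtain ⟨d⟩ := c.nonempty_pullback_iso i e
  exact (isAmple_iff_deg_pos k hdim ((c.comap i).isInvertible_of_iso d)).symm

/-- The degree criterion for ampleness in dimension at most one. -/
theorem isAmple_iff_deg_pos_components [IsNoetherian X] (hd : topologicalKrullDim X ≤ 1) {L : X.Modules}
    (hL : PicF.IsInvertible L) :
    CohB1.IsAmple L ↔ ∀ (C : Set X) (hC : C ∈ irreducibleComponents (X : Type u)),
      topologicalKrullDim C = 1 →
        0 < @Curv2.deg k _ (X.irreducibleComponentIdeal C hC).radical.subscheme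
          ⟨(X.irreducibleComponentIdeal C hC).radical.subschemeι ≫ X ↘ Spec (CommRingCat.of k)⟩
          ((Scheme.Modules.pullback (X.irreducibleComponentIdeal C hC).radical.subschemeι).obj L) 1 := by
  have hrad : ∀ (C : Set X) (hC : C ∈ irreducibleComponents (X : Type u)),
      (X.irreducibleComponentIdeal C hC).radical =
        Scheme.IdealSheafData.vanishingIdeal ⟨C, isClosed_of_mem_irreducibleComponents C hC⟩ := fun C hC => by
    rw [← Scheme.IdealSheafData.vanishingIdeal_support]; rfl
  have hrange : ∀ T : Closeds X, Set.range (Scheme.IdealSheafData.vanishingIdeal T).subschemeι = (T : Set X) :=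
    fun T => by rw [Scheme.IdealSheafData.range_subschemeι, Scheme.IdealSheafData.coe_support_vanishingIdeal]
  constructor
  · intro hA C hC hC1
    rw [hrad C hC]
    let T : Closeds X := ⟨C, isClosed_of_mem_irreducibleComponents C hC⟩
    haveI := isIntegral_vanishingIdeal T hC.1
    exact (deg_pos_iff_isAmple_pullback k _ ((homeomorph_range_dim _ (hrange T)).trans hC1) hL).2
      (Ample.isAmple_pullback_of_isAffineHom _ hA)
  · intro h
    obtain ⟨c, ⟨e⟩⟩ := Ample.exists_cocycle hL
    refine (c.isAmple_iff e).2 ⟨inferInstance, c.isAmp_of_subsingleton_H1 fun T => ?_⟩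
    suffices hp : _ from
      (eventually_H1_zero k c (isCoh_vMod T) hp).elim fun n₀ hn₀ => ⟨n₀, hn₀ _ (Nat.le_succ _)⟩
    intro Z i hi hZ _
    refine ⟨(i.isClosedEmbedding.isInducing.topologicalKrullDim_le).trans hd, fun h1 => ?_⟩
    letI : Z.Over (Spec (CommRingCat.of k)) := ⟨i ≫ X ↘ Spec (CommRingCat.of k)⟩
    haveI : IsProper (Z ↘ Spec (CommRingCat.of k)) :=
      inferInstanceAs (IsProper (i ≫ X ↘ Spec (CommRingCat.of k)))
    have hgen : i (genericPoint Z) ∈ genericPoints (X : Type u) := by
      by_contra hng
      refine CurvePoints.genericPoint_not_isClosed h1 ?_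
      have hc := (isClosed_singleton_of_notMem_genericPoints hd hng).preimage i.continuous
      rwa [← Set.image_singleton, i.isClosedEmbedding.injective.preimage_image] at hc
    have hC : Set.range i ∈ irreducibleComponents (X : Type u) := QCoh.closure_singleton_eq_range i ▸ hgen
    have hpos := h _ hC ((homeomorph_range_dim i rfl).symm.trans h1)
    rw [hrad _ hC] at hpos
    let T' : Closeds X := ⟨Set.range i, isClosed_of_mem_irreducibleComponents _ hC⟩
    let j := (Scheme.IdealSheafData.vanishingIdeal T').subschemeι
    haveI := isIntegral_vanishingIdeal T' hC.1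
    have hjA := (deg_pos_iff_isAmple_pullback k j
      ((homeomorph_range_dim j (hrange T')).trans ((homeomorph_range_dim i rfl).symm.trans h1)) hL).1 hpos
    have hker : j.ker = i.ker := by
      rw [Scheme.IdealSheafData.ker_subschemeι, SchImage.ker_eq_vanishingIdeal i]
      exact congrArg _ (Closeds.ext (i.isClosedEmbedding.isClosed_range.closure_eq).symm)
    haveI := IsClosedImmersion.isIso_lift j i hker
    have hA := Ample.isAmple_pullback_of_isAffineHom (IsClosedImmersion.lift j i hker.le) hjA
    rw [Ample.isAmple_pullback_comp_iff, IsClosedImmersion.lift_fac] at hA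
    obtain ⟨d⟩ := c.nonempty_pullback_iso i e
    exact (isAmple_iff_deg_pos k h1 ((c.comap i).isInvertible_twist 1)).1 ((Ample.isAmple_iff_of_iso d).1 hA)

end GrothLib.Euler
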