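import Groth.Agent.Lib.Euler.VB

/-!
# Slope inequalities
-/

set_option linter.style.haveILetI false

universe u

open CategoryTheory CategoryTheory.Limits AlgebraicGeometry TopologicalSpace

namespace GrothLib.Euler

variable (k : Type u) [Field k] {X : Scheme.{u}} [X.Over (Spec (CommRingCat.of k))]
  [IsProper (X ↘ Spec (CommRingCat.of k))]

/-- The slopes of subbundles of `E` of positive rank are at most `d / r`. -/
def SubLe (E : X.Modules) (d : ℤ) (r : ℕ) : Prop :=
  ∀ (G : X.Modules) (r' : ℕ) (i : G ⟶ E), Mono i → 0 < r' → FlatMod.IsFinLocFreeOfRank r' G →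
    Curv2.deg k X G r' * (r : ℤ) ≤ d * (r' : ℤ)

/-- The slopes of proper subbundles of `E` of positive rank are less than `d / r`. -/
def SubLt (E : X.Modules) (d : ℤ) (r : ℕ) : Prop :=
  ∀ (G : X.Modules) (r' : ℕ) (i : G ⟶ E), Mono i → 0 < r' → r' < r → FlatMod.IsFinLocFreeOfRank r' G →
    Curv2.deg k X G r' * (r : ℤ) < d * (r' : ℤ)

variable [IsIntegral X]

variable {k}

theorem SubLe.degree {E : X.Modules} {d : ℤ} {r : ℕ} (h : SubLe k E d r) {G : X.Modules} {r' : ℕ}
    (i : G ⟶ E) (hi : Mono i) (hG : FlatMod.IsFinLocFreeOfRank r' G) : degree k G * (r : ℤ) ≤ d * (r' : ℤ) := by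
  rcases Nat.eq_zero_or_pos r' with rfl | hpos
  · rw [degree_of_isZero k (isZero_of_rank_zero hG)]; simp
  · rw [← deg_eq_degree k hG]; exact h G r' i hi hpos hG

variable (k)

/-- A stable bundle is semistable. -/
theorem subLe_of_subLt (hd : topologicalKrullDim X ≤ 1) {E : X.Modules} {r : ℕ}
    (hE : FlatMod.IsFinLocFreeOfRank r E) (h : SubLt k E (Curv2.deg k X E r) r) :
    SubLe k E (Curv2.deg k X E r) r := by
  intro G r' i hi hr' hG
  have hle : r' ≤ r := by
    have := grank_le_of_mono i (isCoh_of_isFinLocFree (FinCov.isFinLocFree_of_rank hE))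
    rwa [grank_of_locFree hG, grank_of_locFree hE] at this
  rcases hle.lt_or_eq with hlt | rfl
  · exact (h G r' i hi hr' hlt hG).le
  · have := (degree_le_of_mono k hd i (isCoh_of_isFinLocFree (FinCov.isFinLocFree_of_rank hG))
      (isCoh_of_isFinLocFree (FinCov.isFinLocFree_of_rank hE))
      (by rw [grank_of_locFree hG, grank_of_locFree hE])).1
    rw [deg_eq_degree k hG, deg_eq_degree k hE]
    gcongr

theorem hom_eq_zero_of_slope_lt (hpid : ∀ x : X, IsPrincipalIdealRing (X.presheaf.stalk x))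
    {E F : X.Modules} {r : ℕ} (hE : FlatMod.IsFinLocFreeOfRank r E) (hF : FlatMod.IsFinLocFree F)
    (hEss : SubLe k E (Curv2.deg k X E r) r)
    (hmax : ∀ (G : X.Modules) (r' : ℕ) (i : G ⟶ F), Mono i → 0 < r' → FlatMod.IsFinLocFreeOfRank r' G →
      Curv2.deg k X G r' * (r : ℤ) < Curv2.deg k X E r * (r' : ℤ))
    (f : E ⟶ F) : f = 0 := by
  obtain ⟨K, I, a, p, j, rK, rI, ha, hp, hj, -, -, hK, hI, hrk, hdeg, h0, -⟩ :=
    exists_image_data k hpid (FinCov.isFinLocFree_of_rank hE) hF f
  refine h0 (by_contra fun hne => ?_)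
  have h1 := hmax I rI j hj (Nat.pos_of_ne_zero hne) hI
  have h2 := hEss.degree a ha hK
  rw [deg_eq_degree k hI, deg_eq_degree k hE] at h1
  rw [deg_eq_degree k hE] at h2
  rw [grank_of_locFree hE] at hrk
  rw [hdeg] at h1 h2
  subst hrk
  push_cast at h1 h2
  nlinarith

/-- Source stable, or target stable: a nonzero map between semistable bundles of the same slope
is injective, resp. of full rank. -/
theorem hom_rank_data (hpid : ∀ x : X, IsPrincipalIdealRing (X.presheaf.stalk x))
    {E F : X.Modules} {r s : ℕ} (hs : 0 < s) (hr : 0 < r)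
    (hE : FlatMod.IsFinLocFreeOfRank r E) (hF : FlatMod.IsFinLocFreeOfRank s F)
    (hEss : SubLe k E (Curv2.deg k X E r) r) (hFss : SubLe k F (Curv2.deg k X F s) s)
    (hμ : Curv2.deg k X E r * (s : ℤ) = Curv2.deg k X F s * (r : ℤ)) (f : E ⟶ F) (hf : f ≠ 0) :
    (SubLt k E (Curv2.deg k X E r) r → Mono f) ∧
      (SubLt k F (Curv2.deg k X F s) s → s ≤ r ∧ (r = s → Mono f)) := by
  obtain ⟨K, I, a, p, j, rK, rI, ha, hp, hj, -, -, hK, hI, hrk, hdeg, h0, hmono⟩ :=
    exists_image_data k hpid (FinCov.isFinLocFree_of_rank hE) (FinCov.isFinLocFree_of_rank hF) f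
  have hI0 : 0 < rI := Nat.pos_of_ne_zero fun h => hf (h0 h)
  rw [grank_of_locFree hE] at hrk
  have hK1 := hEss.degree a ha hK
  have hI1 := hFss.degree j hj hI
  rw [← deg_eq_degree k hE] at hdeg
  have hrZ : (r : ℤ) = rK + rI := by exact_mod_cast hrk
  have hs' : (0 : ℤ) < s := by exact_mod_cast hs
  have hr' : (0 : ℤ) < r := by exact_mod_cast hr
  have e1 : degree k I * r = Curv2.deg k X E r * r - degree k K * r := by rw [hdeg]; ring
  have e2 : Curv2.deg k X E r * r = Curv2.deg k X E r * rK + Curv2.deg k X E r * rI := by rw [hrZ]; ring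
  refine ⟨fun hst => hmono (by_contra fun hne => ?_), fun hst => ?_⟩
  · have hK2 := hst K rK a ha (Nat.pos_of_ne_zero hne) (by omega) hK
    rw [deg_eq_degree k hK] at hK2
    have h3 : Curv2.deg k X E r * rI < degree k I * r := by linarith
    have h4 : degree k I * r * s ≤ Curv2.deg k X E r * rI * s := by
      calc degree k I * r * s = degree k I * s * r := by ring
        _ ≤ Curv2.deg k X F s * rI * r := by gcongr
        _ = Curv2.deg k X E r * rI * s := by rw [mul_right_comm, ← hμ]; ring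
    nlinarith
  · have hge : Curv2.deg k X E r * rI ≤ degree k I * r := by linarith
    have hnlt : ¬ rI < s := fun hlt => by
      have hI2 := hst I rI j hj hI0 hlt hI
      rw [deg_eq_degree k hI] at hI2
      have : degree k I * r * s < Curv2.deg k X E r * rI * s := by
        calc degree k I * r * s = degree k I * s * r := by ring
          _ < Curv2.deg k X F s * rI * r := by gcongr
          _ = Curv2.deg k X E r * rI * s := by rw [mul_right_comm, ← hμ]; ring
      nlinarith
    exact ⟨by omega, fun e => hmono (by omega)⟩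

/-- A nonzero map of semistable bundles of equal rank and degree, one of them stable, is invertible. -/
theorem isIso_of_ne_zero_hom (hd : topologicalKrullDim X ≤ 1)
    (hpid : ∀ x : X, IsPrincipalIdealRing (X.presheaf.stalk x)) {E F : X.Modules} {r : ℕ} (hr : 0 < r)
    (hE : FlatMod.IsFinLocFreeOfRank r E) (hF : FlatMod.IsFinLocFreeOfRank r F)
    (hdeg : Curv2.deg k X E r = Curv2.deg k X F r)
    (hEss : SubLe k E (Curv2.deg k X E r) r) (hFss : SubLe k F (Curv2.deg k X F r) r)
    (hst : SubLt k E (Curv2.deg k X E r) r ∨ SubLt k F (Curv2.deg k X F r) r)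
    (f : E ⟶ F) (hf : f ≠ 0) : IsIso f := by
  obtain ⟨h1, h2⟩ := hom_rank_data k hpid hr hr hE hF hEss hFss (by rw [hdeg]) f hf
  haveI : Mono f := hst.elim h1 fun h => (h2 h).2 rfl
  refine (degree_le_of_mono k hd f (isCoh_of_isFinLocFree (FinCov.isFinLocFree_of_rank hE))
    (isCoh_of_isFinLocFree (FinCov.isFinLocFree_of_rank hF))
    (by rw [grank_of_locFree hE, grank_of_locFree hF])).2 ?_
  rw [← deg_eq_degree k hE, ← deg_eq_degree k hF, hdeg]

theorem isIso_of_ne_zero_endo (hd : topologicalKrullDim X ≤ 1)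
    (hpid : ∀ x : X, IsPrincipalIdealRing (X.presheaf.stalk x)) {E : X.Modules} {r : ℕ} (hr : 0 < r)
    (hE : FlatMod.IsFinLocFreeOfRank r E) (hst : SubLt k E (Curv2.deg k X E r) r)
    (f : E ⟶ E) (hf : f ≠ 0) : IsIso f :=
  isIso_of_ne_zero_hom k hd hpid hr hE hE rfl (subLe_of_subLt k hd hE hst) (subLe_of_subLt k hd hE hst)
    (Or.inl hst) f hf

/-- Maximal slopes of a direct sum. -/
theorem slope_biprod_le (hpid : ∀ x : X, IsPrincipalIdealRing (X.presheaf.stalk x)) {E₁ E₂ F : X.Modules}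
    (hE₂ : FlatMod.IsFinLocFree E₂) (m : ℚ)
    (h₁ : ∀ (G : X.Modules) (r' : ℕ) (i : G ⟶ E₁), Mono i → 0 < r' → FlatMod.IsFinLocFreeOfRank r' G →
      (Curv2.deg k X G r' : ℚ) / r' ≤ m)
    (h₂ : ∀ (G : X.Modules) (r' : ℕ) (i : G ⟶ E₂), Mono i → 0 < r' → FlatMod.IsFinLocFreeOfRank r' G →
      (Curv2.deg k X G r' : ℚ) / r' ≤ m)
    {r' : ℕ} (i : F ⟶ E₁ ⊞ E₂) [Mono i] (hr' : 0 < r') (hF : FlatMod.IsFinLocFreeOfRank r' F) :
    (Curv2.deg k X F r' : ℚ) / r' ≤ m := by
  obtain ⟨K, I, a, p, j, rK, rI, ha, hp, hj, -, hak, hK, hI, hrk, hdeg, -, -⟩ :=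
    exists_image_data k hpid (FinCov.isFinLocFree_of_rank hF) hE₂ (i ≫ biprod.snd)
  haveI := ha
  have hK' : Mono (a ≫ i ≫ biprod.fst) := by
    refine Preadditive.mono_of_cancel_zero _ fun g hg => ?_
    have h2 : (g ≫ a) ≫ i = 0 := by
      refine biprod.hom_ext _ _ ?_ ?_
      · simpa [Category.assoc] using hg
      · rw [zero_comp, Category.assoc, Category.assoc, hak, comp_zero]
    rw [← cancel_mono a, zero_comp, ← cancel_mono i, zero_comp, h2]
  have key : ∀ (G : X.Modules) (n : ℕ), FlatMod.IsFinLocFreeOfRank n G →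
      (0 < n → (Curv2.deg k X G n : ℚ) / n ≤ m) → (degree k G : ℚ) ≤ m * n := by
    intro G n hG h
    rcases Nat.eq_zero_or_pos n with rfl | hn
    · rw [degree_of_isZero k (isZero_of_rank_zero hG)]; simp
    · rw [← deg_eq_degree k hG]
      exact (div_le_iff₀ (by exact_mod_cast hn)).1 (h hn)
  have e1 := key K rK hK fun h => h₁ K rK _ hK' h hK
  have e2 := key I rI hI fun h => h₂ I rI j hj h hI
  rw [div_le_iff₀ (by exact_mod_cast hr'), deg_eq_degree k hF, hdeg]
  rw [grank_of_locFree hF] at hrk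
  subst hrk
  push_cast
  linarith

theorem finrank_H0_structure_pos :
    0 < Module.finrank k (Coh.HH X (Coh.structureModule X) 0) := by
  haveI := finiteDimensional_HH k (isCoh_of_isInvertible (isInvertible_structure (X := X))) 0
  haveI : Nontrivial (Coh.HH X (Coh.structureModule X) 0) :=
    haveI : Nontrivial Γ(Coh.structureModule X, ⊤) :=
      inferInstanceAs (Nontrivial Γ(X, ⊤))
    (ProjCoh.H0top (Coh.structureModule X)).toEquiv.nontrivial
  exact Module.finrank_pos

theorem deg_le_of_sub (hd : topologicalKrullDim X ≤ 1) {F E : X.Modules} {r' : ℕ} (i : F ⟶ E) [Mono i]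
    (hF : FlatMod.IsFinLocFreeOfRank r' F) (hE : Coh.IsCoh E) :
    Curv2.deg k X F r' ≤ (Module.finrank k (Coh.HH X E 0) : ℤ) + r' * ((Curv2.genus k X : ℤ) - 1) := by
  have hFc := isCoh_of_isFinLocFree (FinCov.isFinLocFree_of_rank hF)
  haveI := hFc.1
  have h1 := euler_le_finrank_H0 k hd F
  have h2 : (Module.finrank k (Coh.HH X F 0) : ℤ) ≤ Module.finrank k (Coh.HH X E 0) := by
    exact_mod_cast finrank_H0_le_of_mono k i hE
  have h3 : (1 : ℤ) ≤ Module.finrank k (Coh.HH X (Coh.structureModule X) 0) := by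
    exact_mod_cast finrank_H0_structure_pos k
  rw [Curv2.deg, euler_structure k hd]
  have : (r' : ℤ) * (1 - Curv2.genus k X) ≤
      r' * ((Module.finrank k (Coh.HH X (Coh.structureModule X) 0) : ℤ) - Curv2.genus k X) :=
    mul_le_mul_of_nonneg_left (by omega) (by positivity)
  linarith

end GrothLib.Euler
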