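import Groth.Agent.Lib.Cohom.Compare
import Groth.Agent.Lib.Cohom.LinearLES
import Groth.Agent.Lib.Cohom.Vanishing
import Groth.Agent.Lib.QCoh.SupportExact
import Groth.Agent.Lib.QCoh.Abelian
import Groth.Agent.Lib.SheafCoh.Top
import Mathlib.AlgebraicGeometry.Limits
import Mathlib.Topology.Sheaves.Flasque
import Mathlib.Topology.Sheaves.SheafCondition.UniqueGluing

/-!
# Vanishing: finite support, and curves
-/

set_option linter.style.haveILetI false

universe u

open CategoryTheory CategoryTheory.Limits Opposite AlgebraicGeometry TopologicalSpace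

namespace GrothLib.Euler

open GrothLib.QCoh (stalkLin)

variable {X : Scheme.{u}}

/-- A module supported on finitely many closed points is flasque. -/
theorem isFlasque_of_finite_support (M : X.Modules) (hfin : (CohB1.support M).Finite)
    (hcl : ∀ x ∈ CohB1.support M, IsClosed ({x} : Set X)) :
    TopCat.Sheaf.IsFlasque (X := X.carrier) (Coh.toAb M) := by
  refine ⟨fun {U V} i => (AddCommGrpCat.epi_iff_surjective _).2 fun s => ?_⟩
  obtain ⟨U⟩ := U
  obtain ⟨V⟩ := V
  have hVU : V ≤ U := i.unop.le
  have hTc : IsClosed (CohB1.support M ∩ (V : Set X)) := by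
    rw [← Set.biUnion_of_singleton (CohB1.support M ∩ (V : Set X))]
    exact (hfin.inter_of_left _).isClosed_biUnion fun x hx => hcl x hx.1
  let W : X.Opens := U ⊓ ⟨(CohB1.support M ∩ (V : Set X))ᶜ, hTc.isOpen_compl⟩
  let op' : ULift.{u} Bool → X.Opens := fun b => if b.down then V else W
  let sf : ∀ b : ULift.{u} Bool, Γ(M, op' b) := fun
    | ⟨true⟩ => s
    | ⟨false⟩ => 0
  have hzero : ∀ (T : X.Opens) (hT : T ≤ V), T ≤ W → M.presheaf.map (homOfLE hT).op (show Γ(M, V) from s) = 0 := by
    intro T hT hTW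
    refine QCoh.section_eq_zero_of_germ M _ fun x hx => ?_
    have : Subsingleton (M.presheaf.stalk x) :=
      QCoh.stalk_subsingleton_of_notMem fun h => (hTW hx).2 ⟨h, hT hx⟩
    exact Subsingleton.elim _ _
  have hcompat : TopCat.Presheaf.IsCompatible M.presheaf op' sf := by
    rintro ⟨_ | _⟩ ⟨_ | _⟩
    · rfl
    · exact (map_zero _).trans (hzero _ inf_le_right inf_le_left).symm
    · exact (hzero _ inf_le_left inf_le_right).trans (map_zero _).symm
    · rfl
  obtain ⟨t, ht, -⟩ := TopCat.Sheaf.existsUnique_gluing' ⟨M.presheaf, M.isSheaf⟩ op' U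
    (fun b => homOfLE (match b with
      | ⟨true⟩ => hVU
      | ⟨false⟩ => inf_le_left))
    (fun x hx => Opens.mem_iSup.2 (by
      by_cases hxV : x ∈ V
      · exact ⟨⟨true⟩, hxV⟩
      · exact ⟨⟨false⟩, hx, fun h => hxV h.2⟩)) sf hcompat
  exact ⟨t, ht ⟨true⟩⟩

/-- A module supported on finitely many closed points has no higher cohomology. -/
theorem subsingleton_HH_of_finite_support (M : X.Modules) (hfin : (CohB1.support M).Finite)
    (hcl : ∀ x ∈ CohB1.support M, IsClosed ({x} : Set X)) (n : ℕ) (hn : 1 ≤ n) :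
    Subsingleton (Coh.HH X M n) := by
  obtain ⟨m, rfl⟩ := Nat.exists_eq_succ_of_ne_zero (by omega : n ≠ 0)
  have := isFlasque_of_finite_support M hfin hcl
  exact SheafCoh.flasque_H_subsingleton (X := X.carrier) (Coh.toAb M) m

theorem stalkLin_bijective_of_app_bijective {M N : X.Modules} (φ : M ⟶ N) {O : X.Opens} {x : X}
    (hx : x ∈ O) (h : ∀ T ≤ O, Function.Bijective (φ.app T)) : Function.Bijective (stalkLin φ x) := by
  constructor
  · refine (injective_iff_map_eq_zero _).2 fun e he => ?_
    obtain ⟨U, hxU, s, rfl⟩ := TopCat.Presheaf.exists_germ_eq M.presheaf e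
    rw [QCoh.stalkLin_germ] at he
    obtain ⟨W, hxW, i₁, i₂, hW⟩ := TopCat.Presheaf.germ_eq N.presheaf x hxU hxU (φ.app U s) 0
      (he.trans (map_zero _).symm)
    rw [map_zero] at hW
    have h0 : M.presheaf.map (homOfLE (inf_le_right.trans i₁.le : O ⊓ W ≤ U)).op s = 0 := by
      apply (h _ inf_le_left).1
      rw [map_zero]
      have hn := PresheafOfModules.naturality_apply φ.val (homOfLE (inf_le_right.trans i₁.le : O ⊓ W ≤ U)).op s
      refine hn.trans ?_
      have := congrArg (N.presheaf.map (homOfLE (inf_le_right : O ⊓ W ≤ W)).op) hW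
      rw [map_zero, Cohom.map_map_apply] at this
      exact this
    rw [← QCoh.germ_map M (homOfLE (inf_le_right.trans i₁.le : O ⊓ W ≤ U)) ⟨hx, hxW⟩, h0, map_zero]
  · intro e
    obtain ⟨U, hxU, t, rfl⟩ := TopCat.Presheaf.exists_germ_eq N.presheaf e
    obtain ⟨s, hs⟩ := (h (O ⊓ U) inf_le_left).2 (N.presheaf.map (homOfLE inf_le_right).op t)
    exact ⟨M.presheaf.germ (O ⊓ U) x ⟨hx, hxU⟩ s, by rw [QCoh.stalkLin_germ, hs, QCoh.germ_map]⟩

theorem unit_app_bijective (M : X.Modules) (U : X.Opens) {T : X.Opens} (hT : T ≤ U) :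
    Function.Bijective (((Scheme.Modules.restrictAdjunction U.ι).unit.app M).app T) := by
  rw [Scheme.Modules.restrictAdjunction_unit_app_app]
  have key : ∀ (T' : X.Opens) (h : T' ≤ T), T' = T → Function.Bijective (M.presheaf.map (homOfLE h).op) := by
    rintro _ h rfl
    exact ⟨fun a b hab => by simpa [Cohom.map_self_apply] using hab, fun a => ⟨a, Cohom.map_self_apply ..⟩⟩
  exact key _ _ (by rw [Scheme.Hom.image_preimage_eq_opensRange_inf, Scheme.Opens.opensRange_ι, inf_eq_right.2 hT])

theorem not_lt_lt (hd : topologicalKrullDim X ≤ 1) {x y z : X} (h₁ : x < y) (h₂ : y < z) : False := by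
  let c : LTSeries X := ((RelSeries.singleton _ x).snoc y h₁).snoc z (by simpa using h₂)
  have h := (Order.LTSeries.length_le_krullDim c).trans ((Order.krullDim_eq_of_orderIso
    (irreducibleSetEquivPoints (α := ↥X))).symm.le.trans hd)
  simp [c] at h

/-- In dimension at most one, a non-generic point is closed. -/
theorem isClosed_singleton_of_notMem_genericPoints (hd : topologicalKrullDim X ≤ 1) {x : X}
    (hx : x ∉ genericPoints (X : Type u)) : IsClosed ({x} : Set X) := by
  refine isClosed_of_closure_subset fun z hz => ?_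
  by_contra hne
  have hzx : z ≤ x := specializes_iff_mem_closure.2 hz
  have hzx' : z < x := lt_iff_le_not_ge.2 ⟨hzx, fun h => hne (Specializes.antisymm hzx h).eq.symm⟩
  obtain ⟨Z, hZ, hxZ⟩ := exists_mem_irreducibleComponents_subset_of_isIrreducible ({x} : Set X)
    isIrreducible_singleton
  obtain ⟨η, hη⟩ := QuasiSober.sober hZ.1 (isClosed_of_mem_irreducibleComponents Z hZ)
  have hηg : η ∈ genericPoints (X : Type u) := by
    show closure {η} ∈ irreducibleComponents (X : Type u)
    rw [hη.def]; exact hZ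
  have hxη : x ≤ η := hη.specializes (hxZ rfl)
  exact not_lt_lt hd hzx' (lt_iff_le_not_ge.2 ⟨hxη, fun h => hx ((Specializes.antisymm hxη h).eq ▸ hηg)⟩)

/-- An affine open containing all generic points. -/
theorem exists_affine_containing_genericPoints [NoetherianSpace X] :
    ∃ U : X.Opens, IsAffineOpen U ∧ genericPoints (X : Type u) ⊆ U := by
  classical
  have hgfin : (genericPoints (X : Type u)).Finite :=
    genericPoints.finite NoetherianSpace.finite_irreducibleComponents
  have hcover : ∀ y : X, ∃ η ∈ genericPoints (X : Type u), y ∈ closure ({η} : Set X) := by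
    intro y
    have hy : y ∈ closure (genericPoints (X : Type u)) := by rw [genericPoints.closure]; trivial
    rw [← Set.biUnion_of_singleton (genericPoints (X : Type u)), hgfin.closure_biUnion] at hy
    obtain ⟨η, hη, hy⟩ := Set.mem_iUnion₂.mp hy
    exact ⟨η, hη, hy⟩
  haveI : Finite (genericPoints (X : Type u)) := hgfin.to_subtype
  let Ω : genericPoints (X : Type u) → X.Opens := fun η =>
    ⟨(⋃ η' ∈ (genericPoints (X : Type u) \ {η.1}), closure ({η'} : Set X))ᶜ,
      ((hgfin.subset Set.diff_subset).isClosed_biUnion fun _ _ => isClosed_closure).isOpen_compl⟩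
  have hΩ : ∀ η, η.1 ∈ Ω η := by
    intro η hmem
    obtain ⟨η', ⟨hη', hne⟩, h⟩ := Set.mem_iUnion₂.mp hmem
    have hle : closure ({η.1} : Set X) ≤ closure {η'} :=
      closure_minimal (Set.singleton_subset_iff.mpr h) isClosed_closure
    have : closure ({η.1} : Set X) = closure {η'} :=
      le_antisymm hle (η.2.2 isIrreducible_singleton.closure hle)
    exact hne (Inseparable.eq ((inseparable_iff_closure_eq).mpr this)).symm
  choose W hW hηW hWΩ using fun η => exists_isAffineOpen_mem_and_subset (x := η.1) (U := Ω η) (hΩ η)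
  refine ⟨⨆ η, W η, IsAffineOpen.iSup_of_disjoint hW fun η η' hne => ?_,
    fun η hη => Opens.mem_iSup.2 ⟨⟨η, hη⟩, hηW _⟩⟩
  show Disjoint (W η) (W η')
  rw [disjoint_iff]
  ext y
  refine ⟨fun hy => ?_, fun h => h.elim⟩
  obtain ⟨ζ, hζ, hyζ⟩ := hcover y
  have h1 : ∀ (η : genericPoints (X : Type u)), y ∈ W η → ζ = η.1 := fun η hy => by
    by_contra h
    exact hWΩ η hy (Set.mem_iUnion₂.mpr ⟨ζ, ⟨hζ, h⟩, hyζ⟩)
  exact absurd (Subtype.ext ((h1 η hy.1).symm.trans (h1 η' hy.2))) hne

theorem finite_of_closed_points [NoetherianSpace X] {Z : Set X} (hZ : IsClosed Z)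
    (h : ∀ x ∈ Z, IsClosed ({x} : Set X)) : Z.Finite := by
  obtain ⟨S, hS, hSirr, hcl, hcov⟩ := NoetherianSpace.exists_finite_set_isClosed_irreducible hZ
  rw [hcov]
  refine hS.sUnion fun C hC => ?_
  obtain ⟨c, hc⟩ := QuasiSober.sober (hcl C hC) (hSirr C hC)
  rw [← hc.def, (h c (hcov ▸ Set.subset_sUnion_of_mem hC hc.mem)).closure_eq]
  exact Set.finite_singleton c

theorem subsingleton_of_exact {A B C : Type u} [AddCommGroup A] [AddCommGroup B] [AddCommGroup C]
    {R : Type u} [Ring R] [Module R A] [Module R B] [Module R C] {f : A →ₗ[R] B} {g : B →ₗ[R] C}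
    (h : Function.Exact f g) [Subsingleton A] [Subsingleton C] : Subsingleton B :=
  subsingleton_of_forall_eq 0 fun x => by
    obtain ⟨a, rfl⟩ := (h x).1 (Subsingleton.elim _ _)
    rw [Subsingleton.elim a 0, map_zero]

section vanish

variable {A : Type u} [CommRing A] [X.Over (Spec (CommRingCat.of A))]
  [NoetherianSpace X] [IsSeparated (X ↘ Spec (CommRingCat.of A))]

include A in
/-- Cohomology of quasi-coherent modules vanishes above degree one in dimension at most one. -/
theorem subsingleton_HH_of_dim_le_one (hd : topologicalKrullDim X ≤ 1) (M : X.Modules)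
    [M.IsQuasicoherent] (n : ℕ) (hn : 2 ≤ n) : Subsingleton (Coh.HH X M n) := by
  obtain ⟨m, rfl⟩ := Nat.exists_eq_succ_of_ne_zero (by omega : n ≠ 0)
  obtain ⟨U, hU, hUg⟩ := exists_affine_containing_genericPoints (X := X)
  have : X.IsSeparated := by
    constructor
    rw [← terminal.comp_from (X ↘ Spec (CommRingCat.of A))]
    infer_instance
  haveI : IsAffine (U : Scheme.{u}) := hU
  haveI : IsAffineHom U.ι :=
    MorphismProperty.of_postcomp (W := @IsAffineHom) (W' := @IsSeparated) U.ι (terminal.from X)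
      ‹X.IsSeparated›.1 inferInstance
  haveI : (M.restrict U.ι).IsQuasicoherent := inferInstance
  let J := (Scheme.Modules.pushforward U.ι).obj (M.restrict U.ι)
  haveI : J.IsQuasicoherent := QCoh.isQuasicoherent_pushforward U.ι _
  let η : M ⟶ J := (Scheme.Modules.restrictAdjunction U.ι).unit.app M
  have hclosed : ∀ x : X, x ∉ U → IsClosed ({x} : Set X) := fun x hx =>
    isClosed_singleton_of_notMem_genericPoints hd fun h => hx (hUg h)
  have hcfin : (U : Set X)ᶜ.Finite := finite_of_closed_points U.isOpen.isClosed_compl hclosed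
  have hbij : ∀ x ∈ U, Function.Bijective (stalkLin η x) := fun x hx =>
    stalkLin_bijective_of_app_bijective η hx fun T hT => unit_app_bijective M U hT
  have hvan : ∀ (N : X.Modules), CohB1.support N ⊆ (U : Set X)ᶜ → ∀ i, 1 ≤ i → Subsingleton (Coh.HH X N i) :=
    fun N hN i hi => subsingleton_HH_of_finite_support N (hcfin.subset hN) (fun x hx => hclosed x (hN hx)) i hi
  have hJ : ∀ i, 1 ≤ i → Subsingleton (Coh.HH X J i) := fun i hi => by
    obtain ⟨j, rfl⟩ := Nat.exists_eq_succ_of_ne_zero (by omega : i ≠ 0)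
    obtain ⟨e⟩ := Cohom.nonempty_HH_equiv_pushforward U.ι (M.restrict U.ι) (j + 1)
    have := ((Cohom.vanishFrom_affine (M.restrict U.ι) (isAffineOpen_top _)).subsingleton_HH (n := j + 1) (by omega))
    exact e.symm.toEquiv.subsingleton
  let T₁ := ShortComplex.mk (kernel.ι η) (Abelian.factorThruImage η)
    (by rw [← cancel_mono (Abelian.image.ι η), Category.assoc, Abelian.image.fac, kernel.condition, zero_comp])
  let T₂ := ShortComplex.mk (Abelian.image.ι η) (cokernel.π η) (kernel.condition (cokernel.π η))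
  have hT₂ : T₂.ShortExact :=
    { exact := ShortComplex.exact_of_f_is_kernel _ (kernelIsKernel (cokernel.π η)) }
  have hT₁ : T₁.ShortExact :=
    { exact := ShortComplex.exact_of_f_is_kernel _ (KernelFork.IsLimit.ofι' _ _ fun k hk => ⟨kernel.lift η k
        (by rw [← Abelian.image.fac η, ← Category.assoc, hk, zero_comp]), kernel.lift_ι _ _ _⟩) }
  have hK := hvan (kernel η) fun x hx hxU => QCoh.notMem_support_kernel_of_injective η (hbij x hxU).1 hx
  have hC := hvan (cokernel η) fun x hx hxU => QCoh.notMem_support_cokernel_of_surjective η (hbij x hxU).2 hx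
  have hT₂1 : Subsingleton (Coh.HH X T₂.X₁ (m + 1)) := by
    have : Subsingleton (Coh.HH X T₂.X₃ m) := hC m (by omega)
    have : Subsingleton (Coh.HH X T₂.X₂ (m + 1)) := hJ (m + 1) (by omega)
    exact subsingleton_of_exact (Cohom.exact₁ (A := A) hT₂ m)
  have : Subsingleton (Coh.HH X T₁.X₁ (m + 1)) := hK (m + 1) (by omega)
  have : Subsingleton (Coh.HH X T₁.X₃ (m + 1)) := hT₂1
  exact subsingleton_of_exact (Cohom.exact₂ (A := A) hT₁ (m + 1))

end vanish

end GrothLib.Euler
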