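import Groth.Agent.Lib.Ample.ModTwistMap
import Groth.Agent.Lib.Euler.TensorSupport
import Groth.Agent.Lib.Euler.Vanish
import Groth.Agent.Lib.Euler.Basic
import Groth.Agent.Lib.ProjCoh.Generic

/-!
# Twisting by a section with affine locus and finite zero set kills first cohomology
-/

set_option linter.style.haveILetI false
set_option backward.isDefEq.respectTransparency false

universe u

open CategoryTheory CategoryTheory.Limits AlgebraicGeometry TopologicalSpace Opposite Abelian
open GrothLib.InvExt (mres)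
open GrothLib.QCoh (stalkLin)
open GrothLib.Ample (Cocycle res app_mres mres_smul')

noncomputable section

namespace GrothLib.Euler

variable {X : Scheme.{u}} {A : Type u} [CommRing A] [X.Over (Spec (CommRingCat.of A))]

/-- The connecting map is natural. -/
theorem hhDelta_naturality {S T : ShortComplex X.Modules} (hS : S.ShortExact) (hT : T.ShortExact)
    (φ : S ⟶ T) (n : ℕ) (x : Coh.HH X S.X₃ n) :
    Cohom.hhMap A φ.τ₁ (n + 1) (Cohom.hhDelta A hS n x) = Cohom.hhDelta A hT n (Cohom.hhMap A φ.τ₃ n x) := by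
  have key := (QCoh.toAbFun_map_shortExact S hS).extClass_naturality (QCoh.toAbFun_map_shortExact T hT)
    ((QCoh.toAbFun X).mapShortComplex.map φ)
  change ((show Ext.{u} _ (S.map (QCoh.toAbFun X)).X₃ n from x).comp
      (QCoh.toAbFun_map_shortExact S hS).extClass rfl).comp
      (Ext.mk₀ ((QCoh.toAbFun X).mapShortComplex.map φ).τ₁) (add_zero _) =
    ((show Ext.{u} _ (S.map (QCoh.toAbFun X)).X₃ n from x).comp
      (Ext.mk₀ ((QCoh.toAbFun X).mapShortComplex.map φ).τ₃) (add_zero n)).comp _ rfl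
  rw [Ext.comp_assoc_of_second_deg_zero, Ext.comp_assoc_of_third_deg_zero]
  exact congrArg (fun e => (show Ext.{u} _ (S.map (QCoh.toAbFun X)).X₃ n from x).comp e rfl) key

/-- The image sequence of a morphism. -/
abbrev imageSeq {M N : X.Modules} (η : M ⟶ N) : ShortComplex X.Modules :=
  ShortComplex.mk (Abelian.image.ι η) (cokernel.π η) (kernel.condition (cokernel.π η))

theorem imageSeq_shortExact {M N : X.Modules} (η : M ⟶ N) : (imageSeq η).ShortExact :=
  { exact := ShortComplex.exact_of_f_is_kernel _ (kernelIsKernel (cokernel.π η)) }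

/-- The kernel sequence of a morphism. -/
abbrev kernelSeq {M N : X.Modules} (η : M ⟶ N) : ShortComplex X.Modules :=
  ShortComplex.mk (kernel.ι η) (Abelian.factorThruImage η)
    (by rw [← cancel_mono (Abelian.image.ι η), Category.assoc, Abelian.image.fac, kernel.condition, zero_comp])

theorem kernelSeq_shortExact {M N : X.Modules} (η : M ⟶ N) : (kernelSeq η).ShortExact :=
  { exact := ShortComplex.exact_of_f_is_kernel _ (KernelFork.IsLimit.ofι' _ _ fun k hk => ⟨kernel.lift η k
      (by rw [← Abelian.image.fac η, ← Category.assoc, hk, zero_comp]), kernel.lift_ι _ _ _⟩) }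

variable (A) in
/-- A map with finitely supported kernel and cokernel is surjective on first cohomology. -/
theorem surjective_hhMap_one {M N : X.Modules} (η : M ⟶ N) {C : Set X} (hC : C.Finite)
    (hcl : ∀ x ∈ C, IsClosed ({x} : Set X)) (hbij : ∀ x ∉ C, Function.Bijective (stalkLin η x)) :
    Function.Surjective (Cohom.hhMap A η 1) := by
  have hK : CohB1.support (kernel η) ⊆ C := fun x hx => by
    by_contra hxC; exact QCoh.notMem_support_kernel_of_injective η (hbij x hxC).1 hx
  have hQ : CohB1.support (cokernel η) ⊆ C := fun x hx => by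
    by_contra hxC; exact QCoh.notMem_support_cokernel_of_surjective η (hbij x hxC).2 hx
  intro y
  have h2 : Subsingleton (Coh.HH X (imageSeq η).X₃ 1) :=
    subsingleton_HH_of_finite_support _ (hC.subset hQ) (fun x hx => hcl x (hQ hx)) 1 le_rfl
  obtain ⟨z, hz⟩ := (Cohom.exact₂ (A := A) (imageSeq_shortExact η) 1 y).1 (Subsingleton.elim _ _)
  have h1 : Subsingleton (Coh.HH X (kernelSeq η).X₁ 2) :=
    subsingleton_HH_of_finite_support _ (hC.subset hK) (fun x hx => hcl x (hK hx)) 2 one_le_two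
  obtain ⟨w, hw⟩ := (Cohom.exact₃ (A := A) (kernelSeq_shortExact η) 1 z).1 (Subsingleton.elim _ _)
  refine ⟨w, ?_⟩
  calc Cohom.hhMap A η 1 w = Cohom.hhMap A (Abelian.factorThruImage η ≫ Abelian.image.ι η) 1 w := by
        rw [Abelian.image.fac]
    _ = y := by rw [hhMap_comp]; exact (congrArg _ hw).trans hz

variable (c : Cocycle X) {k : ℕ} (a : c.sect k ⊤)

/-- A twisted section on the locus inside an affine piece times a power of `a` extends, for every large power. -/
theorem exists_mextend_piece {M : X.Modules} [M.IsQuasicoherent] {n : ℕ} {i : c.ι} {W : X.Opens}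
    (hW : IsAffineOpen W) (hWD : W ≤ c.D i) (β : c.msect M n (W ⊓ c.locus a)) :
    ∃ N₀, ∀ N, N₀ ≤ N → ∃ b : c.msect M (n + k * N) W,
      c.msectRes (inf_le_left : W ⊓ c.locus a ≤ W) b = c.mraise a β N := by
  let α : Γ(X, W) := res (le_inf le_top hWD) (a.1 i)
  have hα : c.locus a ⊓ W = X.basicOpen α := c.locus_inf_eq_basicOpen a hWD
  have h1 : X.basicOpen α ≤ (W ⊓ c.locus a) ⊓ c.D i :=
    le_inf (hα ▸ (inf_comm _ _).le) ((X.basicOpen_le α).trans hWD)
  have h2 : W ⊓ c.locus a ≤ X.basicOpen α := (inf_comm _ _).le.trans hα.le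
  obtain ⟨m, t, ht⟩ := (QCoh.smulLift_and_smulSep_of_isAffineOpen hW M α).1 (mres M h1 (β.1 i))
  change mres M (X.basicOpen_le α) t = res (X.basicOpen_le α) α ^ m • mres M h1 (β.1 i) at ht
  refine ⟨m, fun N hN => ⟨c.mbase (n + k * N) i hWD (α ^ (N - m) • t),
    c.msect_ext_of_le (inf_le_left.trans hWD) ?_⟩⟩
  have e := congrArg (mres M (inf_le_left.trans h2 : (W ⊓ c.locus a) ⊓ c.D i ≤ X.basicOpen α)) ht
  simp only [α, mres_smul', map_pow, InvExt.mres_mres, Ample.res_res] at e
  simp only [Cocycle.msectRes_apply, Cocycle.mbase_self, Cocycle.mraise_apply, InvExt.mres_mres, mres_smul', α,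
    map_pow, Ample.res_res, e, smul_smul, ← pow_add, Nat.sub_add_cancel hN, InvExt.mres_self]

variable (hU : IsAffineOpen (c.locus a)) (hfin : (c.locus a : Set X)ᶜ.Finite)
  (hcl : ∀ x, x ∉ c.locus a → IsClosed ({x} : Set X))

theorem bijective_stalk_mraiseHom (M : X.Modules) (n N : ℕ) {x : X} (hx : x ∈ c.locus a) :
    Function.Bijective (stalkLin (c.mraiseHom M a n N) x) :=
  stalkLin_bijective_of_app_bijective _ hx fun _ hT => c.bijective_mraise a N hT

variable (A) in
include hfin hcl in
theorem surjective_H1_mraise (M : X.Modules) (n N : ℕ) :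
    Function.Surjective (Cohom.hhMap A (c.mraiseHom M a n N) 1) :=
  surjective_hhMap_one A _ hfin (fun x hx => hcl x hx)
    fun _ hx => bijective_stalk_mraiseHom c a M n N (not_not.1 hx)

variable (A) in
include hU hfin hcl in
/-- A power of `a` kills a given first cohomology class. -/
theorem exists_kill_H1 [X.IsSeparated] [CompactSpace X] (M : X.Modules) [M.IsQuasicoherent] (n : ℕ)
    (ξ : Coh.HH X (c.modTwist M n) 1) :
    ∃ N₀, ∀ N, N₀ ≤ N → Cohom.hhMap A (c.mraiseHom M a n N) 1 ξ = 0 := by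
  classical
  let U := c.locus a
  let F : ℕ → X.Modules := fun m => c.modTwist M m
  have hF : ∀ m, (F m).IsQuasicoherent := fun m => c.isQuasicoherent_modTwist M m
  haveI : IsAffine (U : Scheme.{u}) := hU
  haveI : IsAffineHom U.ι :=
    MorphismProperty.of_postcomp (W := @IsAffineHom) (W' := @IsSeparated) U.ι (terminal.from X)
      ‹X.IsSeparated›.1 inferInstance
  let J : ℕ → X.Modules := fun m => (Scheme.Modules.pushforward U.ι).obj ((F m).restrict U.ι)
  let η : ∀ m, F m ⟶ J m := fun m => (Scheme.Modules.restrictAdjunction U.ι).unit.app (F m)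
  have hbij : ∀ m, ∀ x ∈ U, Function.Bijective (stalkLin (η m) x) := fun m x hx =>
    stalkLin_bijective_of_app_bijective (η m) hx fun T hT => unit_app_bijective (F m) U hT
  have hK : ∀ m, Subsingleton (Coh.HH X (kernelSeq (η m)).X₁ 1) := fun m => by
    have hsub : CohB1.support (kernel (η m)) ⊆ (U : Set X)ᶜ := fun x hx hxU =>
      QCoh.notMem_support_kernel_of_injective (η m) (hbij m x hxU).1 hx
    exact subsingleton_HH_of_finite_support _ (hfin.subset hsub) (fun x hx => hcl x (hsub hx)) 1 le_rfl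
  have hJ : Subsingleton (Coh.HH X (imageSeq (η n)).X₂ 1) := by
    haveI := hF n
    obtain ⟨e⟩ := Cohom.nonempty_HH_equiv_pushforward U.ι ((F n).restrict U.ι) 1
    have := ((Cohom.vanishFrom_affine ((F n).restrict U.ι) (isAffineOpen_top _)).subsingleton_HH (n := 1) le_rfl)
    exact e.symm.toEquiv.subsingleton
  obtain ⟨q, hq⟩ := (Cohom.exact₁ (A := A) (imageSeq_shortExact (η n)) 0
    (Cohom.hhMap A (Abelian.factorThruImage (η n)) 1 ξ)).1 (Subsingleton.elim _ _)
  let s : Γ(cokernel (η n), ⊤) := ProjCoh.H0top _ q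
  have hloc : ∀ z : X, ∃ (W : X.Opens) (i : c.ι) (t : Γ(J n, W)), z ∈ W ∧ IsAffineOpen W ∧ W ≤ c.D i ∧
      (cokernel.π (η n)).app W t = mres (cokernel (η n)) le_top s := by
    intro z
    obtain ⟨v, hv⟩ := QCoh.stalkLin_surjective (cokernel.π (η n)) z
      ((cokernel (η n)).presheaf.germ ⊤ z trivial s)
    obtain ⟨V, hV, t, rfl⟩ := TopCat.Presheaf.exists_germ_eq (J n).presheaf v
    rw [QCoh.stalkLin_germ] at hv
    obtain ⟨V', hV', i₁, i₂, heq⟩ := TopCat.Presheaf.germ_eq (cokernel (η n)).presheaf z (U := V) (V := ⊤)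
      hV trivial _ _ hv
    obtain ⟨i, hi⟩ := c.exists_mem z
    obtain ⟨W, hW, hzW, hWV⟩ := exists_isAffineOpen_mem_and_subset (x := z) (U := V' ⊓ c.D i) ⟨hV', hi⟩
    refine ⟨W, i, mres (J n) ((show W ≤ V' from fun y hy => (hWV hy).1).trans (leOfHom i₁)) t, hzW, hW,
      fun y hy => (hWV hy).2, ?_⟩
    rw [app_mres]
    have := congrArg (mres (cokernel (η n)) (show W ≤ V' from fun y hy => (hWV hy).1)) heq
    exact (InvExt.mres_mres (cokernel (η n)) (leOfHom i₁) _ _).symm.trans
      (this.trans (InvExt.mres_mres (cokernel (η n)) (leOfHom i₂) _ _))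
  choose W i t hzW hW hWD ht using hloc
  have himg : ∀ z, U.ι ''ᵁ U.ι ⁻¹ᵁ W z = W z ⊓ U := fun z => by
    rw [Scheme.Hom.image_preimage_eq_opensRange_inf, Scheme.Opens.opensRange_ι, inf_comm]
  let β : ∀ z, c.msect M n (W z ⊓ c.locus a) := fun z => c.msectRes (himg z).ge (t z)
  choose N₁ hN₁ using fun z => exists_mextend_piece c a (hW z) (hWD z) (β z)
  obtain ⟨S, hS⟩ := isCompact_univ.elim_finite_subcover (fun z => (W z : Set X)) (fun z => (W z).isOpen)
    fun z _ => Set.mem_iUnion.2 ⟨z, hzW z⟩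
  refine ⟨S.sup N₁, fun N hN => ?_⟩
  let μ : F n ⟶ F (n + k * N) := c.mraiseHom M a n N
  let μJ : J n ⟶ J (n + k * N) :=
    (Scheme.Modules.pushforward U.ι).map ((Scheme.Modules.restrictFunctor U.ι).map μ)
  have hcomm : η n ≫ μJ = μ ≫ η (n + k * N) :=
    ((Scheme.Modules.restrictAdjunction U.ι).unit.naturality μ).symm
  let μQ : cokernel (η n) ⟶ cokernel (η (n + k * N)) := cokernel.map (η n) (η (n + k * N)) μ μJ hcomm
  have hπ : cokernel.π (η n) ≫ μQ = μJ ≫ cokernel.π (η (n + k * N)) := cokernel.π_desc _ _ _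
  let μI : Abelian.image (η n) ⟶ Abelian.image (η (n + k * N)) :=
    kernel.map (cokernel.π (η n)) (cokernel.π (η (n + k * N))) μJ μQ hπ
  have hι : μI ≫ Abelian.image.ι (η (n + k * N)) = Abelian.image.ι (η n) ≫ μJ := kernel.lift_ι _ _ _
  have hfac : μ ≫ Abelian.factorThruImage (η (n + k * N)) = Abelian.factorThruImage (η n) ≫ μI := by
    rw [← cancel_mono (Abelian.image.ι (η (n + k * N))), Category.assoc, Abelian.image.fac, Category.assoc,
      hι, ← Category.assoc, Abelian.image.fac]
    exact hcomm.symm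
  have hinj : Function.Injective (Cohom.hhMap A (Abelian.factorThruImage (η (n + k * N))) 1) := by
    refine (injective_iff_map_eq_zero _).2 fun y hy => ?_
    obtain ⟨w, rfl⟩ := (Cohom.exact₂ (A := A) (kernelSeq_shortExact (η (n + k * N))) 1 y).1 hy
    rw [@Subsingleton.elim _ (hK _) w 0, map_zero]
  refine hinj ?_
  rw [map_zero, ← hhMap_comp, hfac, hhMap_comp, ← hq]
  refine (hhDelta_naturality (imageSeq_shortExact (η n)) (imageSeq_shortExact (η (n + k * N)))
    (ShortComplex.homMk μI μJ μQ hι hπ.symm) 0 q).trans ?_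
  suffices hz : Cohom.hhMap A μQ 0 q = 0 from (congrArg _ hz).trans (map_zero _)
  apply (ProjCoh.H0top _).injective
  rw [Cohom.hhMap_apply]
  refine (ProjCoh.H0top_map _ q).trans ?_
  rw [map_zero]
  change μQ.app ⊤ s = 0
  refine Ample.meq_of_cover (cokernel (η (n + k * N))) (fun z : S => W z.1) (fun _ => le_top) ?_ fun z => ?_
  · intro y _
    obtain ⟨w, hw, hy⟩ := Set.mem_iUnion₂.1 (hS (Set.mem_univ y))
    exact Opens.mem_iSup.2 ⟨⟨w, hw⟩, hy⟩
  obtain ⟨b, hb⟩ := hN₁ z.1 N ((Finset.le_sup z.2).trans hN)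
  have key : μJ.app (W z.1) (t z.1) = (η (n + k * N)).app (W z.1) b := by
    refine Eq.trans ?_ (ConcreteCategory.congr_hom
      (Scheme.Modules.restrictAdjunction_unit_app_app (f := U.ι) (F (n + k * N)) (W z.1)) b).symm
    change c.mraise a (t z.1) N = c.msectRes ((himg z.1).le.trans inf_le_left) b
    have h := congrArg (c.msectRes (himg z.1).le) hb
    rw [Cocycle.msectRes_msectRes, c.msectRes_mraise, Cocycle.msectRes_msectRes] at h
    rw [h]
    congr 1
    exact (c.msect_ext fun l => InvExt.mres_self M _).symm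
  refine Eq.trans ?_ (map_zero _).symm
  rw [← app_mres, ← ht z.1]
  change (cokernel.π (η n) ≫ μQ).app (W z.1) (t z.1) = 0
  rw [hπ]
  change (cokernel.π (η (n + k * N))).app (W z.1) (μJ.app (W z.1) (t z.1)) = 0
  rw [key]
  change (η (n + k * N) ≫ cokernel.π (η (n + k * N))).app (W z.1) b = 0
  rw [cokernel.condition]
  rfl

end GrothLib.Euler
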