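import Groth.Agent.Lib.Euler.SectionKill
import Groth.Agent.Lib.Euler.AmpleIff
import Groth.Agent.Lib.QCoh.Filtration

/-!
# Serre vanishing for twists of coherent modules with one-dimensional support
-/

set_option linter.style.haveILetI false
set_option backward.isDefEq.respectTransparency false

universe u

open CategoryTheory CategoryTheory.Limits AlgebraicGeometry TopologicalSpace Opposite
open GrothLib.Ample (Cocycle)

noncomputable section

namespace GrothLib.Euler

variable {X : Scheme.{u}}

theorem isCoh_modTwist [IsLocallyNoetherian X] (c : Cocycle X) {M : X.Modules} (hM : Coh.IsCoh M) (n : ℕ) :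
    Coh.IsCoh (c.modTwist M n) := by
  obtain ⟨e⟩ := c.nonempty_tensor_modTwist M n
  exact QCoh.isCoh_of_iso (show (tF (c.twist n)).obj M ≅ c.modTwist M n from e)
    (isCoh_tF hM (isFinLocFree_of_isInvertible (c.isInvertible_twist n)))

/-- An integral space of dimension at most one is a point or has dimension one. -/
theorem eq_genericPoint_or_dim_one [IsIntegral X] (hd : topologicalKrullDim X ≤ 1) :
    (∀ y : X, y = genericPoint X) ∨ topologicalKrullDim X = 1 := by
  by_cases h : ∀ y : X, y = genericPoint X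
  · exact Or.inl h
  · push Not at h
    obtain ⟨y, hy⟩ := h
    refine Or.inr (le_antisymm hd ?_)
    have hlt : y < genericPoint X := CurvePoints.lt_genericPoint hy
    let s : LTSeries X := (RelSeries.singleton _ y).snoc (genericPoint X) hlt
    have h1 : (1 : WithBot ℕ∞) ≤ Order.krullDim X :=
      le_trans (by simp [s]) (Order.LTSeries.length_le_krullDim s)
    exact h1.trans (Order.krullDim_eq_of_orderIso (irreducibleSetEquivPoints (α := ↥X))).ge

variable (k : Type u) [Field k] [X.Over (Spec (CommRingCat.of k))]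
  [IsProper (X ↘ Spec (CommRingCat.of k))]

include k in
theorem isSeparated_of_proper : X.IsSeparated := by
  constructor
  rw [← terminal.comp_from (X ↘ Spec (CommRingCat.of k))]
  infer_instance

include k in
/-- With a section having affine locus and finitely many closed zeros, twists lose their first cohomology. -/
theorem eventually_H1_zero_of_section (c : Cocycle X) {m : ℕ} (hm : 0 < m) (a : c.sect m ⊤)
    (hU : IsAffineOpen (c.locus a)) (hfin : (c.locus a : Set X)ᶜ.Finite)
    (hcl : ∀ x, x ∉ c.locus a → IsClosed ({x} : Set X)) {M : X.Modules} (hM : Coh.IsCoh M) :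
    ∃ n₀ : ℕ, ∀ n, n₀ ≤ n → Subsingleton (Coh.HH X (c.modTwist M n) 1) := by
  classical
  haveI := isNoetherian_of_proper (X := X) k
  haveI := isSeparated_of_proper (X := X) k
  haveI := hM.1
  have hkill : ∀ r, ∃ Q, ∀ N, Q ≤ N → Subsingleton (Coh.HH X (c.modTwist M (r + m * N)) 1) := by
    intro r
    haveI := finiteDimensional_HH k (isCoh_modTwist c hM r) 1
    let b := Module.finBasis k (Coh.HH X (c.modTwist M r) 1)
    choose Q hQ using fun i => exists_kill_H1 k c a hU hfin hcl M r (b i)
    refine ⟨Finset.univ.sup Q, fun N hN => subsingleton_of_forall_eq 0 fun y => ?_⟩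
    obtain ⟨x, rfl⟩ := surjective_H1_mraise k c a hfin hcl M r N y
    have h0 : Cohom.hhMap k (c.mraiseHom M a r N) 1 = 0 :=
      b.ext fun i => (hQ i N ((Finset.le_sup (Finset.mem_univ i)).trans hN)).trans rfl
    rw [h0]
    rfl
  choose Q hQ using hkill
  refine ⟨m * ((Finset.range m).sup Q + 1), fun n hn => ?_⟩
  rw [show n = n % m + m * (n / m) from (Nat.mod_add_div n m).symm]
  refine hQ _ _ ((Finset.le_sup (Finset.mem_range.2 (Nat.mod_lt n hm))).trans ?_)
  rw [Nat.le_div_iff_mul_le hm]
  calc (Finset.range m).sup Q * m ≤ m * ((Finset.range m).sup Q + 1) := by rw [mul_comm]; gcongr; omega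
    _ ≤ n := hn

/-- On an integral curve a cocycle of positive degree has a section with affine locus and finitely many zeros. -/
theorem exists_affine_section [IsIntegral X] (c : Cocycle X) (hdim : topologicalKrullDim X = 1)
    (hpos : 0 < Curv2.deg k X (c.twist 1) 1) :
    ∃ (n : ℕ) (a : c.sect (n + 1) ⊤), IsAffineOpen (c.locus a) ∧ (c.locus a : Set X)ᶜ.Finite ∧
      ∀ x, x ∉ c.locus a → IsClosed ({x} : Set X) := by
  haveI := isNoetherian_of_proper (X := X) k
  obtain ⟨n, a, hη, ha⟩ := ((c.isAmple_iff (Iso.refl _)).1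
    ((isAmple_iff_deg_pos k hdim (c.isInvertible_twist 1)).2 hpos)).2 (genericPoint X)
  exact ⟨n, a, ha, CurvePoints.finite_of_isClosed hdim.le (c.locus a).2.isClosed_compl fun h => h hη,
    fun x hx => CurvePoints.isClosed_singleton hdim.le fun h => hx (h ▸ hη)⟩

/-- Serre vanishing on an integral curve. -/
theorem eventually_H1_zero_integral [IsIntegral X] (c : Cocycle X) (hd : topologicalKrullDim X ≤ 1)
    (hpos : topologicalKrullDim X = 1 → 0 < Curv2.deg k X (c.twist 1) 1) {M : X.Modules} (hM : Coh.IsCoh M) :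
    ∃ n₀ : ℕ, ∀ n, n₀ ≤ n → Subsingleton (Coh.HH X (c.modTwist M n) 1) := by
  rcases eq_genericPoint_or_dim_one hd with h | h
  · refine ⟨0, fun n _ => ?_⟩
    have huniv : (Set.univ : Set X) = {genericPoint X} := Set.eq_singleton_iff_unique_mem.2 ⟨trivial, fun y _ => h y⟩
    refine subsingleton_HH_of_finite_support _ ((huniv ▸ Set.finite_singleton _).subset (Set.subset_univ _))
      (fun y _ => ?_) 1 le_rfl
    rw [h y, ← huniv]
    exact isClosed_univ
  · obtain ⟨n, a, hU, hfin, hcl⟩ := exists_affine_section k c h (hpos h)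
    exact eventually_H1_zero_of_section k c n.succ_pos a hU hfin hcl hM

/-- Serre vanishing: twists of a coherent module lose their first cohomology if the degree is positive on
every one-dimensional integral closed subscheme of the support, which has dimension at most one. -/
theorem eventually_H1_zero (c : Cocycle X) {M : X.Modules} (hM : Coh.IsCoh M)
    (hpos : ∀ (Z : Scheme.{u}) (i : Z ⟶ X), IsClosedImmersion i → IsIntegral Z →
      Set.range i ⊆ CohB1.support M → topologicalKrullDim Z ≤ 1 ∧ (topologicalKrullDim Z = 1 →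
        0 < @Curv2.deg k _ Z ⟨i ≫ X ↘ Spec (CommRingCat.of k)⟩ ((c.comap i).twist 1) 1)) :
    ∃ n₀ : ℕ, ∀ n, n₀ ≤ n → Subsingleton (Coh.HH X (c.modTwist M n) 1) := by
  haveI := isNoetherian_of_proper (X := X) k
  refine QCoh.coh_induction (fun M => ∃ n₀ : ℕ, ∀ n, n₀ ≤ n → Subsingleton (Coh.HH X (c.modTwist M n) 1))
    ?_ ?_ ?_ M hM ?_
  · rintro M N ⟨e⟩ ⟨n₀, h⟩
    refine ⟨n₀, fun n hn => ?_⟩
    haveI := h n hn
    obtain ⟨eM⟩ := c.nonempty_tensor_modTwist M n
    obtain ⟨eN⟩ := c.nonempty_tensor_modTwist N n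
    exact (hhEquiv (A := k) ((show (tF (c.twist n)).obj M ≅ c.modTwist M n from eM).symm ≪≫ (tF (c.twist n)).mapIso e ≪≫ eN) 1).toEquiv.symm.subsingleton
  · intro M hM0
    refine ⟨0, fun n _ => Cohom.subsingleton_HH_of_isZero ?_ 1⟩
    obtain ⟨eM⟩ := c.nonempty_tensor_modTwist M n
    exact IsZero.of_iso ((tF (c.twist n)).map_isZero hM0) (show (tF (c.twist n)).obj M ≅ c.modTwist M n from eM).symm
  · rintro S hS - - - ⟨n₁, h₁⟩ ⟨n₃, h₃⟩
    refine ⟨max n₁ n₃, fun n hn => ?_⟩
    have hS' := OX.tensor_map_shortExact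
      (OX.flat_of_isFinLocFree (isFinLocFree_of_isInvertible (c.isInvertible_twist n))) hS
    obtain ⟨e₁⟩ := c.nonempty_tensor_modTwist S.X₁ n
    obtain ⟨e₂⟩ := c.nonempty_tensor_modTwist S.X₂ n
    obtain ⟨e₃⟩ := c.nonempty_tensor_modTwist S.X₃ n
    haveI := h₁ n (le_of_max_le_left hn)
    haveI := h₃ n (le_of_max_le_right hn)
    have i₁ : Subsingleton (Coh.HH X ((tF (c.twist n)).obj S.X₁) 1) :=
      (hhEquiv (A := k) (show (tF (c.twist n)).obj S.X₁ ≅ c.modTwist S.X₁ n from e₁) 1).toEquiv.subsingleton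
    have i₃ : Subsingleton (Coh.HH X ((tF (c.twist n)).obj S.X₃) 1) :=
      (hhEquiv (A := k) (show (tF (c.twist n)).obj S.X₃ ≅ c.modTwist S.X₃ n from e₃) 1).toEquiv.subsingleton
    haveI : Subsingleton (Coh.HH X (S.map ((DCoh.tensorBi (X := X)).flip.obj (c.twist n))).X₁ 1) := i₁
    haveI : Subsingleton (Coh.HH X (S.map ((DCoh.tensorBi (X := X)).flip.obj (c.twist n))).X₃ 1) := i₃
    haveI : Subsingleton (Coh.HH X ((tF (c.twist n)).obj S.X₂) 1) :=
      subsingleton_of_exact (Cohom.exact₂ (A := k) hS' 1)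
    exact (hhEquiv (A := k) (show (tF (c.twist n)).obj S.X₂ ≅ c.modTwist S.X₂ n from e₂) 1).toEquiv.symm.subsingleton
  · intro Z i hi hZ N ι hι hN hN0 hsub
    letI : Z.Over (Spec (CommRingCat.of k)) := ⟨i ≫ X ↘ Spec (CommRingCat.of k)⟩
    haveI : IsProper (Z ↘ Spec (CommRingCat.of k)) :=
      inferInstanceAs (IsProper (i ≫ X ↘ Spec (CommRingCat.of k)))
    obtain ⟨hd, hp⟩ := hpos Z i hi hZ ((QCoh.range_subset_support_push i N ι hN hN0).trans hsub)
    obtain ⟨n₀, h⟩ := eventually_H1_zero_integral k (c.comap i) hd hp hN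
    refine ⟨n₀, fun n hn => ?_⟩
    haveI := h n hn
    haveI := hN.1
    haveI := (c.comap i).isQuasicoherent_modTwist N n
    obtain ⟨e⟩ := Cohom.nonempty_HH_equiv_pushforward i ((c.comap i).modTwist N n) 1
    obtain ⟨e'⟩ := c.nonempty_push_modTwist i N n
    haveI : Subsingleton (Coh.HH X ((Scheme.Modules.pushforward i).obj ((c.comap i).modTwist N n)) 1) :=
      e.symm.toEquiv.subsingleton
    exact (hhEquiv (A := k) e' 1).toEquiv.symm.subsingleton

end GrothLib.Euler
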