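import Groth.Agent.Lib.Euler.AmpleComponents
import Groth.Agent.Lib.Ample.EquationCocycle
import Groth.Agent.Lib.Ample.QuasiProj
import Groth.Agent.Lib.Chow.Projective
import Groth.Agent.Lib.ProjSp.OverAffine
import Mathlib.RingTheory.Ideal.Operations

/-!
# Proper schemes of dimension at most one are projective
-/

set_option linter.style.haveILetI false
set_option backward.isDefEq.respectTransparency false

universe u

open CategoryTheory CategoryTheory.Limits AlgebraicGeometry TopologicalSpace Opposite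
open GrothLib.Ample (Cocycle Equations res)

noncomputable section

namespace GrothLib.Euler

variable {X : Scheme.{u}} [IsNoetherian X]

/-- A closed non-generic point is the only zero of some function near it. -/
theorem exists_equation (hd : topologicalKrullDim X ≤ 1) {x : X} (hx : IsClosed ({x} : Set X))
    (hxg : x ∉ genericPoints (X : Type u)) {O : X.Opens} (hxO : x ∈ O) :
    ∃ (U : X.Opens) (f : Γ(X, U)), x ∈ U ∧ IsAffineOpen U ∧ U ≤ O ∧
      (X.basicOpen f : Set X) = (U : Set X) \ {x} := by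
  classical
  obtain ⟨W, hW, hxW, hWO⟩ := exists_isAffineOpen_mem_and_subset hxO
  have hgfin : (genericPoints (X : Type u)).Finite :=
    genericPoints.finite NoetherianSpace.finite_irreducibleComponents
  let G : Set W := {η | η.1 ∈ genericPoints (X : Type u)}
  have hG : G.Finite := hgfin.preimage Subtype.val_injective.injOn
  let p := hW.primeIdealOf ⟨x, hxW⟩
  have hnle : ¬ (p.asIdeal : Set Γ(X, W)) ⊆ ⋃ η ∈ (G : Set W), ((hW.primeIdealOf η).asIdeal : Set Γ(X, W)) := by
    rw [Ideal.subset_union_prime_finite hG ⟨x, hxW⟩ ⟨x, hxW⟩ fun η _ _ _ => (hW.primeIdealOf η).isPrime]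
    rintro ⟨η, hη, hle⟩
    have hs : p ⤳ hW.primeIdealOf η := (PrimeSpectrum.le_iff_specializes _ _).1 hle
    have hs' := hs.map hW.fromSpec.continuous
    rw [hW.fromSpec_primeIdealOf, hW.fromSpec_primeIdealOf] at hs'
    exact hxg ((Set.mem_singleton_iff.1 (hs'.mem_closed hx rfl)) ▸ hη)
  obtain ⟨f, hfp, hfη⟩ := Set.not_subset.1 hnle
  simp only [Set.mem_iUnion₂, not_exists] at hfη
  have hmem : ∀ y : W, y.1 ∈ X.basicOpen f ↔ f ∉ (hW.primeIdealOf y).asIdeal := fun y => by
    conv_lhs => rw [← hW.fromSpec_primeIdealOf y, ← Scheme.Hom.mem_preimage, hW.fromSpec_preimage_basicOpen f]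
    exact PrimeSpectrum.mem_basicOpen f _
  have hxf : x ∉ X.basicOpen f := fun h => (hmem ⟨x, hxW⟩).1 h hfp
  let Zf : Set X := (W : Set X) \ (X.basicOpen f : Set X)
  have hclp : ∀ y ∈ Zf, IsClosed ({y} : Set X) := fun y hy =>
    isClosed_singleton_of_notMem_genericPoints hd fun hyg =>
      hy.2 ((hmem ⟨y, hy.1⟩).2 (hfη ⟨y, hy.1⟩ hyg))
  have hZfin : Zf.Finite := by
    obtain ⟨S, hS, hSirr, hScl, hcov⟩ := NoetherianSpace.exists_finite_set_isClosed_irreducible
      (X.basicOpen f).2.isClosed_compl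
    choose η hη using fun C : S => QuasiSober.sober (hScl C C.2) (hSirr C C.2)
    haveI := hS.to_subtype
    refine (Set.finite_range η).subset fun y hy => ?_
    obtain ⟨C, hC, hyC⟩ := (hcov ▸ (hy.2 : y ∈ ((X.basicOpen f : Set X))ᶜ) : y ∈ ⋃₀ S)
    have hspec : η ⟨C, hC⟩ ⤳ y := (hη ⟨C, hC⟩).specializes hyC
    have hZη : η ⟨C, hC⟩ ∈ Zf := ⟨hspec.mem_open W.2 hy.1, hcov.ge (Set.mem_sUnion_of_mem (hη ⟨C, hC⟩).mem hC)⟩
    exact ⟨⟨C, hC⟩, (Set.mem_singleton_iff.1 (hspec.mem_closed (hclp _ hZη) rfl)).symm⟩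
  have hcl' : IsClosed (Zf \ {x}) := by
    rw [← Set.biUnion_of_singleton (Zf \ {x})]
    exact (hZfin.subset Set.diff_subset).isClosed_biUnion fun y hy => hclp y hy.1
  obtain ⟨U, hU, hxU, hUW⟩ := exists_isAffineOpen_mem_and_subset (x := x)
    (U := W ⊓ ⟨(Zf \ {x})ᶜ, hcl'.isOpen_compl⟩) ⟨hxW, fun h => h.2 rfl⟩
  have hUle : U ≤ W := fun y hy => (hUW hy).1
  refine ⟨U, res hUle f, hxU, hU, fun y hy => hWO (hUle hy), ?_⟩
  rw [Scheme.basicOpen_res]
  ext y
  constructor
  · rintro ⟨hyU, hyf⟩
    exact ⟨hyU, fun h => hxf (Set.mem_singleton_iff.1 h ▸ hyf)⟩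
  · rintro ⟨hyU, hyx⟩
    exact ⟨hyU, by_contra fun hyf => (hUW hyU).2 ⟨⟨hUle hyU, hyf⟩, hyx⟩⟩

/-- A finite set of closed non-generic points is the zero locus of a section of an invertible module. -/
theorem exists_cocycle_section (hd : topologicalKrullDim X ≤ 1) (S : Set X) (hS : S.Finite)
    (hcl : ∀ x ∈ S, IsClosed ({x} : Set X)) (hgen : ∀ x ∈ S, x ∉ genericPoints (X : Type u)) :
    ∃ (c : Cocycle X) (a : c.sect 1 ⊤), (c.locus a : Set X) = Sᶜ := by
  classical
  have hSc : IsClosed S := by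
    rw [← Set.biUnion_of_singleton S]
    exact hS.isClosed_biUnion hcl
  have hother : ∀ x : S, IsClosed (S \ {x.1}) := fun x => by
    rw [← Set.biUnion_of_singleton (S \ {x.1})]
    exact (hS.subset Set.diff_subset).isClosed_biUnion fun y hy => hcl y hy.1
  choose U f hxU hU hUO hf using fun x : S => exists_equation hd (hcl x x.2) (hgen x x.2)
    (O := ⟨(S \ {x.1})ᶜ, (hother x).isOpen_compl⟩) (fun h => h.2 rfl)
  let V : X.Opens := ⟨Sᶜ, hSc.isOpen_compl⟩
  let E : Equations X :=
    { ι := Option S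
      D := fun o => o.elim V U
      f := fun o => Option.rec (motive := fun o : Option S => Γ(X, (o.elim V U : X.Opens))) 1 f o
      V := V
      cover := eq_top_iff.2 fun y _ => by
        by_cases hy : y ∈ S
        · exact Opens.mem_iSup.2 ⟨some ⟨y, hy⟩, hxU ⟨y, hy⟩⟩
        · exact Opens.mem_iSup.2 ⟨none, hy⟩
      disjoint := by
        rintro (_ | x) (_ | y) hne z ⟨h1, h2⟩
        · exact h1
        · exact h1
        · exact h2
        · intro hzS
          refine hne (congrArg some (Subtype.ext ?_))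
          exact ((not_not.1 fun h => hUO x h1 ⟨hzS, h⟩).symm.trans (not_not.1 fun h => hUO y h2 ⟨hzS, h⟩))
      basicOpen_eq := by
        rintro (_ | x)
        · exact (Scheme.basicOpen_of_isUnit X isUnit_one).trans (inf_idem V).symm
        · refine Opens.ext ((hf x).trans ?_)
          ext z
          constructor
          · rintro ⟨hz, hzx⟩
            exact ⟨hz, fun hzS => hzx (not_not.1 fun h => hUO x hz ⟨hzS, h⟩)⟩
          · rintro ⟨hz, hzS⟩
            exact ⟨hz, fun h => hzS (Set.mem_singleton_iff.1 h ▸ x.2)⟩ }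
  exact ⟨E.cocycle, E.section₁, congrArg (fun O : X.Opens => (O : Set X)) E.locus_section₁⟩

/-- A section which misses a point of every one-dimensional component gives an ample cocycle. -/
theorem isAmple_of_section (k : Type u) [Field k] [X.Over (Spec (CommRingCat.of k))]
    [IsProper (X ↘ Spec (CommRingCat.of k))] (hd : topologicalKrullDim X ≤ 1) (c : Cocycle X) {n : ℕ}
    (a : c.sect (n + 1) ⊤) (hgen : genericPoints (X : Type u) ⊆ c.locus a)
    (hmiss : ∀ C ∈ irreducibleComponents (X : Type u), topologicalKrullDim C = 1 → ∃ x ∈ C, x ∉ c.locus a) :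
    CohB1.IsAmple (c.twist 1) := by
  refine (isAmple_iff_deg_pos_components k hd (c.isInvertible_twist 1)).2 fun C hC hC1 => ?_
  rw [show (X.irreducibleComponentIdeal C hC).radical =
      Scheme.IdealSheafData.vanishingIdeal ⟨C, isClosed_of_mem_irreducibleComponents C hC⟩ from by
    rw [← Scheme.IdealSheafData.vanishingIdeal_support]; rfl]
  let T : Closeds X := ⟨C, isClosed_of_mem_irreducibleComponents C hC⟩
  let j := (Scheme.IdealSheafData.vanishingIdeal T).subschemeι
  have hrange : Set.range j = C := by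
    rw [Scheme.IdealSheafData.range_subschemeι, Scheme.IdealSheafData.coe_support_vanishingIdeal]; rfl
  haveI := isIntegral_vanishingIdeal T hC.1
  letI : (Scheme.IdealSheafData.vanishingIdeal T).subscheme.Over (Spec (CommRingCat.of k)) :=
    ⟨j ≫ X ↘ Spec (CommRingCat.of k)⟩
  haveI : IsProper ((Scheme.IdealSheafData.vanishingIdeal T).subscheme ↘ Spec (CommRingCat.of k)) :=
    inferInstanceAs (IsProper (j ≫ X ↘ Spec (CommRingCat.of k)))
  have hdim := (homeomorph_range_dim j hrange).trans hC1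
  obtain ⟨d⟩ := c.nonempty_pullback_twist j 1
  show 0 < Curv2.deg k _ ((Scheme.Modules.pullback j).obj (c.twist 1)) 1
  rw [deg_of_iso k d]
  obtain ⟨η, hη⟩ := QuasiSober.sober hC.1 T.2
  have hηg : η ∈ genericPoints (X : Type u) := by
    show closure {η} ∈ irreducibleComponents (X : Type u)
    rw [hη.def]; exact hC
  obtain ⟨z, hz⟩ : η ∈ Set.range j := hrange ▸ hη.mem
  obtain ⟨x, hxC, hxa⟩ := hmiss C hC hC1
  obtain ⟨y, hy⟩ : x ∈ Set.range j := hrange ▸ hxC
  have hpos := deg_pos_of_locus k (c.comap j) hdim.le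
    (a := c.pullSect j (le_top : (⊤ : (Scheme.IdealSheafData.vanishingIdeal T).subscheme.Opens) ≤ j ⁻¹ᵁ ⊤) a)
    ⟨z, by rw [c.locus_pullSect]; show j z ∈ c.locus a; rw [hz]; exact hgen hηg⟩
    (fun htop => hxa (by
      have : y ∈ j ⁻¹ᵁ c.locus a := by rw [← c.locus_pullSect, htop]; trivial
      rw [← hy]; exact this))
  rw [deg_twist k _ hdim.le] at hpos
  exact pos_of_mul_pos_right hpos (Int.natCast_nonneg _)

/-- A proper scheme of dimension at most one carries an ample module. -/
theorem exists_ample_of_proper (k : Type u) [Field k] [X.Over (Spec (CommRingCat.of k))]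
    [IsProper (X ↘ Spec (CommRingCat.of k))] (hd : topologicalKrullDim X ≤ 1) :
    ∃ (c : Cocycle X) (a : c.sect 1 ⊤), CohB1.IsAmple (c.twist 1) ∧ genericPoints (X : Type u) ⊆ c.locus a := by
  classical
  have hpick : ∀ C : {C : Set X // C ∈ irreducibleComponents (X : Type u) ∧ topologicalKrullDim C = 1},
      ∃ x ∈ C.1, IsClosed ({x} : Set X) ∧ x ∉ genericPoints (X : Type u) := by
    rintro ⟨C, hC, hC1⟩
    obtain ⟨η, hη⟩ := QuasiSober.sober hC.1 (isClosed_of_mem_irreducibleComponents C hC)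
    obtain ⟨x, hxC, hxη⟩ : ∃ x ∈ C, x ≠ η := by
      by_contra h
      push Not at h
      haveI : Subsingleton C := ⟨fun a b => Subtype.ext ((h a a.2).trans (h b b.2).symm)⟩
      haveI : Subsingleton (IrreducibleCloseds C) := ⟨fun s t => by
        obtain ⟨a, ha⟩ := s.isIrreducible.nonempty
        obtain ⟨b, hb⟩ := t.isIrreducible.nonempty
        exact IrreducibleCloseds.ext (Set.ext fun z => ⟨fun _ => Subsingleton.elim b z ▸ hb, fun _ => Subsingleton.elim a z ▸ ha⟩)⟩
      have h0 : topologicalKrullDim C ≤ 0 := Order.krullDim_nonpos_of_subsingleton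
      exact absurd (hC1.symm.trans_le h0) (by norm_num)
    have hxg : x ∉ genericPoints (X : Type u) := fun hxg => by
      have h1 : closure ({x} : Set X) ≤ closure {η} := closure_minimal (Set.singleton_subset_iff.2 (hη.def ▸ hxC)) isClosed_closure
      have h2 : closure ({x} : Set X) = closure {η} :=
        le_antisymm h1 (hxg.2 isIrreducible_singleton.closure h1)
      exact hxη (Inseparable.eq (inseparable_iff_closure_eq.2 h2))
    exact ⟨x, hxC, isClosed_singleton_of_notMem_genericPoints hd hxg, hxg⟩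
  choose x hxC hxcl hxg using hpick
  haveI : Finite {C : Set X // C ∈ irreducibleComponents (X : Type u) ∧ topologicalKrullDim C = 1} :=
    (NoetherianSpace.finite_irreducibleComponents.subset fun C hC => hC.1).to_subtype
  obtain ⟨c, a, ha⟩ := exists_cocycle_section hd (Set.range x) (Set.finite_range x)
    (by rintro _ ⟨C, rfl⟩; exact hxcl C) (by rintro _ ⟨C, rfl⟩; exact hxg C)
  have hg : genericPoints (X : Type u) ⊆ c.locus a := by
    rw [ha]
    rintro y hy ⟨C, rfl⟩
    exact hxg C hy
  exact ⟨c, a, isAmple_of_section k hd c (n := 0) a hg fun C hC hC1 => ⟨x ⟨C, hC, hC1⟩, hxC ⟨C, hC, hC1⟩, fun h => by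
    have h' : x ⟨C, hC, hC1⟩ ∈ (c.locus a : Set X) := h
    rw [ha] at h'
    exact h' ⟨_, rfl⟩⟩, hg⟩

/-- A proper scheme of dimension at most one is projective. -/
theorem exists_closedImmersion_projSpace (k : Type u) [Field k] [X.Over (Spec (CommRingCat.of k))]
    [IsProper (X ↘ Spec (CommRingCat.of k))] (hd : topologicalKrullDim X ≤ 1) :
    ∃ (n : ℕ) (i : X ⟶ CohB1.ProjSpace n k), IsClosedImmersion i ∧
      i ≫ CohB1.ProjSpace.toSpec n k = X ↘ Spec (CommRingCat.of k) := by
  obtain ⟨c, -, hA, -⟩ := exists_ample_of_proper k hd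
  obtain ⟨n, i, hi, hif⟩ := Ample.exists_immersion_of_isAmple (X ↘ Spec (CommRingCat.of k)) hA
  haveI := hi
  haveI : IsProper (CohB1.ProjSpaceOver.toBase n (Spec (CommRingCat.of k))) := Chow.isProper_toBase n _
  haveI : IsProper (i ≫ CohB1.ProjSpaceOver.toBase n (Spec (CommRingCat.of k))) := hif ▸ inferInstance
  haveI : IsProper i := IsProper.of_comp i (CohB1.ProjSpaceOver.toBase n _)
  haveI := Chow.isClosedImmersion_of_isImmersion_of_isProper i
  haveI := Ample.ProjMap.isClosedImmersion_toProjSpace n k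
  refine ⟨n, i ≫ Ample.ProjMap.toProjSpace n k, inferInstance, ?_⟩
  rw [Category.assoc, Ample.ProjMap.toProjSpace_toSpec]
  exact hif

end GrothLib.Euler
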