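import Groth.Agent.Lib.Euler.Slope2
import Groth.Agent.Lib.Euler.Torsion

/-!
# Saturation and slopes of quotients
-/

set_option linter.style.haveILetI false

universe u

open CategoryTheory CategoryTheory.Limits AlgebraicGeometry TopologicalSpace

namespace GrothLib.Euler

variable (k : Type u) [Field k] {X : Scheme.{u}} [X.Over (Spec (CommRingCat.of k))]
  [IsProper (X ↘ Spec (CommRingCat.of k))] [IsIntegral X]

/-- The preimage in `E` of a subsheaf of a quotient `E / P`. -/
theorem exists_preimage {P E G : X.Modules} (i : P ⟶ E) [Mono i] (hP : Coh.IsCoh P) (hE : Coh.IsCoh E)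
    (j : G ⟶ cokernel i) [Mono j] (hG : Coh.IsCoh G) :
    ∃ (P' : X.Modules) (i' : P' ⟶ E), Mono i' ∧ Coh.IsCoh P' ∧ grank P' = grank P + grank G ∧
      degree k P' = degree k P + degree k G := by
  haveI := isNoetherian_of_proper (X := X) k
  have hC := QCoh.isCoh_cokernel i hP hE
  have hD := QCoh.isCoh_cokernel j hG hC
  let q := cokernel.π i ≫ cokernel.π j
  have hK := QCoh.isCoh_kernel q hE hD
  obtain ⟨d1, g1⟩ := degree_quotient k _ _ _ (cokernel_shortExact i) hP hE hC
  obtain ⟨d2, g2⟩ := degree_quotient k _ _ _ (cokernel_shortExact j) hG hC hD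
  obtain ⟨d3, g3⟩ := degree_quotient k _ _ _ (kernel_shortExact q) hK hE hD
  exact ⟨_, kernel.ι q, inferInstance, hK, by omega, by omega⟩

/-- A subsheaf of the largest possible slope has locally free quotient. -/
theorem isFinLocFreeOfRank_cokernel_of_subLe (hd : topologicalKrullDim X ≤ 1)
    (hpid : ∀ x : X, IsPrincipalIdealRing (X.presheaf.stalk x)) {P E : X.Modules} {d : ℤ} {n r : ℕ}
    (hn : 0 < n) (i : P ⟶ E) [Mono i] (hP : Coh.IsCoh P) (hE : FlatMod.IsFinLocFreeOfRank r E)
    (hle : SubLe k E d n) (heq : degree k P * (n : ℤ) = d * (grank P : ℤ)) :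
    FlatMod.IsFinLocFreeOfRank (grank (cokernel i)) (cokernel i) := by
  haveI := isNoetherian_of_proper (X := X) k
  refine isFinLocFreeOfRank_cokernel_of_max k hd hpid i hP (isCoh_of_isFinLocFree (FinCov.isFinLocFree_of_rank hE))
    fun P' i' hi' hP' hg => ?_
  haveI := hi'
  have h := hle.degree i' hi' (isFinLocFreeOfRank_of_mono hpid i' hP' (FinCov.isFinLocFree_of_rank hE))
  rw [hg, ← heq] at h
  exact le_of_mul_le_mul_right h (by exact_mod_cast hn)

/-- The maximal slope subbundle has quotient of smaller slopes. -/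
theorem quotient_slope_lt (hd : topologicalKrullDim X ≤ 1)
    (hpid : ∀ x : X, IsPrincipalIdealRing (X.presheaf.stalk x)) {E E₁ Q : X.Modules} {r r₁ s : ℕ}
    (hr₁ : 0 < r₁) (hE : FlatMod.IsFinLocFreeOfRank r E) (hE₁ : FlatMod.IsFinLocFreeOfRank r₁ E₁)
    (i₁ : E₁ ⟶ E) [Mono i₁]
    (hmax : ∀ (G : X.Modules) (r' : ℕ) (j : G ⟶ E), Mono j → 0 < r' → FlatMod.IsFinLocFreeOfRank r' G →
        Curv2.deg k X G r' * (r₁ : ℤ) ≤ Curv2.deg k X E₁ r₁ * (r' : ℤ) ∧
        (Curv2.deg k X G r' * (r₁ : ℤ) = Curv2.deg k X E₁ r₁ * (r' : ℤ) → r' ≤ r₁))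
    (j : Q ⟶ cokernel i₁) [Mono j] (hs : 0 < s) (hQ : FlatMod.IsFinLocFreeOfRank s Q) :
    Curv2.deg k X Q s * (r₁ : ℤ) < Curv2.deg k X E₁ r₁ * (s : ℤ) := by
  haveI := isNoetherian_of_proper (X := X) k
  obtain ⟨P', i', hi', hP', hg, hdeg⟩ := exists_preimage k i₁ (isCoh_of_isFinLocFree (FinCov.isFinLocFree_of_rank hE₁))
    (isCoh_of_isFinLocFree (FinCov.isFinLocFree_of_rank hE)) j (isCoh_of_isFinLocFree (FinCov.isFinLocFree_of_rank hQ))
  haveI := hi'
  have hP'' := isFinLocFreeOfRank_of_mono hpid i' hP' (FinCov.isFinLocFree_of_rank hE)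
  obtain ⟨h1, h2⟩ := hmax P' _ i' hi' (by rw [hg, grank_of_locFree hE₁]; omega) hP''
  rw [deg_eq_degree k hP'', hdeg, hg, grank_of_locFree hE₁, grank_of_locFree hQ, ← deg_eq_degree k hE₁,
    ← deg_eq_degree k hQ] at h1 h2
  push_cast at h1 h2
  rcases h1.lt_or_eq with h | h
  · linarith
  · have := h2 h
    omega

/-- Two subbundles of maximal slope with quotients of smaller slopes: one factors through the other. -/
theorem exists_factor_max_slope (hd : topologicalKrullDim X ≤ 1)
    (hpid : ∀ x : X, IsPrincipalIdealRing (X.presheaf.stalk x)) {E E₁ E₁' : X.Modules} {r r₁ r₁' : ℕ}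
    (hr₁ : 0 < r₁) (hr₁' : 0 < r₁') (hE : FlatMod.IsFinLocFreeOfRank r E)
    (hE₁ : FlatMod.IsFinLocFreeOfRank r₁ E₁) (hE₁' : FlatMod.IsFinLocFreeOfRank r₁' E₁')
    (i₁ : E₁ ⟶ E) (i₁' : E₁' ⟶ E) [Mono i₁] [Mono i₁']
    (hmax : SubLe k E (Curv2.deg k X E₁ r₁) r₁) (hmax' : SubLe k E (Curv2.deg k X E₁' r₁') r₁')
    (hq' : ∀ (Q : X.Modules) (s : ℕ) (j : Q ⟶ cokernel i₁'), Mono j → 0 < s → FlatMod.IsFinLocFreeOfRank s Q →
      Curv2.deg k X Q s * (r₁' : ℤ) < Curv2.deg k X E₁' r₁' * (s : ℤ)) :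
    ∃ φ : E₁ ⟶ E₁', φ ≫ i₁' = i₁ := by
  haveI := isNoetherian_of_proper (X := X) k
  have hEc := isCoh_of_isFinLocFree (FinCov.isFinLocFree_of_rank hE)
  have hE₁'c := isCoh_of_isFinLocFree (FinCov.isFinLocFree_of_rank hE₁')
  have hC := isFinLocFreeOfRank_cokernel_of_subLe k hd hpid hr₁' i₁' hE₁'c hE hmax'
    (by rw [grank_of_locFree hE₁', ← deg_eq_degree k hE₁'])
  have hslope : Curv2.deg k X E₁ r₁ * (r₁' : ℤ) = Curv2.deg k X E₁' r₁' * (r₁ : ℤ) :=
    le_antisymm (hmax' E₁ r₁ i₁ inferInstance hr₁ hE₁) (hmax E₁' r₁' i₁' inferInstance hr₁' hE₁')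
  obtain ⟨K, I, a, p, j, rK, rI, ha, -, hj, -, -, hK, hI, hrk, hdeg, h0, -⟩ :=
    exists_image_data k hpid (FinCov.isFinLocFree_of_rank hE₁) (FinCov.isFinLocFree_of_rank hC)
      (i₁ ≫ cokernel.π i₁')
  suffices hc : i₁ ≫ cokernel.π i₁' = 0 from
    ⟨(cokernel_shortExact i₁').exact.lift i₁ hc, (cokernel_shortExact i₁').exact.lift_f i₁ hc⟩
  refine h0 (by_contra fun hne => ?_)
  haveI := ha
  have h1 := hmax.degree (a ≫ i₁) inferInstance hK
  have h2 := hq' I rI j hj (Nat.pos_of_ne_zero hne) hI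
  rw [deg_eq_degree k hI] at h2
  rw [← deg_eq_degree k hE₁] at hdeg
  rw [grank_of_locFree hE₁] at hrk
  subst hrk
  push_cast at h1
  have h3 : Curv2.deg k X E₁ (rK + rI) * (rI : ℤ) ≤ degree k I * (↑rK + ↑rI) := by
    have hde : Curv2.deg k X E₁ (rK + rI) * ((rK : ℤ) + rI) = degree k K * (↑rK + ↑rI) + degree k I * (↑rK + ↑rI) := by
      rw [hdeg]; ring
    linarith
  have h4 := mul_lt_mul_of_pos_right h2 (show (0 : ℤ) < ((rK + rI : ℕ) : ℤ) by exact_mod_cast hr₁)
  have h5 := mul_le_mul_of_nonneg_right h3 (show (0 : ℤ) ≤ (r₁' : ℤ) from Int.natCast_nonneg _)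
  push_cast at h4 h5 hslope
  have h6 : Curv2.deg k X E₁ (rK + rI) * (rI : ℤ) * r₁' = Curv2.deg k X E₁' r₁' * rI * (↑rK + ↑rI) := by
    rw [mul_right_comm, hslope]; ring
  have h7 : degree k I * (r₁' : ℤ) * (↑rK + ↑rI) = degree k I * (↑rK + ↑rI) * r₁' := by ring
  linarith

/-- Maps of semistable bundles of the same slope. -/
theorem kernel_cokernel_same_slope (hd : topologicalKrullDim X ≤ 1)
    (hpid : ∀ x : X, IsPrincipalIdealRing (X.presheaf.stalk x)) {E F : X.Modules} {r s : ℕ}
    (hr : 0 < r) (hs : 0 < s) (hE : FlatMod.IsFinLocFreeOfRank r E) (hF : FlatMod.IsFinLocFreeOfRank s F)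
    (hEss : SubLe k E (Curv2.deg k X E r) r) (hFss : SubLe k F (Curv2.deg k X F s) s)
    (hμ : Curv2.deg k X E r * (s : ℤ) = Curv2.deg k X F s * (r : ℤ)) (f : E ⟶ F) :
    (∃ r₀ : ℕ, FlatMod.IsFinLocFreeOfRank r₀ (kernel f) ∧
        Curv2.deg k X (kernel f) r₀ * (r : ℤ) = Curv2.deg k X E r * (r₀ : ℤ) ∧
        SubLe k (kernel f) (Curv2.deg k X (kernel f) r₀) r₀) ∧
      (∃ s₀ : ℕ, FlatMod.IsFinLocFreeOfRank s₀ (cokernel f) ∧
        Curv2.deg k X (cokernel f) s₀ * (s : ℤ) = Curv2.deg k X F s * (s₀ : ℤ) ∧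
        SubLe k (cokernel f) (Curv2.deg k X (cokernel f) s₀) s₀) := by
  haveI := isNoetherian_of_proper (X := X) k
  have hEc := isCoh_of_isFinLocFree (FinCov.isFinLocFree_of_rank hE)
  have hFc := isCoh_of_isFinLocFree (FinCov.isFinLocFree_of_rank hF)
  have hKc := QCoh.isCoh_kernel f hEc hFc
  have hIc : Coh.IsCoh (Abelian.image f) := QCoh.isCoh_kernel _ hFc (QCoh.isCoh_cokernel f hEc hFc)
  have hQc := QCoh.isCoh_cokernel f hEc hFc
  have hK := isFinLocFreeOfRank_of_mono hpid (kernel.ι f) hKc (FinCov.isFinLocFree_of_rank hE)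
  have hI := isFinLocFreeOfRank_of_mono hpid (Abelian.image.ι f) hIc (FinCov.isFinLocFree_of_rank hF)
  obtain ⟨w1, hw1⟩ := QCoh.shortExact_kernel_image f
  have hw2 := QCoh.shortExact_image_cokernel f
  obtain ⟨d1, g1⟩ := degree_quotient k _ _ _ hw1 hKc hEc hIc
  obtain ⟨d2, g2⟩ := degree_quotient k _ _ _ hw2 hIc hFc hQc
  have e1 := hEss.degree (kernel.ι f) inferInstance hK
  have e2 := hFss.degree (Abelian.image.ι f) inferInstance hI
  rw [← deg_eq_degree k hE] at d1
  rw [← deg_eq_degree k hF] at d2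
  rw [grank_of_locFree hE] at g1
  rw [grank_of_locFree hF] at g2
  have hrZ : (0 : ℤ) < r := by exact_mod_cast hr
  have hsZ : (0 : ℤ) < s := by exact_mod_cast hs
  have g1' : (r : ℤ) = grank (kernel f) + grank (Abelian.image f) := by exact_mod_cast g1
  have g2' : (s : ℤ) = grank (Abelian.image f) + grank (cokernel f) := by exact_mod_cast g2
  set dE := Curv2.deg k X E r
  set dF := Curv2.deg k X F s
  set a := degree k (kernel f)
  set b := degree k (Abelian.image f)
  set rK := (grank (kernel f) : ℤ)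
  set rI := (grank (Abelian.image f) : ℤ)
  have e1' : dE * rI ≤ b * r := by
    have : dE * r = a * r + b * r := by rw [d1]; ring
    have : dE * r = dE * rK + dE * rI := by rw [g1']; ring
    linarith
  have e3 : dE * rI * s = dF * rI * r := by rw [mul_right_comm, hμ]; ring
  have e4 : b * r * s ≤ dF * rI * r := by
    rw [mul_right_comm]; exact mul_le_mul_of_nonneg_right e2 hrZ.le
  have e5 : dE * rI = b * r :=
    mul_right_cancel₀ hsZ.ne' (le_antisymm (mul_le_mul_of_nonneg_right e1' hsZ.le) (by linarith))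
  have e6 : b * (s : ℤ) = dF * rI := mul_right_cancel₀ hrZ.ne' (by rw [mul_right_comm, ← e5, e3])
  have hK' : a * (r : ℤ) = dE * rK := by
    have : dE * r = a * r + b * r := by rw [d1]; ring
    have : dE * r = dE * rK + dE * rI := by rw [g1']; ring
    linarith
  refine ⟨⟨grank (kernel f), hK, by rw [deg_eq_degree k hK]; exact hK', ?_⟩, ?_⟩
  · intro G n i hi hn hG
    have h := hEss.degree (i ≫ kernel.ι f) inferInstance hG
    rw [deg_eq_degree k hG, deg_eq_degree k hK]
    refine le_of_mul_le_mul_right ?_ hrZ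
    calc degree k G * rK * r = degree k G * r * rK := by ring
      _ ≤ dE * n * rK := mul_le_mul_of_nonneg_right h (Int.natCast_nonneg _)
      _ = a * n * r := by rw [mul_right_comm a, hK']; ring
  · have hQ : TorSh.IsTorsionFree (cokernel f) := by
      have ht := isTorsionFree_cokernel_of_max k hd (Abelian.image.ι f) hIc hFc fun P' i' hi' hP' hg => by
        have := hFss.degree i' hi' (haveI := hi'; isFinLocFreeOfRank_of_mono hpid i' hP' (FinCov.isFinLocFree_of_rank hF))
        rw [hg, ← e6] at this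
        exact le_of_mul_le_mul_right this hsZ
      let e : cokernel f ≅ cokernel (Abelian.image.ι f) :=
        hw2.gIsCokernel.coconePointUniqueUpToIso (colimit.isColimit _)
      intro x
      haveI := ht x
      exact Function.Injective.moduleIsTorsionFree (QCoh.stalkLin e.hom x) (QCoh.stalkLin_injective e.hom x) (map_smul _)
    have hQ' := isFinLocFreeOfRank_of_torsionFree hpid hQc hQ
    set c := degree k (cokernel f)
    set rQ := (grank (cokernel f) : ℤ)
    have hQd : c * (s : ℤ) = dF * rQ := by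
      have : dF * s = b * s + c * s := by rw [d2]; ring
      have : dF * s = dF * rI + dF * rQ := by rw [g2']; ring
      linarith
    refine ⟨grank (cokernel f), hQ', by rw [deg_eq_degree k hQ']; exact hQd, ?_⟩
    intro G n j hj hn hG
    let π := cokernel.π f
    let q := π ≫ cokernel.π j
    have hGc := isCoh_of_isFinLocFree (FinCov.isFinLocFree_of_rank hG)
    have hDc := QCoh.isCoh_cokernel j hGc hQc
    haveI := hj
    have hPc := QCoh.isCoh_kernel q hFc hDc
    obtain ⟨d3, g3⟩ := degree_quotient k _ _ _ (cokernel_shortExact j) hGc hQc hDc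
    obtain ⟨d4, g4⟩ := degree_quotient k _ _ _ (kernel_shortExact q) hPc hFc hDc
    have hP := hFss.degree (kernel.ι q) inferInstance
      (isFinLocFreeOfRank_of_mono hpid (kernel.ι q) hPc (FinCov.isFinLocFree_of_rank hF))
    rw [← deg_eq_degree k hF] at d4
    rw [← deg_eq_degree k hG] at d3
    rw [grank_of_locFree hF] at g4
    rw [grank_of_locFree hG] at g3
    have hgP : (grank (kernel q) : ℤ) = rI + n := by simp only [rI]; omega
    have hdP : degree k (kernel q) = b + Curv2.deg k X G n := by simp only [c, b, dF] at *; omega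
    rw [hgP, hdP] at hP
    rw [deg_eq_degree k hQ']
    refine le_of_mul_le_mul_right ?_ hsZ
    calc Curv2.deg k X G n * rQ * s = Curv2.deg k X G n * s * rQ := by ring
      _ ≤ dF * n * rQ := mul_le_mul_of_nonneg_right (by linarith) (Int.natCast_nonneg _)
      _ = c * n * s := by rw [mul_right_comm c, hQd]; ring

include k in
/-- A quotient of a bundle that is not an isomorphism has smaller rank, and conversely. -/
theorem pos_grank_kernel_of_not_isIso (hpid : ∀ x : X, IsPrincipalIdealRing (X.presheaf.stalk x))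
    {E F : X.Modules} {r s : ℕ} (hE : FlatMod.IsFinLocFreeOfRank r E) (hF : FlatMod.IsFinLocFreeOfRank s F)
    (p : E ⟶ F) [Epi p] (hp : ¬ IsIso p) : 0 < grank (kernel p) := by
  haveI := isNoetherian_of_proper (X := X) k
  have hK := isFinLocFreeOfRank_of_mono hpid (kernel.ι p) (QCoh.isCoh_kernel p
    (isCoh_of_isFinLocFree (FinCov.isFinLocFree_of_rank hE)) (isCoh_of_isFinLocFree (FinCov.isFinLocFree_of_rank hF)))
    (FinCov.isFinLocFree_of_rank hE)
  refine Nat.pos_of_ne_zero fun h => hp ?_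
  rw [h] at hK
  haveI := Preadditive.mono_of_isZero_kernel p (isZero_of_rank_zero hK)
  exact isIso_of_mono_of_epi p

/-- Slope conditions on quotients and on subbundles. -/
theorem quotient_iff_sub (hd : topologicalKrullDim X ≤ 1) (hpid : ∀ x : X, IsPrincipalIdealRing (X.presheaf.stalk x))
    {E : X.Modules} {r : ℕ} (hr : 0 < r) (hE : FlatMod.IsFinLocFreeOfRank r E) :
    ((∀ (F : X.Modules) (s : ℕ) (p : E ⟶ F), Epi p → 0 < s → FlatMod.IsFinLocFreeOfRank s F →
      Curv2.deg k X E r * (s : ℤ) ≤ Curv2.deg k X F s * (r : ℤ)) ↔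
      (∀ (G : X.Modules) (r' : ℕ) (i : G ⟶ E), Mono i → 0 < r' → FlatMod.IsFinLocFreeOfRank r' G →
      Curv2.deg k X G r' * (r : ℤ) ≤ Curv2.deg k X E r * (r' : ℤ))) ∧
    ((∀ (F : X.Modules) (s : ℕ) (p : E ⟶ F), Epi p → 0 < s → FlatMod.IsFinLocFreeOfRank s F → (¬ IsIso p) →
      Curv2.deg k X E r * (s : ℤ) < Curv2.deg k X F s * (r : ℤ)) ↔
      (∀ (G : X.Modules) (r' : ℕ) (i : G ⟶ E), Mono i → 0 < r' → FlatMod.IsFinLocFreeOfRank r' G → (¬ IsIso i) →
      Curv2.deg k X G r' * (r : ℤ) < Curv2.deg k X E r * (r' : ℤ))) := by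
  haveI := isNoetherian_of_proper (X := X) k
  have hEc := isCoh_of_isFinLocFree (FinCov.isFinLocFree_of_rank hE)
  have hrZ : (0 : ℤ) < r := by exact_mod_cast hr
  -- the kernel of a quotient
  have key : ∀ (F : X.Modules) (s : ℕ) (p : E ⟶ F), Epi p → 0 < s → FlatMod.IsFinLocFreeOfRank s F →
      FlatMod.IsFinLocFreeOfRank (grank (kernel p)) (kernel p) ∧ ¬ IsIso (kernel.ι p) ∧ r = grank (kernel p) + s ∧
      Curv2.deg k X E r = Curv2.deg k X (kernel p) (grank (kernel p)) + Curv2.deg k X F s := by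
    intro F s p hp hs hF
    haveI := hp
    have hFc := isCoh_of_isFinLocFree (FinCov.isFinLocFree_of_rank hF)
    have hKc := QCoh.isCoh_kernel p hEc hFc
    have hK := isFinLocFreeOfRank_of_mono hpid (kernel.ι p) hKc (FinCov.isFinLocFree_of_rank hE)
    obtain ⟨d, g⟩ := degree_quotient k _ _ _ (kernel_shortExact p) hKc hEc hFc
    rw [grank_of_locFree hE, grank_of_locFree hF] at g
    rw [← deg_eq_degree k hE, ← deg_eq_degree k hF, ← deg_eq_degree k hK] at d
    refine ⟨hK, fun hi => ?_, g, d⟩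
    have := (grank_of_iso (asIso (kernel.ι p))).trans (grank_of_locFree hE)
    omega
  -- the saturation of a subbundle
  have sat : ∀ (G : X.Modules) (r' : ℕ) (i : G ⟶ E), Mono i → FlatMod.IsFinLocFreeOfRank r' G →
      (r' = r ∧ Curv2.deg k X G r' ≤ Curv2.deg k X E r ∧ (Curv2.deg k X G r' = Curv2.deg k X E r → IsIso i)) ∨
      ∃ (F : X.Modules) (s : ℕ) (p : E ⟶ F), Epi p ∧ 0 < s ∧ FlatMod.IsFinLocFreeOfRank s F ∧ r = r' + s ∧
        Curv2.deg k X G r' + Curv2.deg k X F s ≤ Curv2.deg k X E r := by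
    intro G r' i hi hG
    haveI := hi
    have hGc := isCoh_of_isFinLocFree (FinCov.isFinLocFree_of_rank hG)
    have hCc := QCoh.isCoh_cokernel i hGc hEc
    obtain ⟨T, Q, ι, π, w, hT, hTc, hQc, hη, htf⟩ := exists_torsion_sequence hCc
    haveI := hT.epi_g
    have hQ := isFinLocFreeOfRank_of_torsionFree hpid hQc htf
    obtain ⟨d1, g1⟩ := degree_quotient k _ _ _ (cokernel_shortExact i) hGc hEc hCc
    obtain ⟨d2, g2⟩ := degree_quotient k _ _ _ hT hTc hCc hQc
    have gT := grank_eq_zero_of_notMem hη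
    have dT := (degree_nonneg_of_notMem k hd hTc hη).1
    rw [grank_of_locFree hE, grank_of_locFree hG] at g1
    rw [← deg_eq_degree k hE, ← deg_eq_degree k hG] at d1
    rw [← deg_eq_degree k hQ] at d2
    rcases Nat.eq_zero_or_pos (grank Q) with h0 | hpos
    · refine Or.inl ⟨by omega, ?_⟩
      have hdd := degree_le_of_mono k hd i hGc hEc (by rw [grank_of_locFree hG, grank_of_locFree hE]; omega)
      rw [← deg_eq_degree k hE, ← deg_eq_degree k hG] at hdd
      exact hdd
    · exact Or.inr ⟨Q, grank Q, cokernel.π i ≫ π, inferInstance, hpos, hQ, by omega, by omega⟩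
  constructor
  · constructor
    · intro h G r' i hi hr' hG
      rcases sat G r' i hi hG with ⟨rfl, hle, -⟩ | ⟨F, s, p, hp, hs, hF, hrs, hd'⟩
      · exact mul_le_mul_of_nonneg_right hle hrZ.le
      · have h1 := h F s p hp hs hF
        have h2 := mul_le_mul_of_nonneg_right hd' hrZ.le
        have h3 : Curv2.deg k X E r * (r : ℤ) = Curv2.deg k X E r * r' + Curv2.deg k X E r * s := by
          rw [← mul_add]; congr 1; exact_mod_cast hrs
        linarith
    · intro h F s p hp hs hF
      obtain ⟨hK, -, hrs, hd'⟩ := key F s p hp hs hF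
      have h1 : Curv2.deg k X (kernel p) (grank (kernel p)) * (r : ℤ) ≤ Curv2.deg k X E r * (grank (kernel p) : ℤ) := by
        rcases Nat.eq_zero_or_pos (grank (kernel p)) with h0 | hpos
        · rw [h0] at hK ⊢
          rw [deg_eq_degree k hK, degree_of_isZero k (isZero_of_rank_zero hK)]; simp
        · exact h _ _ (kernel.ι p) inferInstance hpos hK
      have h2 : Curv2.deg k X E r * (r : ℤ) = Curv2.deg k X (kernel p) (grank (kernel p)) * r + Curv2.deg k X F s * r := by
        rw [hd']; ring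
      have h3 : Curv2.deg k X E r * (r : ℤ) = Curv2.deg k X E r * (grank (kernel p) : ℤ) + Curv2.deg k X E r * s := by
        rw [← mul_add]; congr 1; exact_mod_cast hrs
      linarith
  · constructor
    · intro h G r' i hi hr' hG hni
      rcases sat G r' i hi hG with ⟨rfl, hle, heq⟩ | ⟨F, s, p, hp, hs, hF, hrs, hd'⟩
      · exact mul_lt_mul_of_pos_right (lt_of_le_of_ne hle fun e => hni (heq e)) hrZ
      · have h1 := h F s p hp hs hF fun hpi => by
          have := (grank_of_iso (asIso p)).symm.trans (grank_of_locFree hE)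
          rw [grank_of_locFree hF] at this
          omega
        have h2 := mul_le_mul_of_nonneg_right hd' hrZ.le
        have h3 : Curv2.deg k X E r * (r : ℤ) = Curv2.deg k X E r * r' + Curv2.deg k X E r * s := by
          rw [← mul_add]; congr 1; exact_mod_cast hrs
        linarith
    · intro h F s p hp hs hF hni
      obtain ⟨hK, hKi, hrs, hd'⟩ := key F s p hp hs hF
      haveI := hp
      have h1 := h _ _ (kernel.ι p) inferInstance (pos_grank_kernel_of_not_isIso k hpid hE hF p hni) hK hKi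
      have h2 : Curv2.deg k X E r * (r : ℤ) = Curv2.deg k X (kernel p) (grank (kernel p)) * r + Curv2.deg k X F s * r := by
        rw [hd']; ring
      have h3 : Curv2.deg k X E r * (r : ℤ) = Curv2.deg k X E r * (grank (kernel p) : ℤ) + Curv2.deg k X E r * s := by
        rw [← mul_add]; congr 1; exact_mod_cast hrs
      linarith

end GrothLib.Euler
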