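import Groth.Agent.Lib.Euler.Basic
import Groth.Agent.Lib.Euler.Coh
import Groth.Agent.Lib.QCoh.Extension

/-!
# Ranks are additive in short exact sequences of locally free modules
-/

universe u

open CategoryTheory CategoryTheory.Limits AlgebraicGeometry TopologicalSpace Opposite

namespace GrothLib.Euler

open GrothLib.QCoh (appLinear)

variable {X : Scheme.{u}}

theorem rank_add_of_shortExact (x : X) {S : ShortComplex X.Modules} (hS : S.ShortExact) {n₁ n₂ n₃ : ℕ}
    (h₁ : FlatMod.IsFinLocFreeOfRank n₁ S.X₁) (h₂ : FlatMod.IsFinLocFreeOfRank n₂ S.X₂)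
    (h₃ : FlatMod.IsFinLocFreeOfRank n₃ S.X₃) : n₂ = n₁ + n₃ := by
  obtain ⟨U₁, e₁, hx₁, he₁⟩ := FinCov.exists_frame_nhd_of_rank h₁ x
  obtain ⟨U₂, e₂, hx₂, he₂⟩ := FinCov.exists_frame_nhd_of_rank h₂ x
  obtain ⟨U₃, e₃, hx₃, he₃⟩ := FinCov.exists_frame_nhd_of_rank h₃ x
  obtain ⟨U, hU, hxU, hle⟩ := exists_isAffineOpen_mem_and_subset (x := x) (U := U₁ ⊓ U₂ ⊓ U₃) ⟨⟨hx₁, hx₂⟩, hx₃⟩
  let b₁ := he₁.basis U (hle.trans (inf_le_left.trans inf_le_left))
  let b₂ := he₂.basis U (hle.trans (inf_le_left.trans inf_le_right))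
  let b₃ := he₃.basis U (hle.trans inf_le_right)
  haveI : S.X₁.IsQuasicoherent := isQuasicoherent_of_isFinLocFree (FinCov.isFinLocFree_of_rank h₁)
  haveI : Nonempty U := ⟨⟨x, hxU⟩⟩
  haveI : Nontrivial Γ(X, U) := inferInstance
  have hi : Function.Injective (appLinear S.f U) := QCoh.app_injective hS U
  have hs : Function.Surjective (appLinear S.g U) := QCoh.app_surjective_of_isAffineOpen hS hU
  have hex : Function.Exact (appLinear S.f U) (appLinear S.g U) := fun b =>
    ⟨fun hb => QCoh.app_exact hS U b hb, by rintro ⟨a, rfl⟩; exact QCoh.app_comp_zero U a⟩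
  obtain ⟨l, hl⟩ := Module.projective_lifting_property (appLinear S.g U) LinearMap.id
    (h := Module.Projective.of_basis b₃) hs
  obtain ⟨e, -⟩ := hex.splitSurjectiveEquiv hi ⟨l, hl⟩
  haveI := Module.Finite.of_basis b₁
  haveI := Module.Finite.of_basis b₃
  haveI := Module.Free.of_basis b₁
  haveI := Module.Free.of_basis b₃
  have h := e.finrank_eq
  rw [Module.finrank_prod, Module.finrank_eq_card_basis b₁, Module.finrank_eq_card_basis b₂,
    Module.finrank_eq_card_basis b₃] at h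
  simpa using h

variable (k : Type u) [Field k] [X.Over (Spec (CommRingCat.of k))]

theorem euler_eq_zero_of_isEmpty [IsProper (X ↘ Spec (CommRingCat.of k))] [IsEmpty X] (F : X.Modules) :
    Curv2.euler k X F = 0 := by
  rw [euler_eq_of_finite_support k F (Set.toFinite _) (fun x _ => isEmptyElim x)]
  have : Subsingleton Γ(F, ⊤) := subsingleton_of_forall_eq 0 fun s =>
    QCoh.section_eq_zero_of_germ F s fun x _ => isEmptyElim x
  have : Subsingleton (Coh.HH X F 0) := (ProjCoh.H0top F).toEquiv.subsingleton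
  simp [Module.finrank_zero_of_subsingleton]

/-- The degree is additive in short exact sequences of locally free modules. -/
theorem deg_additive [IsProper (X ↘ Spec (CommRingCat.of k))] {S : ShortComplex X.Modules} (hS : S.ShortExact)
    {n₁ n₂ n₃ : ℕ} (h₁ : FlatMod.IsFinLocFreeOfRank n₁ S.X₁) (h₂ : FlatMod.IsFinLocFreeOfRank n₂ S.X₂)
    (h₃ : FlatMod.IsFinLocFreeOfRank n₃ S.X₃) :
    Curv2.deg k X S.X₂ n₂ = Curv2.deg k X S.X₁ n₁ + Curv2.deg k X S.X₃ n₃ := by
  have h := euler_additive k hS (isCoh_of_isFinLocFree (FinCov.isFinLocFree_of_rank h₁))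
    (isCoh_of_isFinLocFree (FinCov.isFinLocFree_of_rank h₂)) (isCoh_of_isFinLocFree (FinCov.isFinLocFree_of_rank h₃))
  rcases isEmpty_or_nonempty X with hX | ⟨⟨x⟩⟩
  · simp [Curv2.deg, euler_eq_zero_of_isEmpty k]
  · rw [Curv2.deg, Curv2.deg, Curv2.deg, h, rank_add_of_shortExact x hS h₁ h₂ h₃]
    push_cast
    ring

end GrothLib.Euler
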